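import Groth.Agent.H25Torelli.LowDegree
import Mathlib.Topology.Irreducible
import Mathlib.Data.Finset.Sym
import Mathlib.Combinatorics.Pigeonhole

/-!
# The combinatorial part of Torelli's theorem
-/

set_option autoImplicit false
set_option linter.unusedSectionVars false
universe u v w

namespace Groth.Agent.H25Torelli

variable {P P' : Type u} [AddCommGroup P] [AddCommGroup P'] {ι ι' : Type v} {G : Type w} [AddCommGroup G]

/-- A group identified with the classes of degree zero of a system with a base point. -/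
structure Emb (S : Sys P ι) (G : Type w) [AddCommGroup G] where
  σ : ι
  φ : G →+ P
  deg_φ : ∀ z, S.deg (φ z) = 0
  inj : Function.Injective φ
  surj : ∀ u, S.deg u = 0 → ∃ z, φ z = u

namespace Emb

variable {S : Sys P ι} {S' : Sys P' ι'} (E : Emb S G) (E' : Emb S' G)

/-- The image of a point. -/
noncomputable def jp (p : ι) : G :=
  (E.surj (S.pt p - S.pt E.σ) (by rw [map_sub, S.deg_pt, S.deg_pt, sub_self])).choose

theorem φ_jp (p : ι) : E.φ (E.jp p) = S.pt p - S.pt E.σ :=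
  (E.surj (S.pt p - S.pt E.σ) (by rw [map_sub, S.deg_pt, S.deg_pt, sub_self])).choose_spec

theorem jp_eq {p : ι} {z : G} (h : E.φ z = S.pt p - S.pt E.σ) : E.jp p = z :=
  E.inj ((E.φ_jp p).trans h.symm)

/-- The elements represented by effective classes of a given degree. -/
def W (r : ℕ) : Set G := {z | 1 ≤ S.h (E.φ z + r • S.pt E.σ)}

theorem mem_W {r : ℕ} {z : G} : z ∈ E.W r ↔ 1 ≤ S.h (E.φ z + r • S.pt E.σ) := Iff.rfl

theorem deg_shift (z : G) (r : ℕ) : S.deg (E.φ z + r • S.pt E.σ) = (r : ℤ) := by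
  rw [map_add, E.deg_φ, map_nsmul, S.deg_pt]; simp

theorem exists_cl {r : ℕ} {z : G} (h : z ∈ E.W r) :
    ∃ s : Multiset ι, s.card = r ∧ S.cl s = E.φ z + r • S.pt E.σ :=
  (S.one_le_h_iff (E.deg_shift z r)).1 h

theorem exists_of_cl (s : Multiset ι) : ∃ z ∈ E.W s.card, E.φ z + s.card • S.pt E.σ = S.cl s := by
  obtain ⟨z, hz⟩ := E.surj (S.cl s - s.card • S.pt E.σ) (by rw [map_sub, map_nsmul, Sys.deg_cl, S.deg_pt]; simp)
  have e : E.φ z + s.card • S.pt E.σ = S.cl s := by rw [hz, sub_add_cancel]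
  exact ⟨z, by rw [mem_W, e]; exact S.one_le_h_cl s, e⟩

theorem jp_mem_one (p : ι) : E.jp p ∈ E.W 1 := by
  rw [mem_W, E.φ_jp, one_smul, sub_add_cancel]
  simpa [Sys.cl] using S.one_le_h_cl {p}

theorem mono {r s : ℕ} (h : r ≤ s) : E.W r ⊆ E.W s := by
  intro z hz
  obtain ⟨t, -, ht⟩ := E.exists_cl hz
  obtain ⟨d, rfl⟩ := Nat.exists_eq_add_of_le h
  rw [mem_W, add_nsmul, ← _root_.add_assoc, ← ht, ← S.cl_replicate d E.σ, ← Sys.cl_add]
  exact S.one_le_h_cl _

theorem forall_add_mem_iff {g r : ℕ} (hg : S.g = g) (hr : r + 1 ≤ g) (d : G) :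
    (∀ z ∈ E.W r, z + d ∈ E.W (g - 1)) ↔ d ∈ E.W (g - 1 - r) := by
  have hsplit : (g - 1) • S.pt E.σ = (g - 1 - r) • S.pt E.σ + r • S.pt E.σ := by
    rw [← add_nsmul]; exact congrArg (· • S.pt E.σ) (by omega)
  have hd : S.deg (E.φ d + (g - 1 - r) • S.pt E.σ) + r = (S.g : ℤ) - 1 := by
    rw [E.deg_shift, hg]; omega
  rw [E.mem_W (z := d), ← S.forall_add_iff hd]
  refine ⟨fun h s hs => ?_, fun h z hz => ?_⟩
  · subst hs
    obtain ⟨z, hz, e⟩ := E.exists_of_cl s
    have := h z hz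
    rw [mem_W, map_add, hsplit] at this
    rwa [← e, show E.φ d + (g - 1 - s.card) • S.pt E.σ + (E.φ z + s.card • S.pt E.σ) =
      E.φ z + E.φ d + ((g - 1 - s.card) • S.pt E.σ + s.card • S.pt E.σ) by abel]
  · obtain ⟨s, hs, e⟩ := E.exists_cl hz
    have := h s hs
    rw [e] at this
    rwa [mem_W, map_add, hsplit, show E.φ z + E.φ d + ((g - 1 - r) • S.pt E.σ + r • S.pt E.σ) =
      E.φ d + (g - 1 - r) • S.pt E.σ + (E.φ z + r • S.pt E.σ) by abel]

theorem exists_symm {g : ℕ} (hg : S.g = g) (hg1 : 1 ≤ g) :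
    ∃ κ, ∀ z, z ∈ E.W (g - 1) ↔ κ - z ∈ E.W (g - 1) := by
  obtain ⟨κ, hκ⟩ := E.surj (S.K - ((g - 1) • S.pt E.σ + (g - 1) • S.pt E.σ)) (by
    rw [map_sub, S.deg_K, map_add, map_nsmul, S.deg_pt, hg, nsmul_eq_mul, mul_one]
    omega)
  refine ⟨κ, fun z => ?_⟩
  rw [mem_W, mem_W, ← S.h_symm (by rw [E.deg_shift, hg]; omega), map_sub, hκ,
    show S.K - ((g - 1) • S.pt E.σ + (g - 1) • S.pt E.σ) - E.φ z + (g - 1) • S.pt E.σ =
      S.K - (E.φ z + (g - 1) • S.pt E.σ) by abel]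

/-- The identification composed with negation. -/
def neg : Emb S G where
  σ := E.σ
  φ := -E.φ
  deg_φ z := by rw [AddMonoidHom.neg_apply, map_neg, E.deg_φ, neg_zero]
  inj a b h := E.inj (neg_injective h)
  surj u hu := by
    obtain ⟨z, hz⟩ := E.surj u hu
    exact ⟨-z, by rw [AddMonoidHom.neg_apply, map_neg, neg_neg, hz]⟩

theorem mem_W_neg {r : ℕ} {z : G} : z ∈ E.neg.W r ↔ -z ∈ E.W r := by
  rw [mem_W, mem_W, map_neg]; rfl

theorem jp_neg (p : ι) : E.neg.jp p = -E.jp p :=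
  E.neg.jp_eq (by show -E.φ (-E.jp p) = _; rw [map_neg, neg_neg, E.φ_jp]; rfl)

/-- The second curve lies in a translate of plus or minus `W r` of the first. -/
def Cov (r : ℕ) : Prop := ∃ a, (∀ p, E'.jp p - a ∈ E.W r) ∨ (∀ p, -E'.jp p - a ∈ E.W r)

theorem cov_neg_right {r : ℕ} : E.Cov E'.neg r ↔ E.Cov E' r := by
  simp only [Cov, jp_neg, neg_neg]
  exact exists_congr fun a => Or.comm

theorem cov_neg_left {r : ℕ} : E.neg.Cov E' r ↔ E.Cov E' r := by
  simp only [Cov, mem_W_neg, neg_sub]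
  constructor <;> rintro ⟨a, h | h⟩
  · exact ⟨-a, Or.inr fun p => by simpa [sub_eq_add_neg, add_comm] using h p⟩
  · exact ⟨-a, Or.inl fun p => by simpa [sub_eq_add_neg, add_comm] using h p⟩
  · exact ⟨-a, Or.inr fun p => by simpa [sub_eq_add_neg, add_comm] using h p⟩
  · exact ⟨-a, Or.inl fun p => by simpa [sub_eq_add_neg, add_comm] using h p⟩

theorem jp_injective (hg : 1 ≤ S.g) : Function.Injective E.jp := fun p q h =>
  S.pt_injective hg (sub_left_injective ((E.φ_jp p).symm.trans ((congrArg E.φ h).trans (E.φ_jp q))))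

end Emb

/-- Topological input: translates and reflections of the sets are closed and the sets are irreducible. -/
structure Topo {S : Sys P ι} (E : Emb S G) [TopologicalSpace G] : Prop where
  closed_add : ∀ (r : ℕ) (e : G), IsClosed {y | e + y ∈ E.W r}
  closed_sub : ∀ (r : ℕ) (e : G), IsClosed {y | e - y ∈ E.W r}
  irreducible : ∀ r, IsIrreducible (E.W r)

theorem exists_notMem_of_finset {X α : Type*} [TopologicalSpace X] {Y : Set X} (hY : IsIrreducible Y)
    (s : Finset α) (Z : α → Set X) (hZ : ∀ i ∈ s, IsClosed (Z i)) (h : ∀ i ∈ s, ∃ y ∈ Y, y ∉ Z i) :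
    ∃ y ∈ Y, ∀ i ∈ s, y ∉ Z i := by
  classical
  by_contra hc
  push_neg at hc
  have hsub : Y ⊆ ⋃ z ∈ s.image Z, z := fun y hy => by
    obtain ⟨i, hi, hiy⟩ := hc y hy
    exact Set.mem_biUnion (Finset.mem_image_of_mem Z hi) hiy
  obtain ⟨z, hz, hYz⟩ := isIrreducible_iff_sUnion_isClosed.1 hY (s.image Z) (fun z hz => by
    obtain ⟨i, hi, rfl⟩ := Finset.mem_image.1 hz
    exact hZ i hi) (by simpa [Set.sUnion_eq_biUnion] using hsub)
  obtain ⟨i, hi, rfl⟩ := Finset.mem_image.1 hz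
  obtain ⟨y, hy, hy'⟩ := h i hi
  exact hy' (hYz hy)

variable {S : Sys P ι} {S' : Sys P' ι'} (E : Emb S G) (E' : Emb S' G)

/-- The points of the second curve in a translate of the theta divisor of the first form a divisor of degree the genus. -/
theorem trace_theta {g : ℕ} (hg' : S'.g = g) (hg1 : 1 ≤ g) {c : G}
    (hc : ∀ z, z ∈ E.W (g - 1) ↔ z - c ∈ E'.W (g - 1)) (d : G) (hd : ∃ p, E'.jp p + d ∉ E.W (g - 1)) :
    ∃ M : Multiset ι', M.card = g ∧
      S'.cl M + (g - 1) • S'.pt E'.σ + E'.φ (d - c) = S'.K + S'.pt E'.σ ∧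
      ∀ q, q ∈ M ↔ E'.jp q + d ∈ E.W (g - 1) := by
  set P₀ := S'.pt E'.σ with hP₀
  set D₀ := S'.K + P₀ - ((g - 1) • P₀ + E'.φ (d - c)) with hD₀
  have hdeg : S'.deg D₀ = (S'.g : ℤ) := by
    rw [hD₀, map_sub, map_add, map_add, S'.deg_K, map_nsmul, hP₀, S'.deg_pt, E'.deg_φ, hg', nsmul_eq_mul, mul_one]
    omega
  have hiff : ∀ q, E'.jp q + d ∈ E.W (g - 1) ↔ 1 ≤ S'.h (D₀ - S'.pt q) := fun q => by
    have hd' : S'.deg (E'.φ (E'.jp q + d - c) + (g - 1) • P₀) = (S'.g : ℤ) - 1 := by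
      rw [hP₀, E'.deg_shift, hg']; omega
    have e : D₀ - S'.pt q = S'.K - (E'.φ (E'.jp q + d - c) + (g - 1) • P₀) := by
      rw [hD₀, add_sub_assoc (E'.jp q) d c, map_add, E'.φ_jp, ← hP₀]
      abel
    rw [hc, Emb.mem_W, e, S'.h_symm hd']
  obtain ⟨p, hp⟩ := hd
  rw [hiff] at hp
  obtain ⟨M, hM, hMD, -, -, hMq⟩ := S'.exists_unique_divisor hdeg (p := p) (by omega)
  refine ⟨M, by rw [hM, hg'], ?_, fun q => by rw [hiff, hMq]⟩
  rw [hMD, hD₀]
  abel

variable [TopologicalSpace G]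

/-- A curve cannot lie minimally in a translate of `W (r + 1)` with `1 ≤ r ≤ g - 2`. -/
theorem no_minimal_cover (hE : Topo E) (hE' : Topo E') {g r : ℕ} (hg : S.g = g) (hg' : S'.g = g) (hr1 : 1 ≤ r)
    (hrg : r + 2 ≤ g) {c : G} (hc : ∀ z, z ∈ E.W (g - 1) ↔ z - c ∈ E'.W (g - 1))
    (hpts : ∀ n : ℕ, ∃ s : Finset ι, s.card = n)
    {a : G} (ha : ∀ p, E'.jp p - a ∈ E.W (r + 1)) (h1 : ¬ E.Cov E' r) (h2 : ¬ E'.Cov E r) : False := by
  classical
  set n := g - 1 - r with hn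
  obtain ⟨κ, hκ⟩ := E.exists_symm hg (by omega)
  -- translations of the theta divisor met along the second curve
  let T : ι → G → Set ι' := fun p y => {q | E'.jp q + (y - a - E.jp p) ∈ E.W (g - 1)}
  let B : G → Set ι' := fun y =>
    {q | 1 ≤ S.h (S.K - (E.φ (E'.jp q - a) + (r + 1) • S.pt E.σ) - (E.φ y + n • S.pt E.σ))}
  let A : ι → Set ι' := fun p => {q | E'.jp q - a - E.jp p ∈ E.W r}
  have hAT : ∀ p, ∀ y ∈ E.W n, A p ⊆ T p y := fun p y hy q hq => by
    have h' := (E.forall_add_mem_iff hg (r := r) (by omega) y).2 hy _ hq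
    show E'.jp q + (y - a - E.jp p) ∈ E.W (g - 1)
    rwa [show E'.jp q + (y - a - E.jp p) = E'.jp q - a - E.jp p + y by abel]
  have hTiff : ∀ p, ∀ y ∈ E.W n, T p y ≠ Set.univ → T p y = A p ∪ B y := by
    intro p y hy hne
    obtain ⟨Y, hY, hY'⟩ := E.exists_cl hy
    ext q
    obtain ⟨s, hs, hs'⟩ := E.exists_cl (ha q)
    have hcard : (s + Y).card = S.g := by rw [Multiset.card_add, hs, hY, hg]; omega
    have hsplit : (g - 1) • S.pt E.σ = (r + 1) • S.pt E.σ + n • S.pt E.σ - S.pt E.σ := by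
      rw [← add_nsmul, show r + 1 + n = g - 1 + 1 by omega, succ_nsmul]; abel
    have key := S.sub_point_iff hcard p
    have eT : (q ∈ T p y) ↔ 1 ≤ S.h (S.cl (s + Y) - S.pt p) := by
      show E'.jp q + (y - a - E.jp p) ∈ E.W (g - 1) ↔ _
      rw [Emb.mem_W, Sys.cl_add, hs', hY', hsplit,
        show E'.jp q + (y - a - E.jp p) = E'.jp q - a + y - E.jp p by abel, map_sub, map_add, E.φ_jp]
      rw [show E.φ (E'.jp q - a) + E.φ y - (S.pt p - S.pt E.σ) +
          ((r + 1) • S.pt E.σ + n • S.pt E.σ - S.pt E.σ) =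
        E.φ (E'.jp q - a) + (r + 1) • S.pt E.σ + (E.φ y + n • S.pt E.σ) - S.pt p by abel]
    have eB : 1 ≤ S.h (S.K - S.cl (s + Y)) ↔ q ∈ B y := by
      rw [Sys.cl_add, hs', hY', ← sub_sub]; rfl
    refine ⟨fun h => ?_, ?_⟩
    · rcases key.1 (eT.1 h) with hp | hp
      · rcases Multiset.mem_add.1 hp with hp | hp
        · left
          obtain ⟨t, rfl⟩ := Multiset.exists_cons_of_mem hp
          rw [Sys.cl_cons] at hs'
          show 1 ≤ S.h (E.φ (E'.jp q - a - E.jp p) + r • S.pt E.σ)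
          rw [map_sub, E.φ_jp, show E.φ (E'.jp q - a) - (S.pt p - S.pt E.σ) + r • S.pt E.σ = S.cl t by
            rw [eq_sub_of_add_eq' hs', succ_nsmul]; abel]
          exact S.one_le_h_cl t
        · exfalso
          refine hne (Set.eq_univ_of_forall fun q' => ?_)
          obtain ⟨t, rfl⟩ := Multiset.exists_cons_of_mem hp
          rw [Sys.cl_cons] at hY'
          obtain ⟨u, -, hu⟩ := E.exists_cl (ha q')
          show 1 ≤ S.h (E.φ (E'.jp q' + (y - a - E.jp p)) + (g - 1) • S.pt E.σ)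
          rw [show E'.jp q' + (y - a - E.jp p) = E'.jp q' - a + y - E.jp p by abel, map_sub, map_add, E.φ_jp,
            hsplit, show E.φ (E'.jp q' - a) + E.φ y - (S.pt p - S.pt E.σ) +
              ((r + 1) • S.pt E.σ + n • S.pt E.σ - S.pt E.σ) = S.cl u + S.cl t by
              rw [hu, eq_sub_of_add_eq' hY']; abel, ← Sys.cl_add]
          exact S.one_le_h_cl _
      · exact Or.inr (eB.1 hp)
    · rintro (h | h)
      · exact hAT p y hy h
      · exact eT.2 (key.2 (Or.inr (eB.2 h)))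
  -- the bad parameters
  have hTclosed : ∀ p, IsClosed {y | T p y = Set.univ} := fun p => by
    rw [show {y | T p y = Set.univ} = ⋂ q, {y | (E'.jp q - a - E.jp p) + y ∈ E.W (g - 1)} by
      ext y
      simp only [Set.mem_setOf_eq, Set.eq_univ_iff_forall, Set.mem_iInter, T]
      exact forall_congr' fun q => by rw [show E'.jp q + (y - a - E.jp p) = E'.jp q - a - E.jp p + y by abel]]
    exact isClosed_iInter fun q => hE.closed_add _ _
  have hT : ∀ p, ∃ y ∈ E.W n, y ∉ {y | T p y = Set.univ} := by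
    intro p
    by_contra hcon
    push_neg at hcon
    refine h1 ⟨a + E.jp p, Or.inl fun q => ?_⟩
    have h' := (E.forall_add_mem_iff hg (r := n) (by omega) (E'.jp q - a - E.jp p)).1 fun y hy => by
      have h' : q ∈ T p y := (hcon y hy : T p y = Set.univ) ▸ Set.mem_univ q
      rwa [show y + (E'.jp q - a - E.jp p) = E'.jp q + (y - a - E.jp p) by abel]
    rwa [show g - 1 - n = r by omega, sub_sub] at h'
  choose y₁ hy₁ hy₁T using hT
  have hAfin : ∀ p, ∃ M : Multiset ι', A p ⊆ {q | q ∈ M} := fun p => by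
    obtain ⟨q, hq⟩ := Set.ne_univ_iff_exists_notMem _ |>.1 (hy₁T p)
    obtain ⟨M, -, -, hM⟩ := trace_theta E E' hg' (by omega) hc (y₁ p - a - E.jp p) ⟨q, hq⟩
    exact ⟨M, fun q hq => (hM q).2 (hAT p _ (hy₁ p) hq)⟩
  choose Af hAf using hAfin
  -- a sub-divisor on `A p` of degree `r + 1`
  let heavy : ι → (Sym ι' (r + 1)) → Set G := fun p e =>
    {y | 1 ≤ S'.h (S'.K + S'.pt E'.σ - ((g - 1) • S'.pt E'.σ + E'.φ (y - a - E.jp p - c)) - S'.cl e.1)}
  have hheavy : ∀ p e, IsClosed (heavy p e) ∧ ∃ y ∈ E.W n, y ∉ heavy p e := by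
    intro p e
    obtain ⟨e₀, he₀⟩ := E'.surj (S'.K + S'.pt E'.σ - (g - 1) • S'.pt E'.σ + E'.φ (a + E.jp p + c) - S'.cl e.1 -
        n • S'.pt E'.σ) (by
      simp only [map_sub, map_add, map_nsmul, Sys.deg_cl, S'.deg_pt, S'.deg_K, E'.deg_φ, hg', nsmul_eq_mul, mul_one,
        e.2]
      omega)
    have heq : ∀ y, y ∈ heavy p e ↔ e₀ - y ∈ E'.W n := fun y => by
      show 1 ≤ S'.h _ ↔ 1 ≤ S'.h _
      rw [map_sub E'.φ e₀ y, he₀, show y - a - E.jp p - c = y - (a + E.jp p + c) by abel, map_sub E'.φ y,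
        show S'.K + S'.pt E'.σ - (g - 1) • S'.pt E'.σ + E'.φ (a + E.jp p + c) - S'.cl e.1 - n • S'.pt E'.σ -
          E'.φ y + n • S'.pt E'.σ =
          S'.K + S'.pt E'.σ - ((g - 1) • S'.pt E'.σ + (E'.φ y - E'.φ (a + E.jp p + c))) - S'.cl e.1 by abel]
    refine ⟨by rw [show heavy p e = {y | e₀ - y ∈ E'.W n} from Set.ext heq]; exact hE'.closed_sub _ _, ?_⟩
    by_contra hcon
    push_neg at hcon
    refine h1 ⟨-(κ - e₀ - c), Or.inr fun q => ?_⟩
    have hd : ∀ y ∈ E.W n, y + (κ - e₀ - c - E'.jp q) ∈ E.W (g - 1) := fun y hy => by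
      have h' := (E'.forall_add_mem_iff hg' (r := r) (by omega) (e₀ - y)).2 ((heq y).1 (hcon y hy)) _
        (E'.mono hr1 (E'.jp_mem_one q))
      have h'' : E'.jp q + (e₀ - y) + c ∈ E.W (g - 1) := (hc _).2 (by rwa [add_sub_cancel_right])
      have h3 := (hκ _).1 h''
      rwa [show y + (κ - e₀ - c - E'.jp q) = κ - (E'.jp q + (e₀ - y) + c) by abel]
    have h' := (E.forall_add_mem_iff hg (r := n) (by omega) _).1 hd
    rwa [show g - 1 - n = r by omega,
      show κ - e₀ - c - E'.jp q = -E'.jp q - -(κ - e₀ - c) by abel] at h'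
  -- a general parameter
  obtain ⟨N, hN⟩ := hpts (g * g ^ (g - r) + 1)
  let idx : Finset (ι × Option (Sym ι' (r + 1))) :=
    N.biUnion fun p => (insert none ((((Af p).toFinset).sym (r + 1)).image some)).image fun o => (p, o)
  let Z : ι × Option (Sym ι' (r + 1)) → Set G := fun x => x.2.elim {y | T x.1 y = Set.univ} (heavy x.1)
  obtain ⟨y₀, hy₀, hgood⟩ := exists_notMem_of_finset (hE.irreducible n) idx Z (fun x _ => by
      rcases x with ⟨p, _ | e⟩
      · exact hTclosed p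
      · exact (hheavy p e).1) (fun x _ => by
      rcases x with ⟨p, _ | e⟩
      · exact ⟨y₁ p, hy₁ p, hy₁T p⟩
      · exact (hheavy p e).2)
  have hne : ∀ p ∈ N, T p y₀ ≠ Set.univ := fun p hp => hgood (p, none)
    (Finset.mem_biUnion.2 ⟨p, hp, Finset.mem_image_of_mem _ (Finset.mem_insert_self _ _)⟩)
  have hdiv : ∀ p ∈ N, ∃ M : Multiset ι', M.card = g ∧
      S'.cl M + (g - 1) • S'.pt E'.σ + E'.φ (y₀ - a - E.jp p - c) = S'.K + S'.pt E'.σ ∧
      ∀ q, q ∈ M ↔ q ∈ T p y₀ := fun p hp => by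
    obtain ⟨q, hq⟩ := (Set.ne_univ_iff_exists_notMem _).1 (hne p hp)
    exact trace_theta E E' hg' (by omega) hc _ ⟨q, hq⟩
  choose M hMc hMe hMT using hdiv
  obtain ⟨p₀, hp₀⟩ : N.Nonempty := Finset.card_pos.1 (by omega)
  let Bf : Finset ι' := (M p₀ hp₀).toFinset
  have hBf : Bf.card ≤ g := (Multiset.toFinset_card_le _).trans (hMc p₀ hp₀).le
  have hB : ∀ q ∈ B y₀, q ∈ Bf := fun q hq => Multiset.mem_toFinset.2 ((hMT p₀ hp₀ q).2 (by
    rw [hTiff p₀ y₀ hy₀ (hne p₀ hp₀)]; exact Or.inr hq))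
  have hpart : ∀ p (hp : p ∈ N), ∃ f : Fin (g - r) → Bf,
      ((List.ofFn fun i => (f i).1 : List ι') : Multiset ι') ≤ M p hp := by
    intro p hp
    have hlight : ((M p hp).filter (· ∈ A p)).card ≤ r := by
      by_contra hlt
      obtain ⟨t, ht, htc⟩ : ∃ t ≤ (M p hp).filter (· ∈ A p), t.card = r + 1 := by
        obtain ⟨l, hl⟩ := Quot.exists_rep ((M p hp).filter (· ∈ A p))
        refine ⟨(l.take (r + 1) : List ι'), hl ▸ Multiset.coe_le.2 (List.take_sublist _ _).subperm, ?_⟩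
        have : (l : Multiset ι').card = ((M p hp).filter (· ∈ A p)).card := congrArg Multiset.card hl
        rw [Multiset.coe_card, List.length_take]
        rw [Multiset.coe_card] at this
        omega
      have hmem : (⟨t, htc⟩ : Sym ι' (r + 1)) ∈ (Af p).toFinset.sym (r + 1) := by
        refine Finset.mem_sym_iff.2 fun q hq => ?_
        exact Multiset.mem_toFinset.2 (hAf p (Multiset.mem_filter.1 (Multiset.mem_of_le ht hq)).2)
      refine hgood (p, some ⟨t, htc⟩) (Finset.mem_biUnion.2 ⟨p, hp, Finset.mem_image_of_mem _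
        (Finset.mem_insert_of_mem (Finset.mem_image_of_mem _ hmem))⟩) ?_
      show 1 ≤ S'.h _
      obtain ⟨rest, hrest⟩ := Multiset.le_iff_exists_add.1 (ht.trans (Multiset.filter_le _ _))
      have e := hMe p hp
      rw [hrest, Sys.cl_add] at e
      rw [← e, show S'.cl t + S'.cl rest + (g - 1) • S'.pt E'.σ + E'.φ (y₀ - a - E.jp p - c) -
        ((g - 1) • S'.pt E'.σ + E'.φ (y₀ - a - E.jp p - c)) - S'.cl t = S'.cl rest by abel]
      exact S'.one_le_h_cl _
    have hsum : ((M p hp).filter (· ∈ A p)).card + ((M p hp).filter (¬ · ∈ A p)).card = g := by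
      rw [← Multiset.card_add, Multiset.filter_add_not, hMc]
    obtain ⟨l, hl⟩ := Quot.exists_rep ((M p hp).filter (¬ · ∈ A p))
    have hll : g - r ≤ l.length := by
      have : (l : Multiset ι').card = ((M p hp).filter (¬ · ∈ A p)).card := congrArg Multiset.card hl
      rw [Multiset.coe_card] at this
      omega
    have hlB : ∀ q ∈ l, q ∈ Bf := fun q hq => by
      have hq' : q ∈ (M p hp).filter (¬ · ∈ A p) := hl ▸ (Multiset.mem_coe.2 hq)
      obtain ⟨hqM, hqA⟩ := Multiset.mem_filter.1 hq'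
      have := (hMT p hp q).1 hqM
      rw [hTiff p y₀ hy₀ (hne p hp)] at this
      exact hB q (this.resolve_left hqA)
    refine ⟨fun i => ⟨l[i.1]'(by omega), hlB _ (List.getElem_mem _)⟩, ?_⟩
    refine le_trans ?_ ((hl.symm ▸ le_rfl : (l : Multiset ι') ≤ (M p hp).filter (¬ · ∈ A p)).trans
      (Multiset.filter_le _ _))
    rw [Multiset.coe_le, show (List.ofFn fun i : Fin (g - r) => l[i.1]'(by omega)) = l.take (g - r) from
      List.ext_getElem (by simp; omega) (fun i _ _ => by simp)]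
    exact (List.take_sublist _ _).subperm
  choose f hf using hpart
  obtain ⟨F, -, hF⟩ := Finset.exists_lt_card_fiber_of_mul_lt_card_of_maps_to
    (s := N.attach) (t := (Finset.univ : Finset (Fin (g - r) → Bf))) (f := fun p => f p.1 p.2)
    (n := g) (fun _ _ => Finset.mem_univ _) (by
      rw [Finset.card_univ, Fintype.card_fun, Fintype.card_coe, Fintype.card_fin, Finset.card_attach, hN, mul_comm]
      exact Nat.lt_succ_of_le (Nat.mul_le_mul_left g (Nat.pow_le_pow_left hBf _)))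
  set sF : Multiset ι' := ((List.ofFn fun i => (F i).1 : List ι') : Multiset ι') with hsF
  have hsFc : sF.card = g - r := by simp [hsF]
  obtain ⟨e₁, he₁⟩ := E'.surj (S'.K + S'.pt E'.σ - (g - 1) • S'.pt E'.σ - E'.φ (y₀ - a - c) - S'.cl sF -
      r • S'.pt E'.σ) (by
    simp only [map_sub, map_add, map_nsmul, Sys.deg_cl, S'.deg_pt, S'.deg_K, E'.deg_φ, hg', nsmul_eq_mul, mul_one,
      hsFc]
    omega)
  have hin : ∀ p ∈ N.attach.filter (fun p => f p.1 p.2 = F), E.jp p.1 + e₁ ∈ E'.W r := by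
    intro p hp
    have hFp := (Finset.mem_filter.1 hp).2
    obtain ⟨rest, hrest⟩ := Multiset.le_iff_exists_add.1 (hf p.1 p.2)
    rw [hFp] at hrest
    have e := hMe p.1 p.2
    rw [hrest, Sys.cl_add, ← hsF] at e
    rw [Emb.mem_W, map_add, he₁, ← e]
    rw [show y₀ - a - E.jp p.1 - c = y₀ - a - c - E.jp p.1 by abel, map_sub E'.φ _ (E.jp p.1),
      show E'.φ (E.jp p.1) + (S'.cl sF + S'.cl rest + (g - 1) • S'.pt E'.σ + (E'.φ (y₀ - a - c) - E'.φ (E.jp p.1)) -
        (g - 1) • S'.pt E'.σ - E'.φ (y₀ - a - c) - S'.cl sF - r • S'.pt E'.σ) + r • S'.pt E'.σ = S'.cl rest by abel]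
    exact S'.one_le_h_cl _
  -- too many points of the first curve
  obtain ⟨p₁, hp₁⟩ : ∃ p, E.jp p + e₁ ∉ E'.W r := by
    by_contra hcon
    push_neg at hcon
    exact h2 ⟨-e₁, Or.inl fun p => by rw [sub_neg_eq_add]; exact hcon p⟩
  obtain ⟨d, hd, hd'⟩ : ∃ d ∈ E'.W n, d + (E.jp p₁ + e₁) ∉ E'.W (g - 1) := by
    by_contra hcon
    push_neg at hcon
    have h' := (E'.forall_add_mem_iff hg' (r := n) (by omega) _).1 hcon
    rw [show g - 1 - n = r by omega] at h'
    exact hp₁ h'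
  have hc' : ∀ z, z ∈ E'.W (g - 1) ↔ z - -c ∈ E.W (g - 1) := fun z => by rw [hc]; simp
  obtain ⟨M', hM', -, hMq⟩ := trace_theta E' E hg (by omega) hc' (d + e₁) ⟨p₁, by
    rwa [show E.jp p₁ + (d + e₁) = d + (E.jp p₁ + e₁) by abel]⟩
  have hsub : (N.attach.filter fun p => f p.1 p.2 = F).image Subtype.val ⊆ M'.toFinset := by
    intro p hp
    obtain ⟨p', hp', rfl⟩ := Finset.mem_image.1 hp
    have h' := (E'.forall_add_mem_iff hg' (r := r) (by omega) d).2 hd _ (hin p' hp')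
    rw [Multiset.mem_toFinset, hMq]
    rwa [show E.jp p'.1 + (d + e₁) = E.jp p'.1 + e₁ + d by abel]
  have := (Finset.card_le_card hsub).trans ((Multiset.toFinset_card_le _).trans hM'.le)
  rw [Finset.card_image_of_injective _ Subtype.val_injective] at this
  omega

/-- One curve lies in a translate of plus or minus the other. -/
theorem exists_cov_one (hE : Topo E) (hE' : Topo E') (hEn : Topo E.neg) (hE'n : Topo E'.neg) {g : ℕ}
    (hg : S.g = g) (hg' : S'.g = g) (hg2 : 2 ≤ g) {c : G} (hc : ∀ z, z ∈ E.W (g - 1) ↔ z - c ∈ E'.W (g - 1))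
    (hpts : ∀ n : ℕ, ∃ s : Finset ι, s.card = n) (hpts' : ∀ n : ℕ, ∃ s : Finset ι', s.card = n) :
    E.Cov E' 1 ∨ E'.Cov E 1 := by
  obtain ⟨κ, hκ⟩ := E.exists_symm hg (by omega)
  obtain ⟨κ', hκ'⟩ := E'.exists_symm hg' (by omega)
  have hc' : ∀ z, z ∈ E'.W (g - 1) ↔ z - -c ∈ E.W (g - 1) := fun z => by rw [hc]; simp
  have hcn : ∀ z, z ∈ E.W (g - 1) ↔ z - (c + κ') ∈ E'.neg.W (g - 1) := fun z => by
    rw [E'.mem_W_neg, hc, hκ', show κ' - (z - c) = -(z - (c + κ')) by abel]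
  have hc'n : ∀ z, z ∈ E'.W (g - 1) ↔ z - (-c + κ) ∈ E.neg.W (g - 1) := fun z => by
    rw [E.mem_W_neg, hc', hκ, show κ - (z - -c) = -(z - (-c + κ)) by abel]
  have step : ∀ r, 1 ≤ r → r + 2 ≤ g → (E.Cov E' (r + 1) ∨ E'.Cov E (r + 1)) → E.Cov E' r ∨ E'.Cov E r := by
    intro r h1 h2 h
    by_contra hn
    push_neg at hn
    rcases h with ⟨a, ha | ha⟩ | ⟨a, ha | ha⟩
    · exact no_minimal_cover E E' hE hE' hg hg' h1 h2 hc hpts ha hn.1 hn.2
    · exact no_minimal_cover E E'.neg hE hE'n hg hg' h1 h2 hcn hpts (a := a)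
        (fun p => by rw [Emb.jp_neg]; exact ha p) (by rw [Emb.cov_neg_right]; exact hn.1)
        (by rw [Emb.cov_neg_left]; exact hn.2)
    · exact no_minimal_cover E' E hE' hE hg' hg h1 h2 hc' hpts' ha hn.2 hn.1
    · exact no_minimal_cover E' E.neg hE' hEn hg' hg h1 h2 hc'n hpts' (a := a)
        (fun p => by rw [Emb.jp_neg]; exact ha p) (by rw [Emb.cov_neg_right]; exact hn.2)
        (by rw [Emb.cov_neg_left]; exact hn.1)
  have key : ∀ d r, r + d = g - 1 → 1 ≤ r → E.Cov E' r ∨ E'.Cov E r := by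
    intro d
    induction d with
    | zero =>
      intro r hr h1
      obtain rfl : r = g - 1 := by omega
      refine Or.inl ⟨-c, Or.inl fun p => ?_⟩
      rw [sub_neg_eq_add, hc, add_sub_cancel_right]
      exact E'.mono h1 (E'.jp_mem_one p)
    | succ d ih => intro r hr h1; exact step r h1 (by omega) (ih (r + 1) (by omega) (by omega))
  exact key (g - 2) 1 (by omega) le_rfl

end Groth.Agent.H25Torelli
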