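import Groth.Agent.H25Torelli.UnivDiv

/-!
# Pullbacks of the theta divisor along reflected Abel maps
-/

set_option autoImplicit false
set_option linter.style.haveILetI false
set_option linter.unusedSectionVars false
set_option maxHeartbeats 1600000
set_option backward.isDefEq.respectTransparency.types false

noncomputable section

universe u

open CategoryTheory CategoryTheory.Limits AlgebraicGeometry TopologicalSpace Opposite MonoidalCategory
  CartesianMonoidalCategory MonObj
open Groth.Agent.H25AbCube (PC pc)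

namespace Groth.Agent.H25Torelli

open Groth.Agent.H25Jac (fst₁)

variable {k : Type u} [Field k]

/-- The inversion followed by a translation. -/
abbrev reflect (J : Over (Spec (CommRingCat.of k))) [GrpObj J] (a : One k ⟶ J) : J ⟶ J := (𝟙 J)⁻¹ ≫ Jac.transl J a

variable {C : Scheme.{u}} [C.Over (Spec (CommRingCat.of k))]
  {J : Over (Spec (CommRingCat.of k))} [GrpObj J] (j : Over.mk (C ↘ Spec (CommRingCat.of k)) ⟶ J)

/-- The family of reflected Abel maps over a morphism to the Jacobian. -/
abbrev diffMap {T : Over (Spec (CommRingCat.of k))} (a : T ⟶ J) : Over.mk (C ↘ Spec (CommRingCat.of k)) ⊗ T ⟶ J :=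
  (snd _ _ ≫ a) * (fst _ _ ≫ j)⁻¹

theorem comp_reflect [IsCommMonObj J] {T : Over (Spec (CommRingCat.of k))} (x : T ⟶ J) (a : One k ⟶ J) :
    x ≫ reflect J a = (toUnit T ≫ a) * x⁻¹ := by
  rw [reflect, Jac.transl, ← Category.assoc, GrpObj.comp_inv, Category.comp_id, MonObj.comp_mul, Category.comp_id,
    ← Category.assoc, toUnit_unique (x⁻¹ ≫ toUnit J) (toUnit T), mul_comm]

theorem reflect_reflect [IsCommMonObj J] (a : One k ⟶ J) : reflect J a ≫ reflect J a = 𝟙 J := by
  have h : reflect J a = (toUnit J ≫ a) * (𝟙 J)⁻¹ := by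
    rw [← comp_reflect (𝟙 J) a, Category.id_comp]
  rw [comp_reflect, h, mul_inv_rev, _root_.inv_inv, mul_comm (𝟙 J), mul_inv_cancel_left]

theorem slice_eq_lift {T : Over (Spec (CommRingCat.of k))} (v : One k ⟶ T) :
    slice (C := C) v = (lift (𝟙 (Over.mk (C ↘ Spec (CommRingCat.of k)))) (toUnit _ ≫ v)).left := by
  haveI : IsIso (fst₁ (C ↘ Spec (CommRingCat.of k))) :=
    inferInstanceAs (IsIso (pullback.fst (C ↘ Spec (CommRingCat.of k)) (𝟙 (Spec (CommRingCat.of k)))))
  show inv _ ≫ _ = _
  rw [IsIso.inv_comp_eq]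
  let Cv := Over.mk (C ↘ Spec (CommRingCat.of k))
  let l : Cv ⟶ Cv ⊗ T := lift (𝟙 _) (toUnit _ ≫ v)
  have e1 : l.left ≫ pullback.fst (C ↘ Spec (CommRingCat.of k)) T.hom = 𝟙 C :=
    congrArg CommaMorphism.left (lift_fst (𝟙 Cv) (toUnit Cv ≫ v))
  have e2 : l.left ≫ pullback.snd (C ↘ Spec (CommRingCat.of k)) T.hom = (C ↘ Spec (CommRingCat.of k)) ≫ v.left :=
    congrArg CommaMorphism.left (lift_snd (𝟙 Cv) (toUnit Cv ≫ v))
  apply pullback.hom_ext
  · refine Eq.trans ((pullback.lift_fst _ _ _).trans (Category.comp_id _)) ?_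
    rw [Category.assoc, e1, Category.comp_id]
  · refine Eq.trans (pullback.lift_snd _ _ _) ?_
    rw [Category.assoc, e2, ← Category.assoc]
    refine congrArg (· ≫ v.left) ?_
    show pullback.snd (C ↘ Spec (CommRingCat.of k)) (One k).hom =
      pullback.fst (C ↘ Spec (CommRingCat.of k)) (One k).hom ≫ (C ↘ Spec (CommRingCat.of k))
    rw [pullback.condition]
    exact (Category.comp_id _).symm

theorem slice_diffMap [IsCommMonObj J] {T : Over (Spec (CommRingCat.of k))} (a : T ⟶ J) (v : One k ⟶ T) :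
    slice (C := C) v ≫ (diffMap j a).left = (j ≫ reflect J (v ≫ a)).left := by
  rw [slice_eq_lift, ← Over.comp_left, MonObj.comp_mul, GrpObj.comp_inv, ← Category.assoc, ← Category.assoc,
    lift_snd, lift_fst, Category.id_comp, Category.assoc, comp_reflect]

variable [IsAlgClosed k] [IsProper (C ↘ Spec (CommRingCat.of k))] [Smooth (C ↘ Spec (CommRingCat.of k))]
  [GeometricallyConnected (C ↘ Spec (CommRingCat.of k))]

theorem smooth_diffMap {T : Over (Spec (CommRingCat.of k))} (a : T ⟶ J) [IsOpenImmersion a.left] :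
    Smooth (diffMap j a).left := by
  let Cv := Over.mk (C ↘ Spec (CommRingCat.of k))
  let sh : Cv ⊗ J ⟶ Cv ⊗ J := lift (fst _ _) (snd _ _ * (fst _ _ ≫ j)⁻¹)
  let sh' : Cv ⊗ J ⟶ Cv ⊗ J := lift (fst _ _) (snd _ _ * (fst _ _ ≫ j))
  haveI : IsIso sh := by
    refine ⟨sh', ?_, ?_⟩
    · apply CartesianMonoidalCategory.hom_ext
      · rw [Category.assoc, lift_fst, lift_fst, Category.id_comp]
      · rw [Category.assoc, lift_snd, MonObj.comp_mul, lift_snd, ← Category.assoc, lift_fst, Category.id_comp,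
          inv_mul_cancel_right]
    · apply CartesianMonoidalCategory.hom_ext
      · rw [Category.assoc, lift_fst, lift_fst, Category.id_comp]
      · rw [Category.assoc, lift_snd, MonObj.comp_mul, lift_snd, GrpObj.comp_inv, ← Category.assoc, lift_fst,
          Category.id_comp, mul_inv_cancel_right]
  let pa : Cv ⊗ T ⟶ Cv ⊗ J := lift (fst _ _) (snd _ _ ≫ a)
  have h : diffMap j a = (pa ≫ sh) ≫ snd Cv J := by
    rw [Category.assoc, lift_snd, MonObj.comp_mul, GrpObj.comp_inv, lift_snd, ← Category.assoc, lift_fst]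
  rw [h, Over.comp_left, Over.comp_left]
  haveI : IsIso sh.left := inferInstanceAs (IsIso ((Over.forget _).map sh))
  haveI : IsOpenImmersion pa.left := by
    rw [show pa.left = PicF.XTmap (C ↘ Spec (CommRingCat.of k)) a from pullback.hom_ext
      ((congrArg CommaMorphism.left (lift_fst (fst Cv T) (snd _ _ ≫ a))).trans
        ((pullback.lift_fst _ _ _).trans (Category.comp_id _)).symm)
      ((congrArg CommaMorphism.left (lift_snd (fst Cv T) (snd _ _ ≫ a))).trans (pullback.lift_snd _ _ _).symm)]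
    exact MorphismProperty.of_isPullback (H27SymProd.isPullback_XTmap _ a).flip inferInstance
  haveI : Smooth (snd Cv J).left := MorphismProperty.pullback_snd (P := @Smooth) (C ↘ Spec (CommRingCat.of k)) J.hom inferInstance
  infer_instance

theorem prod_eq_iInf {X : Scheme.{u}} {ι' : Type*} [Fintype ι'] (I : ι' → X.IdealSheafData)
    (hI : ∀ i, (I i).radical = I i) (h : (∏ i, I i).radical = ∏ i, I i) : ∏ i, I i = ⨅ i, I i := by
  classical
  rw [← h, ← Finset.inf_univ_eq_iInf]
  induction (Finset.univ : Finset ι') using Finset.induction_on with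
  | empty => rw [Finset.prod_empty, Scheme.IdealSheafData.one_eq_top, Scheme.IdealSheafData.radical_top, Finset.inf_empty]
  | insert a s ha ih => rw [Finset.prod_insert ha, Scheme.IdealSheafData.radical_mul, hI, ih, Finset.inf_insert]

namespace Dict

variable {hdim : topologicalKrullDim C = 1} {σ : Pts k C}
  {ψ : (ModFun.PicDeg (C ↘ Spec (CommRingCat.of k)) 0).Hom ⊤ J} {j : Over.mk (C ↘ Spec (CommRingCat.of k)) ⟶ J}
  (D : Dict hdim σ ψ j)

/-- The universal divisor is the pullback of the theta divisor. -/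
theorem comap_diffMap (g : ℕ) (hg : Curv2.genus k C = g) (hg1 : 1 ≤ g)
    {T : Over (Spec (CommRingCat.of k))} (a : T ⟶ J) [IsOpenImmersion a.left]
    (I : (PicF.XT (C ↘ Spec (CommRingCat.of k)) T).IdealSheafData)
    (hI : I = Scheme.IdealSheafData.vanishingIdeal I.support)
    (hw : ∀ v : One k ⟶ T, hCls k (D.Φ (v ≫ a) + g • ptCls hdim σ) = 1 ∧
      ∃ w : Fin g → Pts k C, (sys (k := k) hdim).cl (List.ofFn w : Multiset (Pts k C)) =
          D.Φ (v ≫ a) + g • ptCls hdim σ ∧ I.comap (slice v) = ∏ i, (w i).1.ker) :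
    (Scheme.IdealSheafData.vanishingIdeal ⟨W j (g - 1), D.isClosed_W _⟩).comap (diffMap j a).left = I := by
  classical
  haveI := D.proper; haveI := D.comm; haveI := smooth_diffMap j a
  let f := C ↘ Spec (CommRingCat.of k)
  haveI : LocallyOfFiniteType T.hom := by rw [← Over.w a]; infer_instance
  haveI : LocallyOfFiniteType (Over.mk f).hom := inferInstanceAs (LocallyOfFiniteType f)
  haveI : LocallyOfFiniteType (Over.mk f ⊗ T).hom :=
    inferInstanceAs (LocallyOfFiniteType (pullback.fst f T.hom ≫ f))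
  rw [comap_vanishingIdeal_of_smooth]
  refine Eq.trans ?_ hI.symm
  refine congrArg Scheme.IdealSheafData.vanishingIdeal (TopologicalSpace.Closeds.ext ?_)
  refine eq_of_ptSet (A := Over.mk f ⊗ T) ((D.isClosed_W _).preimage (diffMap j a).left.continuous) I.support.isClosed
    (Set.ext fun z => ?_)
  set x : One k ⟶ Over.mk f := z ≫ fst _ _
  set v : One k ⟶ T := z ≫ snd _ _
  obtain ⟨hh, w, hwE, hwI⟩ := hw v
  have hzx : z.left (pt₀ k) = slice (C := C) v (x.left (pt₀ k)) := by
    have e : z = x ≫ lift (𝟙 _) (toUnit _ ≫ v) := by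
      apply CartesianMonoidalCategory.hom_ext
      · rw [Category.assoc, lift_fst, Category.comp_id]
      · rw [Category.assoc, lift_snd, ← Category.assoc, toUnit_unique (x ≫ toUnit _) (𝟙 _), Category.id_comp]
    rw [slice_eq_lift, ← Scheme.Hom.comp_apply, ← Over.comp_left, ← e]
  -- membership in the divisor
  have hR : z ∈ ptSet (I.support : Set ↥(PicF.XT (C ↘ Spec (CommRingCat.of k)) T)) ↔ ∃ i, w i = Pts.of x := by
    rw [mem_ptSet, hzx]
    have hs : ∀ p : C, slice (C := C) v p ∈ (I.support : Set ↥(PicF.XT (C ↘ Spec (CommRingCat.of k)) T)) ↔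
        p ∈ ((I.comap (slice (C := C) v)).support : Set C) := fun p => by
      rw [Scheme.IdealSheafData.support_comap]; rfl
    rw [hs, hwI]
    have hsupp : ∀ (s : Finset (Fin g)), ((∏ i ∈ s, (w i).1.ker).support : Set C) = ⋃ i ∈ s, Set.range (w i).1 := by
      intro s
      induction s using Finset.induction_on with
      | empty => simp [Scheme.IdealSheafData.one_eq_top]
      | insert b s hb ih =>
        rw [Finset.prod_insert hb, Scheme.IdealSheafData.support_mul, TopologicalSpace.Closeds.coe_sup, ih,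
          Finset.set_biUnion_insert]
        congr 1
        haveI : IsClosedImmersion ((w b).1 ≫ f) := by rw [(w b).2]; infer_instance
        haveI := IsClosedImmersion.of_comp (w b).1 f
        rw [Scheme.Hom.support_ker, (w b).1.isClosedEmbedding.isClosed_range.closure_eq]
    rw [hsupp]
    simp only [Set.mem_iUnion, Finset.mem_univ, exists_true_left, Set.mem_range]
    constructor
    · rintro ⟨i, p, hp⟩
      refine ⟨i, ?_⟩
      rw [Subsingleton.elim (α := PrimeSpectrum k) p (pt₀ k)] at hp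
      exact congrArg Pts.of (hom_ext_pt (z := (w i).hom) (w := x) hp)
    · rintro ⟨i, hi⟩
      exact ⟨i, pt₀ k, by rw [hi]; rfl⟩
  rw [hR]
  -- membership in the theta divisor
  have hzF : z ≫ diffMap j a = (v ≫ a) * (x ≫ j)⁻¹ := by
    rw [MonObj.comp_mul, GrpObj.comp_inv, ← Category.assoc, ← Category.assoc]
  have hL : z ∈ ptSet ((diffMap j a).left ⁻¹' W j (g - 1)) ↔ z ≫ diffMap j a ∈ ptSet (W j (g - 1)) := by
    rw [mem_ptSet, mem_ptSet, Set.mem_preimage, ← Scheme.Hom.comp_apply, ← Over.comp_left]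
  refine hL.trans ?_
  set E := D.Φ (v ≫ a) + g • ptCls hdim σ with hE
  rw [hzF, D.mem_W, D.map_div, show D.Φ (x ≫ j) = ptCls hdim (Pts.of x) - ptCls hdim σ from D.abel (Pts.of x),
    show D.Φ (v ≫ a) - (ptCls hdim (Pts.of x) - ptCls hdim σ) + (g - 1) • ptCls hdim σ = E - ptCls hdim (Pts.of x) by
      have hgs : g • ptCls hdim σ = (g - 1) • ptCls hdim σ + ptCls hdim σ := by
        rw [← succ_nsmul]; exact congrArg (· • ptCls hdim σ) (by omega)
      rw [hE, hgs]
      abel]
  have hmem : Pts.of x ∈ (List.ofFn w : Multiset (Pts k C)) ↔ ∃ i, w i = Pts.of x := by simp [List.mem_ofFn]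
  rw [← hmem]
  constructor
  · intro h
    obtain ⟨t, -, ht⟩ := ((sys (k := k) hdim).one_le_h_iff (n := g - 1) (by
      have hd : (sys (k := k) hdim).deg E = (g : ℤ) := by
        rw [← hwE, Sys.deg_cl]; simp
      rw [map_sub, hd, show (sys (k := k) hdim).deg (ptCls hdim (Pts.of x)) = 1 from (sys (k := k) hdim).deg_pt _]
      omega)).1 h
    have h1 : (sys (k := k) hdim).cl (List.ofFn w : Multiset (Pts k C)) = (sys (k := k) hdim).cl (Pts.of x ::ₘ t) := by
      rw [Sys.cl_cons, ht, hwE, show (sys (k := k) hdim).pt (Pts.of x) = ptCls hdim (Pts.of x) from rfl, add_sub_cancel]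
    rw [(sys (k := k) hdim).uniq _ _ h1 ((congrArg (sys (k := k) hdim).h hwE).trans hh)]
    exact Multiset.mem_cons_self _ _
  · intro h
    obtain ⟨t, ht⟩ := Multiset.exists_cons_of_mem h
    rw [← hwE, ht, Sys.cl_cons, show (sys (k := k) hdim).pt (Pts.of x) = ptCls hdim (Pts.of x) from rfl, add_sub_cancel_left]
    exact (sys (k := k) hdim).one_le_h_cl t

/-- The ideal of a translate of the reflected theta divisor. -/
theorem thetaMinus_eq (g : ℕ) (a : One k ⟶ J) :
    Scheme.IdealSheafData.vanishingIdeal ⟨closure ((Jac.transl J a).left.base ''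
        (((𝟙 J)⁻¹).left.base '' W j (g - 1))), isClosed_closure⟩ =
      (Scheme.IdealSheafData.vanishingIdeal ⟨W j (g - 1), D.isClosed_W _⟩).comap (reflect J a).left := by
  haveI := D.proper; haveI := D.comm
  haveI : IsIso (reflect J a) := ⟨reflect J a, reflect_reflect a, reflect_reflect a⟩
  haveI : IsIso (reflect J a).left := inferInstanceAs (IsIso ((Over.forget _).map (reflect J a)))
  rw [comap_vanishingIdeal_of_smooth (reflect J a).left]
  congr 1
  refine TopologicalSpace.Closeds.ext ?_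
  have himg : (Jac.transl J a).left.base '' (((𝟙 J)⁻¹).left.base '' W j (g - 1)) =
      (reflect J a).left ⁻¹' W j (g - 1) := by
    rw [← Set.image_comp]
    show (fun x => (Jac.transl J a).left (((𝟙 J)⁻¹).left x)) '' _ = _
    have hinv : ∀ x, (reflect J a).left ((reflect J a).left x) = x := fun x => by
      rw [← Scheme.Hom.comp_apply, ← Over.comp_left, reflect_reflect]; rfl
    have hfun : (fun x => (Jac.transl J a).left (((𝟙 J)⁻¹).left x)) = fun x => (reflect J a).left x :=
      funext fun x => by rw [← Scheme.Hom.comp_apply, ← Over.comp_left]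
    rw [hfun]
    ext y
    exact ⟨fun ⟨x, hx, hxy⟩ => by rw [Set.mem_preimage, ← hxy, hinv]; exact hx, fun hy => ⟨_, hy, hinv y⟩⟩
  show closure _ = (reflect J a).left ⁻¹' W j (g - 1)
  rw [himg, ((D.isClosed_W _).preimage (reflect J a).left.continuous).closure_eq]


set_option maxHeartbeats 3200000 in
/-- The pullback of a non-special translate of the reflected theta divisor. -/
theorem comap_thetaMinus (hJ : Jac.IsJacobian (C ↘ Spec (CommRingCat.of k)) ⊤ J ψ)
    (hj : Jac.IsAbelJacobiAt (C ↘ Spec (CommRingCat.of k)) σ.1 ψ j)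
    (g : ℕ) (hg : Curv2.genus k C = g) (hg1 : 1 ≤ g) (a : One k ⟶ J)
    (ha : hCls k (D.Φ a + g • ptCls hdim σ) = 1) :
    ∃ w : Fin g → Pts k C, (sys (k := k) hdim).cl (List.ofFn w : Multiset (Pts k C)) = D.Φ a + g • ptCls hdim σ ∧
      (List.ofFn fun i => (w i).hom ≫ j).prod = a ∧
      (Scheme.IdealSheafData.vanishingIdeal ⟨closure ((Jac.transl J a).left.base ''
        (((𝟙 J)⁻¹).left.base '' W j (g - 1))), isClosed_closure⟩).comap j.left = ∏ i, (w i).1.ker := by
  haveI := D.proper; haveI := D.comm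
  obtain ⟨T, ιW, I, hop, -, -, hI, hlift, hpts⟩ := exists_good D hJ hj g hg
  haveI := hop
  obtain ⟨v, hv⟩ := hlift a ha
  obtain ⟨-, w, hw1, hw2, hw3⟩ := hpts v
  rw [hv] at hw1 hw2
  refine ⟨w, hw1, hw2, ?_⟩
  have hglob := comap_diffMap D g hg hg1 ιW I hI fun u => ⟨(hpts u).1, by
    obtain ⟨-, w', h1, -, h3⟩ := hpts u; exact ⟨w', h1, h3⟩⟩
  rw [← hw3, ← hglob, ← Scheme.IdealSheafData.comap_comp, slice_diffMap, hv, Over.comp_left,
    Scheme.IdealSheafData.comap_comp, D.thetaMinus_eq]

end Dict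

end Groth.Agent.H25Torelli
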