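import Groth.Agent.H25Torelli.BCTheta
import Groth.Agent.H25Torelli.Slices

/-!
# The class of the theta divisor over the algebraic closure
-/

set_option autoImplicit false
set_option linter.style.haveILetI false
set_option linter.unusedSectionVars false
set_option maxHeartbeats 1600000
set_option backward.isDefEq.respectTransparency.types false

noncomputable section

universe u

open CategoryTheory CategoryTheory.Limits AlgebraicGeometry TopologicalSpace Opposite MonoidalCategory
  CartesianMonoidalCategory MonObj
open Groth.Agent.H25AbCube (PC pc pullP exists_rep pullP_pc pullP_pullP pullP_id pc_eq_iff ev)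

namespace Groth.Agent.H25Torelli

variable {k K : Type u} [Field k] [Field K] [IsAlgClosed K] (g : Spec (CommRingCat.of K) ⟶ Spec (CommRingCat.of k))
  {C : Scheme.{u}} [C.Over (Spec (CommRingCat.of k))] [IsProper (C ↘ Spec (CommRingCat.of k))]
  [Smooth (C ↘ Spec (CommRingCat.of k))] [GeometricallyConnected (C ↘ Spec (CommRingCat.of k))]
  {J : Over (Spec (CommRingCat.of k))} [GrpObj J] [IsProper J.hom]

theorem transl_comp_transl_inv {k : Type u} [Field k] {J : Over (Spec (CommRingCat.of k))} [GrpObj J]
    (a : One k ⟶ J) : Jac.transl J a ≫ Jac.transl J a⁻¹ = 𝟙 J := by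
  rw [Jac.transl, Jac.transl, MonObj.comp_mul, Category.comp_id, ← Category.assoc,
    toUnit_unique ((𝟙 J * (toUnit J ≫ a)) ≫ toUnit J) (toUnit J), GrpObj.comp_inv, mul_inv_cancel_right]

set_option maxHeartbeats 3200000 in
/-- The ideal of a translate of the image of a power of the curve over the algebraic closure. -/
theorem comap_translW (hdim : topologicalKrullDim C = 1) (j : Over.mk (C ↘ Spec (CommRingCat.of k)) ⟶ J) (r : ℕ)
    (t : One k ⟶ J) (hcl : IsClosed (Set.range (sumMap j r ≫ Jac.transl J t).left)) :
    ∃ hW : IsClosed ((Jac.transl (Red.bc g J) (pj g (toUnit _ ≫ t))).left.base '' W (jK g j) r),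
      (Scheme.IdealSheafData.vanishingIdeal ⟨Set.range (sumMap j r ≫ Jac.transl J t).left, hcl⟩).comap
          (pullback.fst J.hom g) =
        Scheme.IdealSheafData.vanishingIdeal ⟨_, hW⟩ := by
  let f := C ↘ Spec (CommRingCat.of k)
  obtain ⟨hX, hrel⟩ := H25Jac.isSmoothProperCurve_of_connected f hdim
  haveI := hrel
  haveI : IsProper (Red.bc g J).hom := MorphismProperty.pullback_snd (P := @IsProper) _ g inferInstance
  haveI : IsProper (Over.mk (WidePullback.base fun (_ : Fin r) => (CK g C ↘ Spec (CommRingCat.of K)))).hom :=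
    isProper_powOver _ r
  let P := Over.mk (WidePullback.base fun (_ : Fin r) => f)
  haveI : IsProper P.hom := isProper_powOver _ r
  haveI : Smooth P.hom := (H25Jac.irreducibleSpace_powOver (f := f) r).2
  let F : P ⟶ J := sumMap j r ≫ Jac.transl J t
  let S := (Jac.transl (Red.bc g J) (pj g (toUnit _ ≫ t))).left.base '' W (jK g j) r
  have hW : IsClosed S := by
    refine isClosed_image _ ?_
    rw [W, ← Set.image_univ]
    exact isClosed_image _ isClosed_univ
  refine ⟨hW, ?_⟩
  haveI : Flat g := by
    haveI : IsAffineHom g := inferInstance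
    rw [← Spec.map_preimage g, HasRingHomProperty.Spec_iff (P := @Flat)]
    letI := (Spec.preimage g).hom.toAlgebra
    exact inferInstanceAs (Module.Flat k K)
  let FK := (Over.pullback g).map F
  haveI : IsReduced P.left := H13AlgSp.isReduced_of_smooth_mor P.hom
  haveI : IsProper (F.left ≫ J.hom) := by rw [Over.w F]; infer_instance
  haveI : IsProper F.left := IsProper.of_comp F.left J.hom
  have sq : IsPullback FK.left (pullback.fst P.hom g) (pullback.fst J.hom g) F.left := by
    refine IsPullback.of_right ?_ (H25Jac.map_fst g F) (IsPullback.of_hasPullback J.hom g).flip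
    rw [Over.w F, show FK.left ≫ pullback.snd J.hom g = pullback.snd P.hom g from Over.w FK]
    exact (IsPullback.of_hasPullback P.hom g).flip
  haveI : Flat (pullback.fst J.hom g) := MorphismProperty.pullback_fst (P := @Flat) _ _ inferInstance
  haveI : IsReduced ((Over.pullback g).obj P).left := by
    haveI : Smooth ((Over.pullback g).obj P).hom := MorphismProperty.pullback_snd (P := @Smooth) _ g inferInstance
    exact H13AlgSp.isReduced_of_smooth_mor ((Over.pullback g).obj P).hom
  haveI : QuasiCompact FK.left := MorphismProperty.of_isPullback sq.flip (inferInstance : QuasiCompact F.left)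
  have hV : Scheme.IdealSheafData.vanishingIdeal ⟨Set.range F.left, hcl⟩ = F.left.ker := by
    rw [ker_eq_vanishingIdeal_range F.left]
    exact congrArg _ (Closeds.ext hcl.closure_eq.symm)
  have hrange : Set.range FK.left = pullback.fst J.hom g ⁻¹' Set.range F.left := by
    rw [← sq.isoPullback_hom_fst]
    refine Eq.trans ?_ (Scheme.Pullback.range_fst _ _)
    exact sq.isoPullback.hom.surjective.range_comp _
  have hset : pullback.fst J.hom g ⁻¹' Set.range F.left = S := by
    refine eq_of_ptSet (A := Red.bc g J) (hcl.preimage (pullback.fst J.hom g).continuous) hW (Set.ext fun z => ?_)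
    obtain ⟨x, rfl⟩ := exists_pj g z
    rw [← mem_range_translW g j r t (toUnit _ ≫ t) rfl x]
    show pullback.fst J.hom g _ ∈ Set.range F.left ↔ _
    rw [pj_pt]
  rw [hV, H12AlgSp.comap_ker_of_flat sq, ker_eq_vanishingIdeal_range]
  refine congrArg _ (Closeds.ext ?_)
  show closure (Set.range FK.left) = S
  rw [hrange, hset, hW.closure_eq]

variable [IsCommMonObj J]

/-- The class of the ideal of the theta divisor over the algebraic closure. -/
theorem exists_bc_class (hdim : topologicalKrullDim C = 1) (j : Over.mk (C ↘ Spec (CommRingCat.of k)) ⟶ J) (r : ℕ)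
    (t : One k ⟶ J) (hcl : IsClosed (Set.range (sumMap j r ≫ Jac.transl J t).left))
    (hV : PicF.IsInvertible (ClSub.idealMod
      (Scheme.IdealSheafData.vanishingIdeal ⟨Set.range (sumMap j r ≫ Jac.transl J t).left, hcl⟩)))
    (hWK : IsClosed (W (jK g j) r)) :
    ∃ hΘ : PicF.IsInvertible (ClSub.idealMod (Scheme.IdealSheafData.vanishingIdeal ⟨W (jK g j) r, hWK⟩)),
      (show PC (Red.bc g J).left from pullP (pullback.fst J.hom g) (pc _ hV)) =
        ev (pc _ hΘ) (Jac.transl (Red.bc g J) (pj g (toUnit _ ≫ t))⁻¹) := by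
  obtain ⟨hW, e⟩ := comap_translW g hdim j r t hcl
  haveI : Flat g := by
    rw [← Spec.map_preimage g, HasRingHomProperty.Spec_iff (P := @Flat)]
    letI := (Spec.preimage g).hom.toAlgebra
    exact inferInstanceAs (Module.Flat k K)
  haveI : Flat (pullback.fst J.hom g) := MorphismProperty.pullback_fst (P := @Flat) _ _ inferInstance
  let a := pj g (toUnit _ ≫ t)
  let T := Jac.transl (Red.bc g J) a
  let T' := Jac.transl (Red.bc g J) a⁻¹
  have h1 : T ≫ T' = 𝟙 _ := transl_comp_transl_inv a
  have h2 : T' ≫ T = 𝟙 _ := by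
    have := transl_comp_transl_inv a⁻¹
    rwa [_root_.inv_inv] at this
  haveI : IsIso T := ⟨T', h1, h2⟩
  haveI : IsIso T' := ⟨T, h2, h1⟩
  haveI : IsIso T.left := inferInstanceAs (IsIso ((Over.forget _).map T))
  haveI : IsIso T'.left := inferInstanceAs (IsIso ((Over.forget _).map T'))
  have e' : (Scheme.IdealSheafData.vanishingIdeal ⟨W (jK g j) r, hWK⟩).comap T'.left =
      Scheme.IdealSheafData.vanishingIdeal ⟨T.left.base '' W (jK g j) r, hW⟩ := by
    rw [comap_vanishingIdeal_of_smooth T'.left]
    refine congrArg _ (Closeds.ext ?_)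
    have hinv : ∀ x, T'.left (T.left x) = x := fun x => by rw [← Scheme.Hom.comp_apply, ← Over.comp_left, h1]; rfl
    have hinv' : ∀ x, T.left (T'.left x) = x := fun x => by rw [← Scheme.Hom.comp_apply, ← Over.comp_left, h2]; rfl
    exact (congrFun (Set.image_eq_preimage_of_inverse hinv hinv') (W (jK g j) r)).symm
  have hc := (S8914.result _).1 hV
  have hcK := H29Blow.isEffCartierIdeal_comap_of_flat hc (pullback.fst J.hom g)
  have hcW : BlowUp.IsEffCartierIdeal (Scheme.IdealSheafData.vanishingIdeal ⟨W (jK g j) r, hWK⟩) := by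
    have h := H29Blow.isEffCartierIdeal_comap_of_flat hcK T.left
    rw [e, ← e', ← Scheme.IdealSheafData.comap_comp, ← Over.comp_left, h1, Over.id_left,
      Scheme.IdealSheafData.comap_id] at h
    exact h
  refine ⟨H29Blow.isInvertible_of_isEffCartierIdeal _ hcW, ?_⟩
  obtain ⟨φ⟩ := H12Pic.CurveFam.nonempty_pullback_idealMod_comap (pullback.fst J.hom g) hc hcK
  obtain ⟨φ'⟩ := H12Pic.CurveFam.nonempty_pullback_idealMod_comap T'.left hcW (e' ▸ (e ▸ hcK))
  show pullP _ _ = pullP _ _
  rw [← pullP_pc _ _ _ (H11Ample.isInvertible_pullback _ hV),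
    ← pullP_pc _ _ _ (H11Ample.isInvertible_pullback _ (H29Blow.isInvertible_of_isEffCartierIdeal _ hcW))]
  exact (pc_eq_iff _ _).2 ⟨φ ≪≫ eqToIso (congrArg ClSub.idealMod (e.trans e'.symm)) ≪≫ φ'.symm⟩

end Groth.Agent.H25Torelli
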