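import Groth.Agent.H25Torelli.Points
import Mathlib.AlgebraicGeometry.AlgClosed.Basic

/-!
# Images of powers of the curve in its Jacobian, on rational points
-/

set_option autoImplicit false
set_option linter.style.haveILetI false
set_option linter.unusedSectionVars false
set_option maxHeartbeats 1600000
set_option backward.isDefEq.respectTransparency.types false

noncomputable section

universe u

open CategoryTheory CategoryTheory.Limits AlgebraicGeometry TopologicalSpace Opposite MonoidalCategory
  CartesianMonoidalCategory MonObj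
open Groth.Agent.H25AbCube (PC)

namespace Groth.Agent.H25Torelli

open Groth.Agent.H27SymProd

variable {k : Type u} [Field k]

/-- The point of the spectrum of the field. -/
abbrev pt₀ (k : Type u) [Field k] : (One k).left := IsLocalRing.closedPoint k

/-- The rational points in a set. -/
def ptSet {A : Over (Spec (CommRingCat.of k))} (S : Set A.left) : Set (One k ⟶ A) := {z | z.left (pt₀ k) ∈ S}

theorem mem_ptSet {A : Over (Spec (CommRingCat.of k))} {S : Set A.left} {z : One k ⟶ A} :
    z ∈ ptSet S ↔ z.left (pt₀ k) ∈ S := Iff.rfl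

theorem forall_mem_iff {A : Over (Spec (CommRingCat.of k))} {S : Set A.left} {z : One k ⟶ A} :
    (∀ p, z.left.base p ∈ S) ↔ z ∈ ptSet S :=
  ⟨fun h => h _, fun h p => by rw [Subsingleton.elim (α := PrimeSpectrum k) p (pt₀ k)]; exact h⟩

variable [IsAlgClosed k]

theorem comp_list_prod {T T' A : Over (Spec (CommRingCat.of k))} [GrpObj A] (g : T' ⟶ T) :
    ∀ l : List (T ⟶ A), g ≫ l.prod = (l.map (g ≫ ·)).prod
  | [] => by simpa using MonObj.comp_one g
  | a :: l => by rw [List.prod_cons, MonObj.comp_mul, comp_list_prod g l, List.map_cons, List.prod_cons]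

theorem hom_ext_pt {A : Over (Spec (CommRingCat.of k))} [LocallyOfFiniteType A.hom] {z w : One k ⟶ A}
    (h : z.left (pt₀ k) = w.left (pt₀ k)) : z = w :=
  Over.OverMorphism.ext (ext_of_apply_closedPoint_eq (f := z.left) (g := w.left) A.hom (Over.w z) (Over.w w) h)

theorem exists_pt {A : Over (Spec (CommRingCat.of k))} [LocallyOfFiniteType A.hom] {x : A.left}
    (hx : IsClosed ({x} : Set A.left)) : ∃ z : One k ⟶ A, z.left (pt₀ k) = x :=
  ⟨Over.homMk (pointOfClosedPoint A.hom x hx) (pointOfClosedPoint_comp A.hom x hx), pointOfClosedPoint_apply A.hom x hx _⟩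

theorem isClosed_pt {A : Over (Spec (CommRingCat.of k))} [IsSeparated A.hom] (z : One k ⟶ A) :
    IsClosed ({z.left (pt₀ k)} : Set A.left) := by
  haveI : IsClosedImmersion (z.left ≫ A.hom) := by
    rw [Over.w z]
    exact inferInstanceAs (IsClosedImmersion (𝟙 _))
  haveI := IsClosedImmersion.of_comp z.left A.hom
  convert z.left.isClosedEmbedding.isClosed_range using 1
  refine Set.Subset.antisymm (by rintro _ rfl; exact ⟨_, rfl⟩) ?_
  rintro _ ⟨p, rfl⟩
  rw [Subsingleton.elim (α := PrimeSpectrum k) p (pt₀ k)]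
  rfl

theorem subset_iff {A : Over (Spec (CommRingCat.of k))} [LocallyOfFiniteType A.hom] {S T : Set A.left}
    (hS : IsClosed S) (hT : IsClosed T) : S ⊆ T ↔ ptSet S ⊆ ptSet T := by
  refine ⟨fun h z hz => h hz, fun h => ?_⟩
  haveI : JacobsonSpace A.left := LocallyOfFiniteType.jacobsonSpace A.hom
  rw [← closure_inter_closedPoints hS, hT.closure_subset_iff]
  rintro x ⟨hx, hx'⟩
  obtain ⟨z, rfl⟩ := exists_pt (A := A) hx'
  exact h hx

theorem eq_of_ptSet {A : Over (Spec (CommRingCat.of k))} [LocallyOfFiniteType A.hom] {S T : Set A.left}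
    (hS : IsClosed S) (hT : IsClosed T) (h : ptSet S = ptSet T) : S = T :=
  ((subset_iff hS hT).2 h.subset).antisymm ((subset_iff hT hS).2 h.superset)

/-- Rational points of an image lift. -/
theorem mem_ptSet_image {A B : Over (Spec (CommRingCat.of k))} [LocallyOfFiniteType A.hom] [IsSeparated B.hom]
    [LocallyOfFiniteType B.hom] (F : A ⟶ B) {S : Set A.left} (hS : IsClosed S) {z : One k ⟶ B} :
    z ∈ ptSet (F.left '' S) ↔ ∃ w ∈ ptSet S, w ≫ F = z := by
  constructor
  · rintro ⟨a, ha, hz⟩
    haveI : JacobsonSpace A.left := LocallyOfFiniteType.jacobsonSpace A.hom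
    obtain ⟨b, ⟨hb, hb'⟩, hbc⟩ := nonempty_inter_closedPoints (Z := S ∩ F.left ⁻¹' {z.left (pt₀ k)}) ⟨a, ha, hz⟩
      (hS.inter ((isClosed_pt z).preimage F.left.continuous)).isLocallyClosed
    obtain ⟨w, hw⟩ := exists_pt (A := A) hbc
    refine ⟨w, by rw [mem_ptSet, hw]; exact hb, hom_ext_pt ?_⟩
    rw [Over.comp_left, Scheme.Hom.comp_apply, hw]
    exact hb'
  · rintro ⟨w, hw, rfl⟩
    exact ⟨_, hw, rfl⟩

theorem isClosed_image {A B : Over (Spec (CommRingCat.of k))} [IsProper A.hom] [IsSeparated B.hom] (F : A ⟶ B)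
    {S : Set A.left} (hS : IsClosed S) : IsClosed (F.left '' S) := by
  haveI : IsProper (F.left ≫ B.hom) := by rw [Over.w F]; infer_instance
  haveI : IsProper F.left := IsProper.of_comp F.left B.hom
  exact F.left.isClosedMap _ hS

section Power

variable {C : Scheme.{u}} (f : C ⟶ Spec (CommRingCat.of k)) [IsProper f]

omit [IsAlgClosed k] in
theorem isProper_powOver : ∀ n : ℕ, IsProper (powOver f n).hom := by
  intro n
  induction n with
  | zero =>
    haveI : IsIso (powOver f 0).hom := by
      refine ⟨⟨WidePullback.lift (𝟙 _) (fun i => i.elim0) (fun i => i.elim0), ?_, ?_⟩⟩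
      · exact WidePullback.hom_ext _ _ _ (fun i => i.elim0) (by
          rw [Category.assoc, WidePullback.lift_base, Category.id_comp, Category.comp_id]
          rfl)
      · exact WidePullback.lift_base _ _ _ _
    infer_instance
  | succ n ih =>
    haveI := ih
    haveI : IsProper (restr f n).left := MorphismProperty.of_isPullback (H27SymProd.isPullback_restr f n).flip inferInstance
    rw [← Over.w (restr f n)]
    infer_instance

end Power

variable {C : Scheme.{u}} [C.Over (Spec (CommRingCat.of k))] [IsProper (C ↘ Spec (CommRingCat.of k))]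
  [Smooth (C ↘ Spec (CommRingCat.of k))] [GeometricallyConnected (C ↘ Spec (CommRingCat.of k))]
  {J : Over (Spec (CommRingCat.of k))} [GrpObj J]

omit [IsAlgClosed k] [IsProper (C ↘ Spec (CommRingCat.of k))] [Smooth (C ↘ Spec (CommRingCat.of k))]
  [GeometricallyConnected (C ↘ Spec (CommRingCat.of k))] in
/-- The sum map on a power of the curve. -/
abbrev sumMap (j : Over.mk (C ↘ Spec (CommRingCat.of k)) ⟶ J) (r : ℕ) :
    Over.mk (WidePullback.base fun (_ : Fin r) => (C ↘ Spec (CommRingCat.of k))) ⟶ J :=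
  (List.ofFn fun i : Fin r =>
    (Over.homMk (WidePullback.π (fun (_ : Fin r) => (C ↘ Spec (CommRingCat.of k))) i)
      (WidePullback.π_arrow (fun (_ : Fin r) => (C ↘ Spec (CommRingCat.of k))) i) :
      Over.mk (WidePullback.base fun (_ : Fin r) => (C ↘ Spec (CommRingCat.of k))) ⟶
        Over.mk (C ↘ Spec (CommRingCat.of k))) ≫ j).prod

/-- The image of the `r`-th power of the curve. -/
abbrev W (j : Over.mk (C ↘ Spec (CommRingCat.of k)) ⟶ J) (r : ℕ) : Set J.left := Set.range (sumMap j r).left.base

namespace Dict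

variable {hdim : topologicalKrullDim C = 1} {σ : Pts k C}
  {ψ : (ModFun.PicDeg (C ↘ Spec (CommRingCat.of k)) 0).Hom ⊤ J} {j : Over.mk (C ↘ Spec (CommRingCat.of k)) ⟶ J}
  (D : Dict hdim σ ψ j)

include D

theorem isClosed_W (r : ℕ) : IsClosed (W j r) := by
  haveI := D.proper
  haveI : IsProper (Over.mk (WidePullback.base fun (_ : Fin r) => (C ↘ Spec (CommRingCat.of k)))).hom :=
    isProper_powOver _ r
  rw [W, ← Set.image_univ]
  exact isClosed_image _ isClosed_univ

theorem isClosed_transl (a : One k ⟶ J) {S : Set J.left} (hS : IsClosed S) :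
    IsClosed ((Jac.transl J a).left.base '' S) := by
  haveI := D.proper
  exact isClosed_image _ hS

theorem isClosed_inv {S : Set J.left} (hS : IsClosed S) : IsClosed (((𝟙 J)⁻¹).left.base '' S) := by
  haveI := D.proper
  exact isClosed_image _ hS

omit D in
theorem comp_transl (w a : One k ⟶ J) : w ≫ Jac.transl J a = w * a := by
  rw [Jac.transl, MonObj.comp_mul, Category.comp_id, ← Category.assoc, toUnit_unique (w ≫ toUnit J) (𝟙 _),
    Category.id_comp]

theorem mem_transl (a z : One k ⟶ J) {S : Set J.left} (hS : IsClosed S) :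
    z ∈ ptSet ((Jac.transl J a).left.base '' S) ↔ z * a⁻¹ ∈ ptSet S := by
  haveI := D.proper
  refine (mem_ptSet_image _ hS).trans ⟨?_, fun h => ⟨_, h, ?_⟩⟩
  · rintro ⟨w, hw, rfl⟩
    rwa [comp_transl, mul_inv_cancel_right]
  · rw [comp_transl, inv_mul_cancel_right]

theorem mem_inv (z : One k ⟶ J) {S : Set J.left} (hS : IsClosed S) :
    z ∈ ptSet (((𝟙 J)⁻¹).left.base '' S) ↔ z⁻¹ ∈ ptSet S := by
  haveI := D.proper
  refine (mem_ptSet_image _ hS).trans ⟨?_, fun h => ⟨_, h, ?_⟩⟩
  · rintro ⟨w, hw, rfl⟩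
    rwa [GrpObj.comp_inv, Category.comp_id, _root_.inv_inv]
  · rw [GrpObj.comp_inv, Category.comp_id, _root_.inv_inv]

theorem Φ_prod (r : ℕ) (b : Fin r → Pts k C) :
    D.Φ (List.ofFn fun i => (b i).hom ≫ j).prod =
      (sys (k := k) hdim).cl (List.ofFn b : Multiset (Pts k C)) - r • ptCls hdim σ := by
  have h : List.map D.Φ (List.ofFn fun i => (b i).hom ≫ j) =
      List.ofFn fun i => ptCls hdim (b i) - ptCls hdim σ := by
    rw [List.map_ofFn]
    exact congrArg List.ofFn (funext fun i => D.abel (b i))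
  rw [D.map_list_prod, h, List.sum_ofFn, Finset.sum_sub_distrib, Finset.sum_const, Finset.card_univ, Fintype.card_fin,
    Sys.cl, Multiset.map_coe, Multiset.sum_coe, List.map_ofFn, List.sum_ofFn]
  rfl

/-- The rational points of the image of a power of the curve. -/
theorem mem_W (r : ℕ) (z : One k ⟶ J) :
    z ∈ ptSet (W j r) ↔ 1 ≤ (sys (k := k) hdim).h (D.Φ z + r • ptCls hdim σ) := by
  haveI := D.proper
  haveI : IsProper (Over.mk (WidePullback.base fun (_ : Fin r) => (C ↘ Spec (CommRingCat.of k)))).hom :=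
    isProper_powOver _ r
  have hdeg : (sys (k := k) hdim).deg (D.Φ z + r • ptCls hdim σ) = (r : ℤ) := by
    show degCls k _ = _
    have hn : ∀ m : ℕ, degCls k (m • ptCls hdim σ) = (m : ℤ) := fun m => by
      induction m with
      | zero => rw [zero_smul, degCls_zero (k := k) hdim]; rfl
      | succ m ih => rw [succ_nsmul, degCls_add (k := k) hdim, ih, degCls_ptCls]; push_cast; rfl
    rw [degCls_add (k := k) hdim, D.deg_eq, hn, zero_add]
  rw [(sys (k := k) hdim).one_le_h_iff hdeg, W, ← Set.image_univ, mem_ptSet_image _ isClosed_univ]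
  constructor
  · rintro ⟨w, -, rfl⟩
    let b : Fin r → Pts k C := fun i => Pts.of (w ≫ Over.homMk (WidePullback.π (fun (_ : Fin r) => (C ↘ Spec (CommRingCat.of k))) i)
      (WidePullback.π_arrow (fun (_ : Fin r) => (C ↘ Spec (CommRingCat.of k))) i))
    refine ⟨(List.ofFn b : Multiset (Pts k C)), by simp, ?_⟩
    rw [comp_list_prod, List.map_ofFn]
    refine Eq.symm (Eq.trans (congrArg (D.Φ · + r • ptCls hdim σ) ?_) ((congrArg (· + r • ptCls hdim σ) (D.Φ_prod r b)).trans (sub_add_cancel _ _)))
    exact congrArg List.prod (congrArg List.ofFn (funext fun i => (Category.assoc _ _ _).symm))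
  · rintro ⟨s, hs, hsD⟩
    obtain ⟨l, rfl⟩ := Quot.exists_rep s
    change (l : Multiset (Pts k C)).card = r at hs
    rw [Multiset.coe_card] at hs
    subst hs
    let b : Fin l.length → Pts k C := l.get
    refine ⟨Over.homMk (WidePullback.lift (𝟙 (Spec (CommRingCat.of k))) (fun i => (b i).1) (fun i => (b i).2))
      (WidePullback.lift_base _ _ _ _), trivial, D.injective ?_⟩
    rw [comp_list_prod, List.map_ofFn]
    refine Eq.trans (congrArg D.Φ ?_) ((D.Φ_prod _ b).trans ?_)
    swap
    · rw [List.ofFn_get]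
      exact sub_eq_iff_eq_add.2 hsD
    refine congrArg List.prod (congrArg List.ofFn (funext fun i => ?_))
    show _ ≫ _ ≫ j = _
    rw [← Category.assoc]
    exact congrArg (· ≫ j) (Over.OverMorphism.ext (WidePullback.lift_π _ _ _ _ i))

end Dict

end Groth.Agent.H25Torelli
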