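import Groth.Agent.H25Torelli.LowDegree
import Groth.Agent.H25Torelli.WSets
import Mathlib.AlgebraicGeometry.Morphisms.Separated

/-!
# Morphisms determined by rational points
-/

set_option autoImplicit false
set_option linter.style.haveILetI false
set_option linter.unusedSectionVars false
set_option backward.isDefEq.respectTransparency.types false
set_option maxHeartbeats 800000

noncomputable section

universe u

open CategoryTheory CategoryTheory.Limits AlgebraicGeometry TopologicalSpace Opposite MonoidalCategory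
  CartesianMonoidalCategory MonObj

namespace Groth.Agent.H25Torelli

variable {k : Type u} [Field k] [IsAlgClosed k]

/-- Morphisms from a reduced scheme of finite type are determined by rational points. -/
theorem hom_ext_of_pts {A B : Over (Spec (CommRingCat.of k))} [LocallyOfFiniteType A.hom] [IsReduced A.left]
    [IsSeparated B.hom] {φ φ' : A ⟶ B} (h : ∀ z : One k ⟶ A, z ≫ φ = z ≫ φ') : φ = φ' := by
  classical
  let d : (∐ fun _ : (One k ⟶ A) => (One k).left) ⟶ A.left := Sigma.desc fun z => z.left
  haveI : IsDominant d := by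
    refine ⟨?_⟩
    haveI : JacobsonSpace A.left := LocallyOfFiniteType.jacobsonSpace A.hom
    refine dense_iff_closure_eq.2 (Set.univ_subset_iff.1 ?_)
    rw [← closure_closedPoints (X := A.left)]
    refine closure_mono fun x hx => ?_
    obtain ⟨z, hz⟩ := exists_pt (A := A) hx
    refine ⟨Sigma.ι (fun _ : (One k ⟶ A) => (One k).left) z (pt₀ k), ?_⟩
    rw [← Scheme.Hom.comp_apply, Sigma.ι_desc]
    exact hz
  refine Over.OverMorphism.ext (ext_of_isDominant_of_isSeparated B.hom ((Over.w φ).trans (Over.w φ').symm) d ?_)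
  refine Sigma.hom_ext _ _ fun z => ?_
  rw [Sigma.ι_desc_assoc, Sigma.ι_desc_assoc]
  exact congrArg CommaMorphism.left (h z)

variable {C : Scheme.{u}} [C.Over (Spec (CommRingCat.of k))] [IsProper (C ↘ Spec (CommRingCat.of k))]
  [Smooth (C ↘ Spec (CommRingCat.of k))] [GeometricallyConnected (C ↘ Spec (CommRingCat.of k))]

theorem exists_pts_notMem (hdim : topologicalKrullDim C = 1) (s : Finset (Pts k C)) : ∃ b : Pts k C, b ∉ s := by
  haveI := H29DoubleCover.isIntegral_of_smooth_connected (C ↘ Spec (CommRingCat.of k))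
  classical
  let F : Set C := (fun b : Pts k C => b.1 (IsLocalRing.closedPoint k)) '' s
  have hF : IsClosed F := by
    rw [show F = ⋃ b ∈ s, {b.1 (IsLocalRing.closedPoint k)} by ext x; simp [F, eq_comm]]
    exact isClosed_biUnion_finset fun b _ => (S6487.section_pt b.1 b.2).1
  by_cases hgen : genericPoint C ∈ F
  · obtain ⟨b, -, hb⟩ := hgen
    have hcl := (S6487.section_pt b.1 b.2).1
    have hsub : ∀ x : C, x = genericPoint C := fun x =>
      Set.mem_singleton_iff.1 ((genericPoint_specializes x).mem_closed (hb ▸ hcl) rfl)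
    haveI : Subsingleton C := ⟨fun x y => (hsub x).trans (hsub y).symm⟩
    haveI : Subsingleton (IrreducibleCloseds C) := ⟨fun A B => IrreducibleCloseds.ext (Set.ext fun x =>
      ⟨fun _ => (by obtain ⟨y, hy⟩ := B.2.nonempty; exact Subsingleton.elim y x ▸ hy),
       fun _ => (by obtain ⟨y, hy⟩ := A.2.nonempty; exact Subsingleton.elim y x ▸ hy)⟩)⟩
    have h0 : topologicalKrullDim C ≤ 0 := Order.krullDim_nonpos_of_subsingleton
    rw [hdim] at h0
    exact absurd h0 (by decide)
  · obtain ⟨τ, hτ, hτU⟩ := H25Jac.exists_point_mem (k := k) ⟨Fᶜ, hF.isOpen_compl⟩ ⟨_, hgen⟩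
    exact ⟨⟨τ, hτ⟩, fun h => hτU (IsLocalRing.closedPoint k) ⟨_, h, rfl⟩⟩

end Groth.Agent.H25Torelli
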