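import Groth.Agent.H25Torelli.Points
import Groth.Agent.H25Torelli.Morphisms
import Groth.Agent.H25Jac.BaseChange
import Groth.Agent.H25Jac.PsiJacobian
import Groth.Agent.H25Jac.AJFamily
import Groth.Agent.H29DoubleCover.Unique

/-!
# A pointed curve and its Jacobian over an algebraically closed extension
-/

set_option autoImplicit false
set_option linter.style.haveILetI false
set_option linter.unusedSectionVars false
set_option maxHeartbeats 1600000
set_option backward.isDefEq.respectTransparency.types false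

noncomputable section

universe u

open CategoryTheory CategoryTheory.Limits AlgebraicGeometry TopologicalSpace Opposite MonoidalCategory
  CartesianMonoidalCategory MonObj
open Groth.Agent.H25AbCube (PC pc pullP exists_rep pullP_pc pullP_pullP pullP_id)

namespace Groth.Agent.H25Torelli

open Groth.Agent.H12Pic Groth.Agent.H12Pic.PicCurve
open Groth.Agent.H12Pic.PicCurve.BaseChangePic (down downHom)
open Groth.Agent.H25Theta (Cls cls pull pullU unitCls pb)
open Groth.Agent.H25Jac (fst₁ JData prj bcIso bcSec bcSec_snd)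

variable {k K : Type u} [Field k] [Field K] (g : Spec (CommRingCat.of K) ⟶ Spec (CommRingCat.of k))

section Curve

variable (C : Scheme.{u}) [C.Over (Spec (CommRingCat.of k))]

/-- The curve over the extension. -/
abbrev CK : Scheme.{u} := PicF.XT (C ↘ Spec (CommRingCat.of k)) (Over.mk g)

instance ckOver : (CK g C).Over (Spec (CommRingCat.of K)) := ⟨pullback.snd (C ↘ Spec (CommRingCat.of k)) g⟩

variable [IsProper (C ↘ Spec (CommRingCat.of k))] [Smooth (C ↘ Spec (CommRingCat.of k))]
  [GeometricallyConnected (C ↘ Spec (CommRingCat.of k))]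

instance isProper_ck : IsProper (CK g C ↘ Spec (CommRingCat.of K)) :=
  MorphismProperty.pullback_snd (P := @IsProper) _ g inferInstance

instance smooth_ck : Smooth (CK g C ↘ Spec (CommRingCat.of K)) :=
  MorphismProperty.pullback_snd (P := @Smooth) _ g inferInstance

instance geometricallyConnected_ck : GeometricallyConnected (CK g C ↘ Spec (CommRingCat.of K)) :=
  MorphismProperty.pullback_snd (P := @GeometricallyConnected) _ g inferInstance

variable {C}

theorem ck_facts (hdim : topologicalKrullDim C = 1) :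
    SmoothOfRelativeDimension 1 (CK g C ↘ Spec (CommRingCat.of K)) ∧ topologicalKrullDim (CK g C) = 1 := by
  haveI := (H25Jac.isSmoothProperCurve_of_connected (C ↘ Spec (CommRingCat.of k)) hdim).2
  haveI := smoothOfRelativeDimension_isStableUnderBaseChange.{u} (n := 1)
  haveI h : SmoothOfRelativeDimension 1 (CK g C ↘ Spec (CommRingCat.of K)) :=
    MorphismProperty.pullback_snd (P := @SmoothOfRelativeDimension 1) _ g inferInstance
  exact ⟨h, (curve_facts K (CK g C)).2⟩

theorem genus_ck : Curv2.genus K (CK g C) = Curv2.genus k C := by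
  obtain ⟨φ, rfl⟩ : ∃ φ, g = Spec.map φ := ⟨Spec.preimage g, (Spec.map_preimage g).symm⟩
  letI := φ.hom.toAlgebra
  exact H29DoubleCover.genus_bc (C ↘ Spec (CommRingCat.of k))
    (pullback.snd (C ↘ Spec (CommRingCat.of k)) (Spec.map φ)) (pullback.fst _ _)
    (IsPullback.of_hasPullback (C ↘ Spec (CommRingCat.of k)) (Spec.map φ))

/-- The base point over the extension. -/
def σK (σ : Pts k C) : Pts K (CK g C) :=
  ⟨pullback.lift (g ≫ σ.1) (𝟙 _) (by rw [Category.assoc, σ.2, Category.comp_id, Category.id_comp]; rfl),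
    pullback.lift_snd _ _ _⟩

end Curve

variable {J : Over (Spec (CommRingCat.of k))}

/-- A point with values in the extension as a rational point of the base change. -/
def pj (x : Over.mk g ⟶ J) : One K ⟶ Red.bc g J :=
  Over.homMk (pullback.lift x.left (𝟙 _) ((Over.w x).trans (Category.id_comp g).symm)) (pullback.lift_snd _ _ _)

/-- The comparison of the two presentations of the point of the extension. -/
def iK : down g (One K) ⟶ Over.mk g := Over.homMk (𝟙 _) rfl

theorem prj_pj (x : Over.mk g ⟶ J) : prj g (pj g x) = iK g ≫ x :=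
  Over.OverMorphism.ext ((pullback.lift_fst _ _ _).trans (Category.id_comp _).symm)

theorem exists_pj (a : One K ⟶ Red.bc g J) : ∃ x : Over.mk g ⟶ J, pj g x = a := by
  refine ⟨Over.homMk (a.left ≫ pullback.fst J.hom g) ?_, H25Jac.prj_injective g ?_⟩
  · show (a.left ≫ pullback.fst J.hom g) ≫ J.hom = g
    rw [Category.assoc, pullback.condition, ← Category.assoc]
    exact (congrArg (· ≫ g) (Over.w a)).trans (Category.id_comp g)
  · rw [prj_pj]
    exact Over.OverMorphism.ext (Category.id_comp _)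

theorem pj_mul [GrpObj J] (x y : Over.mk g ⟶ J) : pj g (x * y) = pj g x * pj g y :=
  H25Jac.prj_injective g (by rw [H25Jac.prj_mul, prj_pj, prj_pj, prj_pj, MonObj.comp_mul])

theorem pj_pt (x : Over.mk g ⟶ J) :
    pullback.fst J.hom g ((pj g x).left (IsLocalRing.closedPoint K)) = x.left (IsLocalRing.closedPoint K) := by
  show ((pj g x).left ≫ pullback.fst J.hom g) (IsLocalRing.closedPoint K) = _
  exact congrArg (fun F => F (IsLocalRing.closedPoint K)) (pullback.lift_fst (f := J.hom) (g := g) x.left (𝟙 _) _)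

section Data

variable {C : Scheme.{u}} [C.Over (Spec (CommRingCat.of k))] [IsProper (C ↘ Spec (CommRingCat.of k))]
  [Smooth (C ↘ Spec (CommRingCat.of k))] [GeometricallyConnected (C ↘ Spec (CommRingCat.of k))]
  [GrpObj J]

/-- The Abel map over the extension. -/
def jK (j : Over.mk (C ↘ Spec (CommRingCat.of k)) ⟶ J) : Over.mk (CK g C ↘ Spec (CommRingCat.of K)) ⟶ Red.bc g J :=
  Over.homMk (pullback.lift (pullback.fst (C ↘ Spec (CommRingCat.of k)) g ≫ j.left)
    (pullback.snd (C ↘ Spec (CommRingCat.of k)) g) (by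
      rw [Category.assoc, Over.w j]; exact pullback.condition)) (pullback.lift_snd _ _ _)

theorem prj_jK (j : Over.mk (C ↘ Spec (CommRingCat.of k)) ⟶ J) {T : Over (Spec (CommRingCat.of K))}
    (b : T ⟶ Over.mk (CK g C ↘ Spec (CommRingCat.of K))) :
    prj g (b ≫ jK g j) = prj g (J := Over.mk (C ↘ Spec (CommRingCat.of k))) b ≫ j := by
  refine Over.OverMorphism.ext ?_
  show (b.left ≫ pullback.lift _ _ _) ≫ pullback.fst J.hom g = (b.left ≫ _) ≫ j.left
  rw [Category.assoc, pullback.lift_fst, Category.assoc]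
  rfl

/-- Points of the spectrum of a field need no rigidification. -/
theorem norm_eq_self_of_subsingleton {S X : Scheme.{u}} {f : X ⟶ S} {σ : S ⟶ X} {hσ : σ ≫ f = 𝟙 S} {T : Over S}
    [Subsingleton ↥T.left] [Nonempty ↥T.left] (u : (Cls (PicF.XT f T))ˣ) {L : (PicF.XT f T).Modules}
    (hL : PicF.IsInvertible L) (hu : u = unitCls hL) : H29Ell.norm f σ hσ T u = u := by
  subst hu
  refine H29Ell.norm_eq_self f σ hσ T (unitCls hL) ?_
  obtain ⟨e⟩ := H25Theta.nonempty_iso_of_subsingleton (H11Ample.isInvertible_pullback (PicF.secT f σ hσ T) hL)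
  exact Units.ext (Quot.sound ⟨e⟩)

variable [IsAlgClosed K]

theorem pullU_secU_bc [SmoothOfRelativeDimension 1 (C ↘ Spec (CommRingCat.of k))]
    [SmoothOfRelativeDimension 1 (CK g C ↘ Spec (CommRingCat.of K))] {T : Over (Spec (CommRingCat.of K))}
    (b : T ⟶ Over.mk (CK g C ↘ Spec (CommRingCat.of K))) :
    pullU (bcIso g (C ↘ Spec (CommRingCat.of k)) T).hom
        (H25Jac.secU (C ↘ Spec (CommRingCat.of k)) (prj g (J := Over.mk (C ↘ Spec (CommRingCat.of k))) b)) =
      H25Jac.secU (CK g C ↘ Spec (CommRingCat.of K)) b := by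
  let f := C ↘ Spec (CommRingCat.of k)
  let b' := prj g (J := Over.mk f) b
  have hk : (sec f b').ker.comap (bcIso g f T).hom = (sec (CK g C ↘ Spec (CommRingCat.of K)) b).ker := by
    refine comap_ker_lift (IsPullback.of_horiz_isIso ⟨(H25Jac.bcIso_hom_snd g T).trans (Category.comp_id _).symm⟩)
      _ (sec_proj f b') _ (sec_proj _ b) ?_
    apply pullback.hom_ext
    · rw [Category.assoc, Category.id_comp]
      erw [H25Jac.bcIso_hom_fst, sec_fst]
      rw [← Category.assoc]
      erw [sec_fst]
      rfl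
    · rw [Category.assoc, Category.id_comp]
      exact (congrArg (_ ≫ ·) (H25Jac.bcIso_hom_snd g T)).trans ((sec_proj _ b).trans (sec_proj f b').symm)
  have h' := H25Jac.isEffCartier_sec (CK g C ↘ Spec (CommRingCat.of K)) b
  exact (H25Jac.pullU_idU _ (H25Jac.isEffCartier_sec f b') (hk ▸ h')).trans (H25Jac.idU_congr hk _ h')

set_option maxHeartbeats 3200000 in
/-- The dictionary over an algebraically closed extension. -/
theorem exists_bcDict (hdim : topologicalKrullDim C = 1) (σ : Pts k C)
    {ψ : (ModFun.PicDeg (C ↘ Spec (CommRingCat.of k)) 0).Hom ⊤ J}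
    (hJ : Jac.IsJacobian (C ↘ Spec (CommRingCat.of k)) ⊤ J ψ) {j : Over.mk (C ↘ Spec (CommRingCat.of k)) ⟶ J}
    (hj : Jac.IsAbelJacobiAt (C ↘ Spec (CommRingCat.of k)) σ.1 ψ j) :
    ∃ (ψK : (ModFun.PicDeg (CK g C ↘ Spec (CommRingCat.of K)) 0).Hom ⊤ (Red.bc g J)),
      Jac.IsJacobian (CK g C ↘ Spec (CommRingCat.of K)) ⊤ (Red.bc g J) ψK ∧
      Jac.IsAbelJacobiAt (CK g C ↘ Spec (CommRingCat.of K)) (σK g σ).1 ψK (jK g j) ∧
      ∃ D : Dict (ck_facts g hdim).2 (σK g σ) ψK (jK g j),
        ∀ (x : Over.mk g ⟶ J) (L : (PicF.XT (C ↘ Spec (CommRingCat.of k)) (Over.mk g)).Modules)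
          (hL : PicF.IsInvertible L) (hT) (hok), ψ.app (Over.mk g) L hT hok = x →
          D.Φ (pj g x) = pc (X := CK g C) L hL := by
  classical
  let f := C ↘ Spec (CommRingCat.of k)
  let fK := CK g C ↘ Spec (CommRingCat.of K)
  obtain ⟨hX, hrel⟩ := H25Jac.isSmoothProperCurve_of_connected f hdim
  haveI := hrel
  haveI := hX.2.2.1
  obtain ⟨hrelK, hdimK⟩ := ck_facts g hdim
  haveI := hrelK
  obtain ⟨J₀, hg₀, hc, hp, hs, hi, ⟨D₀⟩⟩ := H25Jac.exists_jData (σ := σ.1) (hσ := σ.2) hX
  obtain ⟨aj₀, haj₀⟩ := D₀.exists_abel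
  obtain ⟨χ, h1, h2, hχ⟩ := D₀.iso_of_isJacobian hJ
  haveI := hc; haveI := hp; haveI := hs; haveI := hi; haveI := h1; haveI := h2
  haveI := H25Jac.isProper_of_iso χ
  haveI : Smooth J.hom := by rw [← Over.w χ.hom]; infer_instance
  have hjχ : j ≫ χ.hom = aj₀ := by
    obtain ⟨hT, L, hL, hAJ, rfl⟩ := hj
    rw [hχ]
    exact D₀.psi_ajFamily haj₀ hAJ hL
  -- the datum on the given Jacobian
  let DJ : JData f σ.1 σ.2 J :=
    { cl := PicF.pullCl (PicF.XTmap f χ.hom) D₀.cl
      mem := D₀.mem.pull χ.hom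
      univ := fun T c hc => by
        obtain ⟨x, hx, hu⟩ := D₀.univ T c hc
        refine ⟨x ≫ χ.inv, ?_, fun y hy => ?_⟩
        · show PicF.pullCl (PicF.XTmap f (x ≫ χ.inv)) (PicF.pullCl (PicF.XTmap f χ.hom) D₀.cl) = c
          rw [← H17.PullCl.pullCl_comp, ← H17.PullCl.XTmap_comp, Category.assoc, χ.inv_hom_id, Category.comp_id]
          exact hx
        · rw [← cancel_mono χ.hom, Category.assoc, χ.inv_hom_id, Category.comp_id]
          refine hu _ ?_
          show PicF.pullCl (PicF.XTmap f (y ≫ χ.hom)) D₀.cl = c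
          rw [H17.PullCl.XTmap_comp, H17.PullCl.pullCl_comp]
          exact hy
      mul := fun T a b => by
        have key : ∀ y : T ⟶ J, pull (PicF.XTmap f y)
            (show Cls (PicF.XT f J) from PicF.pullCl (PicF.XTmap f χ.hom) D₀.cl) =
            pull (PicF.XTmap f (y ≫ χ.hom)) (show Cls (PicF.XT f J₀) from D₀.cl) := fun y => by
          show PicF.pullCl (PicF.XTmap f y) (PicF.pullCl (PicF.XTmap f χ.hom) D₀.cl) =
            PicF.pullCl (PicF.XTmap f (y ≫ χ.hom)) D₀.cl
          rw [H17.PullCl.XTmap_comp, H17.PullCl.pullCl_comp]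
        rw [key, key, key, MonObj.mul_comp, D₀.mul] }
  have hDJ : ∀ {T : Over (Spec (CommRingCat.of k))} (y : T ⟶ J), DJ.xU y = D₀.xU (y ≫ χ.hom) := fun {T} y =>
    Units.ext (by
      show PicF.pullCl (PicF.XTmap f y) (PicF.pullCl (PicF.XTmap f χ.hom) D₀.cl) =
        PicF.pullCl (PicF.XTmap f (y ≫ χ.hom)) D₀.cl
      rw [H17.PullCl.XTmap_comp, H17.PullCl.pullCl_comp])
  haveI : SmoothOfRelativeDimension 1 (pullback.snd f g) := hrelK
  haveI : IsProper (pullback.snd f g) := inferInstanceAs (IsProper fK)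
  haveI : GeometricallyConnected (pullback.snd f g) := inferInstanceAs (GeometricallyConnected fK)
  let DK := DJ.bc g
  let ψK := DK.psi
  obtain ⟨aK, haK⟩ := DK.exists_abel
  -- the Abel map
  haveI : IsProper (Red.bc g J).hom := MorphismProperty.pullback_snd (P := @IsProper) _ g inferInstance
  haveI : IsReduced (Over.mk fK).left := by
    haveI := H29DoubleCover.isIntegral_of_smooth_connected fK
    exact inferInstanceAs (IsReduced (CK g C))
  haveI : LocallyOfFiniteType (Over.mk fK).hom := inferInstanceAs (LocallyOfFiniteType fK)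
  haveI : Subsingleton ↥(One K).left := inferInstanceAs (Subsingleton (PrimeSpectrum K))
  haveI : Nonempty ↥(One K).left := inferInstanceAs (Nonempty (PrimeSpectrum K))
  haveI : Subsingleton ↥(down g (One K)).left := inferInstanceAs (Subsingleton (PrimeSpectrum K))
  haveI : Nonempty ↥(down g (One K)).left := inferInstanceAs (Nonempty (PrimeSpectrum K))
  have hjK : jK g j = aK := by
    refine hom_ext_of_pts fun z => DK.xU_injective ?_
    refine (DJ.bc_xU g _).trans (Eq.trans ?_ (haK _ z).symm)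
    rw [prj_jK, hDJ, Category.assoc, hjχ, haj₀]
    let b' := prj g (J := Over.mk f) z
    have hσ : prj g (J := Over.mk f) (H25Jac.constPt fK (bcSec_snd σ.2 g) (One K)) =
        H25Jac.constPt f σ.2 (down g (One K)) := Over.OverMorphism.ext (by
      show ((One K).hom ≫ bcSec σ.2 g) ≫ pullback.fst f g = ((One K).hom ≫ g) ≫ σ.1
      rw [Category.assoc, pullback.lift_fst, Category.assoc])
    have hk : ∀ b : down g (One K) ⟶ Over.mk f, H29Ell.norm f σ.1 σ.2 _ (H25Jac.secU f b) = H25Jac.secU f b :=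
      fun b => norm_eq_self_of_subsingleton _ (H29Blow.isInvertible_of_isEffCartierIdeal _ (H25Jac.isEffCartier_sec f b)) rfl
    rw [H25Jac.ptClass, H25Jac.ptClass, map_mul, map_inv, hk, hk, map_mul, map_inv, map_mul, map_inv,
      H25Jac.norm_secU_point, H25Jac.norm_secU_point, pullU_secU_bc g z, ← hσ, pullU_secU_bc]
    rfl
  have hjA : Jac.IsAbelJacobiAt fK (σK g σ).1 ψK (jK g j) := by
    obtain ⟨L, hL, hok⟩ := H25Jac.exists_ajFamilyAt fK (bcSec_snd σ.2 g)
    exact ⟨trivial, L, hok, hL, (DK.psi_ajFamily haK hL hok).trans hjK.symm⟩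
  obtain ⟨D⟩ := exists_dict hdimK (σK g σ) ψK DK.isJacobian_psi (jK g j) hjA
  refine ⟨ψK, DK.isJacobian_psi, hjA, D, fun x L hL hT hok hx => ?_⟩
  haveI : Subsingleton ↥(Over.mk g).left := inferInstanceAs (Subsingleton (PrimeSpectrum K))
  haveI : Nonempty ↥(Over.mk g).left := inferInstanceAs (Nonempty (PrimeSpectrum K))
  have hxU : DJ.xU x = unitCls hL := by
    rw [← hx, hDJ, hχ, D₀.xU_psi]
    exact norm_eq_self_of_subsingleton _ hL rfl
  let M : (PicF.XT fK (One K)).Modules := pb (fst₁ fK) L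
  have hM : PicF.IsInvertible M := H11Ample.isInvertible_pullback (fst₁ fK) hL
  have hMd : ∀ t, degAt fK (One K) M t = 0 := by
    let a := pj g x
    have hcl : (DK.xU a).1 = (unitCls hM).1 := by
      have e : (bcIso g f (One K)).hom ≫ PicF.XTmap f (iK g) = fst₁ fK := by
        apply pullback.hom_ext
        · rw [Category.assoc]
          erw [H17.PullCl.XTmap_fst, H25Jac.bcIso_hom_fst]
          rfl
        · rw [Category.assoc]
          erw [H17.PullCl.XTmap_snd]
          rw [← Category.assoc]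
          erw [H25Jac.bcIso_hom_snd]
          exact (pullback.condition.trans (Category.comp_id _)).symm
      rw [DJ.bc_xU g, prj_pj, ← DJ.xU_comp, hxU, H25Theta.pullU_pullU, e]
      exact congrArg Units.val (Units.ext rfl)
    have h := (DK.mem.pull a).2.2
    exact (H25Jac.hasFibreDegreeZeroCl_cl_iff fK (One K)).1 (Eq.mp (congrArg _ hcl) h)
  have hMok : (ModFun.PicDeg fK 0).ok (One K) M := (H25Jac.ok_iff _ _).2 ⟨hM, hMd⟩
  have hψ : ψK.app (One K) M trivial hMok = pj g x := by
    refine DK.xU_injective ?_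
    refine (DK.xU_psi (One K) M trivial hMok).trans ((norm_eq_self_of_subsingleton _ hM rfl).trans ?_)
    rw [DJ.bc_xU g, prj_pj, ← DJ.xU_comp, hxU, H25Theta.pullU_pullU]
    refine Units.ext ?_
    show PicF.cl (pb _ L) = PicF.pullCl _ (PicF.cl L)
    have e : (bcIso g f (One K)).hom ≫ PicF.XTmap f (iK g) = fst₁ fK := by
      apply pullback.hom_ext
      · rw [Category.assoc]
        erw [H17.PullCl.XTmap_fst, H25Jac.bcIso_hom_fst]
        rfl
      · rw [Category.assoc]
        erw [H17.PullCl.XTmap_snd]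
        rw [← Category.assoc]
        erw [H25Jac.bcIso_hom_snd]
        exact (pullback.condition.trans (Category.comp_id _)).symm
    rw [e]
    rfl
  rw [← hψ]
  exact D.app L hL M ⟨Iso.refl _⟩ _ _

end Data

end Groth.Agent.H25Torelli
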