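import Groth.Agent.H25Torelli.ThetaClass

/-!
# Tools for statements about the theta divisor
-/

set_option autoImplicit false
set_option linter.style.haveILetI false
set_option linter.unusedSectionVars false
set_option maxHeartbeats 1600000
set_option backward.isDefEq.respectTransparency.types false

noncomputable section

universe u

open CategoryTheory CategoryTheory.Limits AlgebraicGeometry TopologicalSpace Opposite MonoidalCategory
  CartesianMonoidalCategory MonObj
open Groth.Agent.H25AbCube (PC pc pullP exists_rep pullP_pc pullP_pullP pullP_id pc_eq_iff pc_tensor pc_one ev)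

namespace Groth.Agent.H25Torelli

/-- Equal multisets give equal products. -/
theorem prod_ofFn_congr {α M : Type*} [CommMonoid M] {n : ℕ} (F : α → M) {v w : Fin n → α}
    (h : (List.ofFn v : Multiset α) = (List.ofFn w : Multiset α)) : ∏ i, F (v i) = ∏ i, F (w i) := by
  have h2 := congrArg (fun s : Multiset α => (s.map F).prod) h
  simpa only [Multiset.map_coe, Multiset.prod_coe, List.map_ofFn, List.prod_ofFn, Function.comp_apply] using h2

/-- Equal multisets of values differ by a permutation. -/
theorem exists_perm_of_ofFn {α : Type*} {n : ℕ} {v w : Fin n → α}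
    (h : (List.ofFn v : Multiset α) = (List.ofFn w : Multiset α)) : ∃ e : Equiv.Perm (Fin n), ∀ i, v i = w (e i) := by
  classical
  have hc : ∀ a, Fintype.card {i // v i = a} = Fintype.card {i // w i = a} := fun a => by
    have h2 := congrArg (Multiset.count a) h
    have hcount : ∀ u : Fin n → α, Multiset.count a (List.ofFn u : Multiset α) = Fintype.card {i // u i = a} := fun u => by
      rw [show (List.ofFn u : Multiset α) = Finset.univ.val.map u by simp [List.ofFn_eq_map], Multiset.count_map,
        Fintype.card_subtype]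
      exact congrArg Multiset.card (Multiset.filter_congr fun x _ => eq_comm)
    rwa [hcount, hcount] at h2
  let e := Equiv.ofFiberEquiv fun a => Fintype.equivOfCardEq (hc a)
  exact ⟨e, fun i => (Equiv.ofFiberEquiv_map _ i).symm⟩

variable {k : Type u} [Field k] [IsAlgClosed k] {C : Scheme.{u}} [C.Over (Spec (CommRingCat.of k))]
  [IsProper (C ↘ Spec (CommRingCat.of k))] [Smooth (C ↘ Spec (CommRingCat.of k))]
  [GeometricallyConnected (C ↘ Spec (CommRingCat.of k))]

/-- The product of the ideals of distinct points is their intersection. -/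
theorem prod_points_eq_iInf (hdim : topologicalKrullDim C = 1) {n : ℕ} (w : Fin n → Pts k C)
    (hw : Function.Injective w) : ∏ i, (w i).1.ker = ⨅ i, (w i).1.ker := by
  haveI : ∀ i, IsClosedImmersion (w i).1 := fun i => by
    haveI : IsClosedImmersion ((w i).1 ≫ (C ↘ Spec (CommRingCat.of k))) := by rw [(w i).2]; infer_instance
    exact IsClosedImmersion.of_comp (w i).1 (C ↘ Spec (CommRingCat.of k))
  have h1 : ∀ i, (w i).1.ker.radical = (w i).1.ker := fun i => by
    have h := prod_eq_vanishingIdeal ({i} : Finset (Fin n)) (fun _ => Spec (CommRingCat.of k)) (fun i => (w i).1)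
      (fun l _ => isEffCartier_pt (w l) hdim) (fun a ha b hb hab =>
        absurd ((Finset.mem_singleton.1 ha).trans (Finset.mem_singleton.1 hb).symm) hab)
    rw [Finset.prod_singleton, Scheme.IdealSheafData.vanishingIdeal_support] at h
    exact h.symm
  refine prod_eq_iInf _ h1 ?_
  have h := prod_eq_vanishingIdeal (Finset.univ : Finset (Fin n)) (fun _ => Spec (CommRingCat.of k)) (fun i => (w i).1)
    (fun l _ => isEffCartier_pt (w l) hdim) (fun a _ b _ hab => ⟨IsLocalRing.closedPoint k, fun hz => ?_⟩)
  · rw [Scheme.IdealSheafData.vanishingIdeal_support] at h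
    exact h.symm
  rw [Scheme.Hom.support_ker, (w b).1.isClosedEmbedding.isClosed_range.closure_eq] at hz
  obtain ⟨p, hp⟩ := hz
  rw [Subsingleton.elim (α := PrimeSpectrum k) p (IsLocalRing.closedPoint k)] at hp
  haveI : LocallyOfFiniteType (Over.mk (C ↘ Spec (CommRingCat.of k))).hom :=
    inferInstanceAs (LocallyOfFiniteType (C ↘ Spec (CommRingCat.of k)))
  exact hab (hw (congrArg Pts.of (hom_ext_pt (z := (w a).hom) (w := (w b).hom) hp.symm)))

variable {hdim : topologicalKrullDim C = 1} {σ : Pts k C}
  {J : Over (Spec (CommRingCat.of k))} [GrpObj J]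
  {ψ : (ModFun.PicDeg (C ↘ Spec (CommRingCat.of k)) 0).Hom ⊤ J} {j : Over.mk (C ↘ Spec (CommRingCat.of k)) ⟶ J}

/-- The ideal of a translate of the reflected theta divisor through the ideal of the theta divisor. -/
theorem Dict.pc_thetaMinus (D : Dict hdim σ ψ j) (g : ℕ) (a : One k ⟶ J)
    (hM : PicF.IsInvertible (ClSub.idealMod (Scheme.IdealSheafData.vanishingIdeal ⟨closure ((Jac.transl J a).left.base ''
        (((𝟙 J)⁻¹).left.base '' W j (g - 1))), isClosed_closure⟩))) :
    ∃ hΘ : PicF.IsInvertible (ClSub.idealMod (Scheme.IdealSheafData.vanishingIdeal ⟨W j (g - 1), D.isClosed_W _⟩)),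
      pc _ hM = ev (pc _ hΘ) (reflect J a) := by
  haveI := D.proper; haveI := D.comm
  haveI : IsIso (reflect J a) := ⟨reflect J a, reflect_reflect a, reflect_reflect a⟩
  haveI : IsIso (reflect J a).left := inferInstanceAs (IsIso ((Over.forget _).map (reflect J a)))
  have e := D.thetaMinus_eq g a
  have hc := (S8914.result _).1 hM
  have hcW : BlowUp.IsEffCartierIdeal (Scheme.IdealSheafData.vanishingIdeal ⟨W j (g - 1), D.isClosed_W _⟩) := by
    have h := H29Blow.isEffCartierIdeal_comap_of_flat hc (reflect J a).left
    rw [e, ← Scheme.IdealSheafData.comap_comp, ← Over.comp_left, reflect_reflect, Over.id_left,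
      Scheme.IdealSheafData.comap_id] at h
    exact h
  refine ⟨H29Blow.isInvertible_of_isEffCartierIdeal _ hcW, ?_⟩
  obtain ⟨φ⟩ := H12Pic.CurveFam.nonempty_pullback_idealMod_comap (reflect J a).left hcW (e ▸ hc)
  show _ = pullP _ _
  rw [← pullP_pc _ _ _ (H11Ample.isInvertible_pullback _ (H29Blow.isInvertible_of_isEffCartierIdeal _ hcW))]
  exact (pc_eq_iff _ _).2 ⟨eqToIso (congrArg ClSub.idealMod e) ≪≫ φ.symm⟩

end Groth.Agent.H25Torelli
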