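import Groth.Agent.H25Torelli.WSets
import Groth.Agent.H25AbCube.Degree

/-!
# Inclusions and intersections of translates of images of powers of a curve in its Jacobian
-/

set_option autoImplicit false
set_option linter.style.haveILetI false
set_option linter.unusedSectionVars false
set_option maxHeartbeats 1600000
set_option backward.isDefEq.respectTransparency.types false

noncomputable section

universe u

open CategoryTheory CategoryTheory.Limits AlgebraicGeometry TopologicalSpace Opposite MonoidalCategory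
  CartesianMonoidalCategory MonObj
open Groth.Agent.H25AbCube (PC pc pc_tensor exists_pc_tensorPow)

namespace Groth.Agent.H25Torelli.Dict

variable {k : Type u} [Field k] [IsAlgClosed k] {C : Scheme.{u}} [C.Over (Spec (CommRingCat.of k))]
  [IsProper (C ↘ Spec (CommRingCat.of k))] [Smooth (C ↘ Spec (CommRingCat.of k))]
  [GeometricallyConnected (C ↘ Spec (CommRingCat.of k))] {hdim : topologicalKrullDim C = 1} {σ : Pts k C}
  {J : Over (Spec (CommRingCat.of k))} [GrpObj J]
  {ψ : (ModFun.PicDeg (C ↘ Spec (CommRingCat.of k)) 0).Hom ⊤ J} {j : Over.mk (C ↘ Spec (CommRingCat.of k)) ⟶ J}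
  (D : Dict hdim σ ψ j)

variable (k) in
/-- The system of classes. -/
abbrev S' (hdim : topologicalKrullDim C = 1) : Sys (PC C) (Pts k C) := sys (k := k) hdim

include D

theorem map_div (a b : One k ⟶ J) : D.Φ (a * b⁻¹) = D.Φ a - D.Φ b := by
  rw [D.map_mul, D.map_inv, sub_eq_add_neg]

theorem mem_W_transl (r : ℕ) (a z : One k ⟶ J) :
    z ∈ ptSet ((Jac.transl J a).left.base '' W j r) ↔
      1 ≤ (S' k hdim).h (D.Φ z - D.Φ a + r • ptCls hdim σ) := by
  rw [D.mem_transl a z (D.isClosed_W r), D.mem_W, D.map_div]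

theorem deg_combination (z a : One k ⟶ J) (r : ℕ) :
    (S' k hdim).deg (D.Φ z - D.Φ a + r • ptCls hdim σ) = (r : ℤ) := by
  rw [map_add, map_sub, map_nsmul, show (S' k hdim).deg (ptCls hdim σ) = 1 from (S' k hdim).deg_pt σ,
    show (S' k hdim).deg (D.Φ z) = 0 from D.deg_eq z, show (S' k hdim).deg (D.Φ a) = 0 from D.deg_eq a]
  simp

theorem exists_point {u : PC C} {n : ℕ} (hu : (S' k hdim).deg u = n) :
    ∃ z, D.Φ z = u - n • ptCls hdim σ :=
  D.surj _ (by
    show (S' k hdim).deg (u - n • ptCls hdim σ) = 0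
    rw [map_sub, map_nsmul, show (S' k hdim).deg (ptCls hdim σ) = 1 from (S' k hdim).deg_pt σ, hu]
    simp)

theorem subset_theta_iff (g : ℕ) (hg : Curv2.genus k C = g) (hg1 : 1 ≤ g) (r : ℕ) (hr : r ≤ g - 1) (a b : One k ⟶ J) :
    (Jac.transl J a).left.base '' W j r ⊆ (Jac.transl J b).left.base '' W j (g - 1) ↔
      1 ≤ (S' k hdim).h (D.Φ a - D.Φ b + (g - 1 - r) • ptCls hdim σ) := by
  haveI := D.proper
  rw [subset_iff (D.isClosed_transl a (D.isClosed_W r)) (D.isClosed_transl b (D.isClosed_W _))]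
  set P := ptCls hdim σ
  set E := D.Φ a - D.Φ b + (g - 1 - r) • P with hE
  have hsplit : (g - 1) • P = (g - 1 - r) • P + r • P := by
    rw [← add_nsmul]
    exact congrArg (· • P) (by omega)
  have hdeg : (S' k hdim).deg E + r = ((S' k hdim).g : ℤ) - 1 := by
    rw [D.deg_combination, show ((S' k hdim).g : ℤ) = g from congrArg Nat.cast hg]
    omega
  refine ⟨fun h => ((S' k hdim).forall_add_iff hdeg).1 fun s hs => ?_, fun h z hz => ?_⟩
  · obtain ⟨z, hz⟩ := D.exists_point (u := D.Φ a + (S' k hdim).cl s) (n := r) (by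
      rw [map_add, show (S' k hdim).deg (D.Φ a) = 0 from D.deg_eq a, Sys.deg_cl, hs, zero_add])
    have h1 : z ∈ ptSet ((Jac.transl J a).left.base '' W j r) := by
      rw [D.mem_W_transl, hz, show D.Φ a + (S' k hdim).cl s - r • P - D.Φ a + r • P = (S' k hdim).cl s by abel]
      exact Sys.one_le_h_cl _ s
    have h2 := h h1
    rw [D.mem_W_transl, hz, hsplit] at h2
    rwa [hE, show D.Φ a - D.Φ b + (g - 1 - r) • P + (S' k hdim).cl s =
      D.Φ a + (S' k hdim).cl s - r • P - D.Φ b + ((g - 1 - r) • P + r • P) by abel]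
  · rw [D.mem_W_transl] at hz ⊢
    obtain ⟨s, hs, hs'⟩ := ((S' k hdim).one_le_h_iff (D.deg_combination z a r)).1 hz
    have h' := ((S' k hdim).forall_add_iff hdeg).2 h s hs
    rw [hs', hE] at h'
    rwa [hsplit, show D.Φ z - D.Φ b + ((g - 1 - r) • P + r • P) =
      D.Φ a - D.Φ b + (g - 1 - r) • P + (D.Φ z - D.Φ a + r • P) by abel]

theorem W_eq_iInter (g : ℕ) (hg : Curv2.genus k C = g) (hg1 : 1 ≤ g) (r : ℕ) (hr : r ≤ g - 1) :
    W j (g - 1 - r) = ⋂ (a : One k ⟶ J) (_ : ∀ p, a.left.base p ∈ W j r),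
      (Jac.transl J a⁻¹).left.base '' W j (g - 1) := by
  haveI := D.proper
  have hcl : IsClosed (⋂ (a : One k ⟶ J) (_ : ∀ p, a.left.base p ∈ W j r),
      (Jac.transl J a⁻¹).left.base '' W j (g - 1)) :=
    isClosed_iInter fun a => isClosed_iInter fun _ => D.isClosed_transl _ (D.isClosed_W _)
  refine eq_of_ptSet (D.isClosed_W _) hcl (Set.ext fun z => ?_)
  rw [D.mem_W]
  set P := ptCls hdim σ
  set E := D.Φ z + (g - 1 - r) • P with hE
  have hsplit : (g - 1) • P = (g - 1 - r) • P + r • P := by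
    rw [← add_nsmul]
    exact congrArg (· • P) (by omega)
  have hdeg : (S' k hdim).deg E + r = ((S' k hdim).g : ℤ) - 1 := by
    have := D.deg_combination z 1 (g - 1 - r)
    rw [D.map_one, sub_zero] at this
    rw [hE, this, show ((S' k hdim).g : ℤ) = g from congrArg Nat.cast hg]
    omega
  refine ((S' k hdim).forall_add_iff hdeg).symm.trans ⟨fun h => ?_, fun h s hs => ?_⟩
  · simp only [ptSet, Set.mem_iInter, Set.mem_setOf_eq]
    intro a ha
    rw [← mem_ptSet, D.mem_W_transl, D.map_inv]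
    obtain ⟨s, hs, hs'⟩ := ((S' k hdim).one_le_h_iff (by
      have := D.deg_combination a 1 r
      rwa [D.map_one, sub_zero] at this)).1 ((D.mem_W r a).1 (forall_mem_iff.1 ha))
    have := h s hs
    rwa [hsplit, show D.Φ z - -D.Φ a + ((g - 1 - r) • P + r • P) = E + (D.Φ a + r • P) by rw [hE]; abel, ← hs']
  · obtain ⟨a, ha⟩ := D.exists_point (u := (S' k hdim).cl s) (n := r) (by rw [Sys.deg_cl, hs])
    have haW : a ∈ ptSet (W j r) := by
      rw [D.mem_W, ha, sub_add_cancel]
      exact Sys.one_le_h_cl _ s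
    simp only [ptSet, Set.mem_iInter, Set.mem_setOf_eq] at h
    have h2 := h a (forall_mem_iff.2 haW)
    rw [← mem_ptSet, D.mem_W_transl, D.map_inv, ha, hsplit] at h2
    rwa [hE, show D.Φ z + (g - 1 - r) • P + (S' k hdim).cl s =
      D.Φ z - -((S' k hdim).cl s - r • P) + ((g - 1 - r) • P + r • P) by abel]

/-- The class of the image of a canonical divisor. -/
theorem Φ_kappa (g : ℕ) (Kf : (PicF.XT (C ↘ Spec (CommRingCat.of k)) (One k)).Modules)
    (hKf : Nonempty (Kf ≅ (Scheme.Modules.pullback (pullback.fst (C ↘ Spec (CommRingCat.of k)) (One k).hom)).obj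
      (CohB1.tensorMod (Omega.sheaf (C ↘ Spec (CommRingCat.of k))) (CohB1.tensorPow (ClSub.idealMod σ.1.ker) (2 * g - 2)))))
    (hT) (hok) :
    D.Φ (ψ.app (One k) Kf hT hok) = (S' k hdim).K - (2 * g - 2) • ptCls hdim σ := by
  haveI := H29DoubleCover.isIntegral_of_smooth_connected (C ↘ Spec (CommRingCat.of k))
  have hΩ := H29CurveDual.isInvertible_omega_curve (k := k) (X := C) hdim
  obtain ⟨hp, e⟩ := exists_pc_tensorPow (isInvertible_pt hdim σ) (2 * g - 2)
  rw [D.app _ (H11Ample.isInvertible_tensor hΩ hp) Kf hKf hT hok, pc_tensor hΩ hp, e, ptCls, smul_neg, sub_neg_eq_add]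
  rfl

theorem kappa_reflect (g : ℕ) (hg : Curv2.genus k C = g) (hg1 : 1 ≤ g) (κ : One k ⟶ J)
    (hκ : D.Φ κ = (S' k hdim).K - (2 * g - 2) • ptCls hdim σ) (a : One k ⟶ J) :
    (Jac.transl J κ).left.base '' (((𝟙 J)⁻¹).left.base '' ((Jac.transl J a).left.base '' W j (g - 1))) =
      (Jac.transl J a⁻¹).left.base '' W j (g - 1) := by
  haveI := D.proper
  have h1 := D.isClosed_transl a (D.isClosed_W (g - 1))
  refine eq_of_ptSet (D.isClosed_transl κ (D.isClosed_inv h1)) (D.isClosed_transl _ (D.isClosed_W _))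
    (Set.ext fun z => ?_)
  rw [D.mem_transl κ z (D.isClosed_inv h1), D.mem_inv _ h1, D.mem_W_transl, D.mem_W_transl, D.map_inv, D.map_inv,
    D.map_div, hκ]
  set P := ptCls hdim σ
  have hd : (S' k hdim).deg (D.Φ z - -D.Φ a + (g - 1) • P) = ((S' k hdim).g : ℤ) - 1 := by
    rw [← D.map_inv, D.deg_combination, show ((S' k hdim).g : ℤ) = g from congrArg Nat.cast hg]
    omega
  rw [← (S' k hdim).h_symm hd]
  have h2 : (2 * g - 2) • P = (g - 1) • P + (g - 1) • P := by
    rw [← add_nsmul]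
    exact congrArg (· • P) (by omega)
  rw [h2, show -(D.Φ z - ((S' k hdim).K - ((g - 1) • P + (g - 1) • P))) - D.Φ a + (g - 1) • P =
    (S' k hdim).K - (D.Φ z - -D.Φ a + (g - 1) • P) by abel]

theorem inter_theta (g : ℕ) (hg : Curv2.genus k C = g) (hg2 : 2 ≤ g) (κ : One k ⟶ J)
    (hκ : D.Φ κ = (S' k hdim).K - (2 * g - 2) • ptCls hdim σ) (r : ℕ) (hr : r ≤ g - 2) (a b x y : One k ⟶ J)
    (hx : ∀ p, x.left.base p ∈ W j 1) (hy : ∀ p, y.left.base p ∈ W j (g - 1 - r)) (hab : a * x = b * y)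
    (hnot : ¬ (Jac.transl J a).left.base '' W j (r + 1) ⊆ (Jac.transl J b).left.base '' W j (g - 1)) :
    (Jac.transl J a).left.base '' W j (r + 1) ∩ (Jac.transl J b).left.base '' W j (g - 1) =
      (Jac.transl J (a * x)).left.base '' W j r ∪
        ((Jac.transl J a).left.base '' W j (r + 1) ∩
          (Jac.transl J κ).left.base '' (((𝟙 J)⁻¹).left.base ''
            ((Jac.transl J (y * a⁻¹)).left.base '' W j (g - 2)))) := by
  haveI := D.proper
  rw [D.subset_theta_iff g hg (by omega) (r + 1) (by omega)] at hnot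
  have hA := D.isClosed_transl a (D.isClosed_W (r + 1))
  have h1 := D.isClosed_transl (y * a⁻¹) (D.isClosed_W (g - 2))
  refine eq_of_ptSet (hA.inter (D.isClosed_transl _ (D.isClosed_W _)))
    ((D.isClosed_transl _ (D.isClosed_W _)).union (hA.inter (D.isClosed_transl κ (D.isClosed_inv h1))))
    (Set.ext fun z => ?_)
  have e1 : ∀ S T : Set J.left, ∀ w : One k ⟶ J, w ∈ ptSet (S ∪ T) ↔ w ∈ ptSet S ∨ w ∈ ptSet T :=
    fun _ _ _ => Iff.rfl
  have e2 : ∀ S T : Set J.left, ∀ w : One k ⟶ J, w ∈ ptSet (S ∩ T) ↔ w ∈ ptSet S ∧ w ∈ ptSet T :=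
    fun _ _ _ => Iff.rfl
  rw [e1, e2, e2, D.mem_transl κ z (D.isClosed_inv h1), D.mem_inv _ h1, D.mem_W_transl, D.mem_W_transl,
    D.mem_W_transl, D.mem_W_transl, D.map_inv, D.map_div, D.map_div, hκ, D.map_mul]
  have hsum : D.Φ a + D.Φ x = D.Φ b + D.Φ y := by rw [← D.map_mul, hab, D.map_mul]
  obtain ⟨c, hc, hc'⟩ := ((S' k hdim).one_le_h_iff (n := 1) (by
    have := D.deg_combination x 1 1
    rwa [D.map_one, sub_zero] at this)).1 ((D.mem_W 1 x).1 (forall_mem_iff.1 hx))
  obtain ⟨p, rfl⟩ := Multiset.card_eq_one.1 hc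
  obtain ⟨Y, hY, hY'⟩ := ((S' k hdim).one_le_h_iff (n := g - 1 - r) (by
    have := D.deg_combination y 1 (g - 1 - r)
    rwa [D.map_one, sub_zero] at this)).1 ((D.mem_W _ y).1 (forall_mem_iff.1 hy))
  set P := ptCls hdim σ
  simp only [Sys.cl, Multiset.map_singleton, Multiset.sum_singleton, one_smul] at hc'
  change ptCls hdim p = D.Φ x + P at hc'
  have hn1 : (r + 1) • P = r • P + P := succ_nsmul P r
  have hn2 : (g - 1) • P = (g - 1 - r) • P + r • P := by rw [← add_nsmul]; exact congrArg (· • P) (by omega)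
  have hn3 : (g - 1 - r) • P = (g - 1 - (r + 1)) • P + P := by rw [← succ_nsmul]; exact congrArg (· • P) (by omega)
  have hn4 : (2 * g - 2) • P = (g - 2) • P + ((g - 1 - r) • P + (r • P + P)) := by
    rw [← succ_nsmul, ← add_nsmul, ← add_nsmul]; exact congrArg (· • P) (by omega)
  have hfix : D.Φ a + D.Φ x - D.Φ b = D.Φ y := by rw [hsum]; abel
  set T := D.Φ z - D.Φ a + (r + 1) • P with hT
  have hmain : 1 ≤ (S' k hdim).h T →
      (1 ≤ (S' k hdim).h (D.Φ z - D.Φ b + (g - 1) • P) ↔
        1 ≤ (S' k hdim).h (D.Φ z - (D.Φ a + D.Φ x) + r • P) ∨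
          1 ≤ (S' k hdim).h (-(D.Φ z - ((S' k hdim).K - (2 * g - 2) • P)) - (D.Φ y - D.Φ a) + (g - 2) • P)) := by
    intro h
    obtain ⟨s, hs, hs'⟩ := ((S' k hdim).one_le_h_iff (D.deg_combination z a (r + 1))).1 h
    have hcard : (s + Y).card = (S' k hdim).g := by
      rw [Multiset.card_add, hs, hY, show (S' k hdim).g = g from hg]; omega
    have key := (S' k hdim).sub_point_iff hcard p
    have e3 : (S' k hdim).cl (s + Y) - ptCls hdim p = D.Φ z - D.Φ b + (g - 1) • P := by
      rw [Sys.cl_add, hY', hs', hc', hn1, hn2, ← hfix]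
      abel
    have e4 : (S' k hdim).K - (S' k hdim).cl (s + Y) =
        -(D.Φ z - ((S' k hdim).K - (2 * g - 2) • P)) - (D.Φ y - D.Φ a) + (g - 2) • P := by
      rw [Sys.cl_add, hY', hs', hn1, hn4]
      abel
    change 1 ≤ (S' k hdim).h ((S' k hdim).cl (s + Y) - ptCls hdim p) ↔ _ at key
    rw [e3, e4] at key
    rw [key]
    constructor
    · rintro (hp | hk)
      · rcases Multiset.mem_add.1 hp with hp | hp
        · left
          obtain ⟨t, rfl⟩ := Multiset.exists_cons_of_mem hp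
          have : (S' k hdim).cl t = D.Φ z - (D.Φ a + D.Φ x) + r • P := by
            rw [Sys.cl_cons, hn1, show (S' k hdim).pt p = ptCls hdim p from rfl, hc'] at hs'
            rw [eq_sub_of_add_eq' hs']
            abel
          rw [← this]
          exact Sys.one_le_h_cl _ t
        · exfalso
          apply hnot
          obtain ⟨t, rfl⟩ := Multiset.exists_cons_of_mem hp
          have : (S' k hdim).cl t = D.Φ a - D.Φ b + (g - 1 - (r + 1)) • P := by
            rw [Sys.cl_cons, hn3, show (S' k hdim).pt p = ptCls hdim p from rfl, hc'] at hY'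
            rw [eq_sub_of_add_eq' hY', ← hfix]
            abel
          rw [← this]
          exact Sys.one_le_h_cl _ t
      · exact Or.inr hk
    · rintro (hl | hr)
      · by_cases hk : 1 ≤ (S' k hdim).h (-(D.Φ z - ((S' k hdim).K - (2 * g - 2) • P)) - (D.Φ y - D.Φ a) + (g - 2) • P)
        · exact Or.inr hk
        obtain ⟨t, -, ht⟩ := ((S' k hdim).one_le_h_iff (n := r) (by
          have := D.deg_combination z (a * x) r
          rwa [D.map_mul] at this)).1 hl
        refine Or.inl (Multiset.mem_add.2 ?_)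
        have h1' : (S' k hdim).cl (s + Y) = (S' k hdim).cl ((p ::ₘ t) + Y) := by
          rw [Sys.cl_add, Sys.cl_add, hs', Sys.cl_cons, ht, hn1, show (S' k hdim).pt p = ptCls hdim p from rfl, hc']
          abel
        have hh : (S' k hdim).h ((S' k hdim).cl (s + Y)) = 1 := by
          have hrr := (S' k hdim).rr ((S' k hdim).cl (s + Y))
          rw [Sys.deg_cl, hcard, e4] at hrr
          omega
        have := (S' k hdim).uniq _ _ h1' hh
        exact Multiset.mem_add.1 (this ▸ Multiset.mem_add.2 (Or.inl (Multiset.mem_cons_self p t)))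
      · exact Or.inr hr
  constructor
  · rintro ⟨h1, h2⟩
    rcases (hmain h1).1 h2 with h | h
    · exact Or.inl h
    · exact Or.inr ⟨h1, h⟩
  · rintro (h | ⟨h1, h⟩)
    · obtain ⟨t, -, ht⟩ := ((S' k hdim).one_le_h_iff (n := r) (by
        have := D.deg_combination z (a * x) r
        rwa [D.map_mul] at this)).1 h
      have hT1 : 1 ≤ (S' k hdim).h T := by
        have : (S' k hdim).cl (p ::ₘ t) = T := by
          rw [Sys.cl_cons, ht, hT, hn1, show (S' k hdim).pt p = ptCls hdim p from rfl, hc']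
          abel
        exact this ▸ Sys.one_le_h_cl _ _
      exact ⟨hT1, (hmain hT1).2 (Or.inl h)⟩
    · exact ⟨h1, (hmain h1).2 (Or.inr h)⟩

end Groth.Agent.H25Torelli.Dict
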