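import Groth.Agent.H25Torelli.BCKbar
import Groth.Agent.H25Torelli.Translates
import Groth.Agent.H25Torelli.StatementTools
import Groth.Agent.H12AlgSp.SchImage
import Mathlib.AlgebraicGeometry.Morphisms.FlatDescent

/-!
# Geometric points of images of powers of a pointed curve over an arbitrary field
-/

set_option autoImplicit false
set_option linter.style.haveILetI false
set_option linter.unusedSectionVars false
set_option maxHeartbeats 1600000
set_option backward.isDefEq.respectTransparency.types false

noncomputable section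

universe u

open CategoryTheory CategoryTheory.Limits AlgebraicGeometry TopologicalSpace Opposite MonoidalCategory
  CartesianMonoidalCategory MonObj
open Groth.Agent.H25AbCube (PC pc pullP exists_rep pullP_pc pullP_pullP pullP_id pc_eq_iff)

namespace Groth.Agent.H25Torelli

open Groth.Agent.H25Theta (pb)
open Groth.Agent.H25Jac (fst₁ prj)

variable {k K : Type u} [Field k] [Field K] (g : Spec (CommRingCat.of K) ⟶ Spec (CommRingCat.of k))

/-- The kernel of a quasi-compact morphism from a reduced scheme is the ideal of the closure of its range. -/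
theorem ker_eq_vanishingIdeal_range {X Y : Scheme.{u}} (f : X ⟶ Y) [IsReduced X] [QuasiCompact f] :
    f.ker = Scheme.IdealSheafData.vanishingIdeal ⟨closure (Set.range f), isClosed_closure⟩ := by
  have hrad : f.ker.radical = f.ker :=
    le_antisymm (fun U x ⟨n, hn⟩ => by
      rw [Scheme.Hom.ker_apply] at hn ⊢
      rw [RingHom.mem_ker] at hn ⊢
      rw [map_pow] at hn
      exact _root_.IsReduced.eq_zero _ ⟨n, hn⟩) (Scheme.IdealSheafData.le_radical _)
  rw [show (⟨closure (Set.range f), isClosed_closure⟩ : Closeds Y) = f.ker.support from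
    Closeds.ext (Scheme.Hom.support_ker f).symm, Scheme.IdealSheafData.vanishingIdeal_support, hrad]

/-- A point with values in an algebraically closed field lifts through a morphism when its image is in the range. -/
theorem mem_range_iff [IsAlgClosed K] {A B : Over (Spec (CommRingCat.of k))} [LocallyOfFiniteType A.hom]
    (F : A ⟶ B) (x : Over.mk g ⟶ B) :
    x.left (IsLocalRing.closedPoint K) ∈ Set.range F.left ↔ ∃ w : Over.mk g ⟶ A, w ≫ F = x := by
  refine ⟨?_, fun ⟨w, hw⟩ => ⟨w.left (IsLocalRing.closedPoint K), ?_⟩⟩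
  swap
  · rw [← hw, Over.comp_left, Scheme.Hom.comp_apply]
  rintro ⟨a, ha⟩
  haveI : LocallyOfFiniteType (F.left ≫ B.hom) := by rw [Over.w F]; infer_instance
  haveI : LocallyOfFiniteType F.left := locallyOfFiniteType_of_comp F.left B.hom
  let P := pullback F.left x.left
  let q : P ⟶ Spec (CommRingCat.of K) := pullback.snd F.left x.left
  haveI : LocallyOfFiniteType q := MorphismProperty.pullback_snd (P := @LocallyOfFiniteType) _ _ inferInstance
  haveI : JacobsonSpace ↥P := LocallyOfFiniteType.jacobsonSpace q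
  obtain ⟨p, -, -⟩ := Scheme.Pullback.exists_preimage_pullback (f := F.left) (g := x.left) a
    (IsLocalRing.closedPoint K) ha
  obtain ⟨z, -, hz⟩ := nonempty_inter_closedPoints (Z := (Set.univ : Set P)) ⟨p, trivial⟩ isClosed_univ.isLocallyClosed
  let s := pointOfClosedPoint q z hz
  have hs : s ≫ q = 𝟙 _ := pointOfClosedPoint_comp q z hz
  have hc : s ≫ pullback.fst F.left x.left ≫ F.left = x.left := by
    rw [pullback.condition, ← Category.assoc, hs, Category.id_comp]
  refine ⟨Over.homMk (s ≫ pullback.fst F.left x.left) ?_, Over.OverMorphism.ext ((Category.assoc _ _ _).trans hc)⟩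
  show (s ≫ pullback.fst F.left x.left) ≫ A.hom = g
  rw [← Over.w F, ← Category.assoc, Category.assoc s, hc]
  exact Over.w x

/-- Composition with a product of points. -/
theorem comp_list_prod' {T T' A : Over (Spec (CommRingCat.of k))} [GrpObj A] (h : T' ⟶ T) :
    ∀ l : List (T ⟶ A), h ≫ l.prod = (l.map (h ≫ ·)).prod
  | [] => by simpa using MonObj.comp_one h
  | a :: l => by rw [List.prod_cons, MonObj.comp_mul, comp_list_prod' h l, List.map_cons, List.prod_cons]

variable {J : Over (Spec (CommRingCat.of k))} [GrpObj J]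

/-- Points over the extension form the points of the base change. -/
def pjHom : (Over.mk g ⟶ J) →* (One K ⟶ Red.bc g J) := MonoidHom.mk' (pj g) (pj_mul g)

theorem pj_inv (x : Over.mk g ⟶ J) : pj g x⁻¹ = (pj g x)⁻¹ := map_inv (pjHom g) x

theorem pj_one : pj g (1 : Over.mk g ⟶ J) = 1 := map_one (pjHom g)

theorem pj_list_prod (l : List (Over.mk g ⟶ J)) : pj g l.prod = (l.map (pj g)).prod := map_list_prod (pjHom g) l

theorem pj_injective {A : Over (Spec (CommRingCat.of k))} : Function.Injective (pj g (J := A)) := fun x y h => by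
  have e := congrArg (prj g) h
  rw [prj_pj, prj_pj] at e
  have e' := congrArg CommaMorphism.left e
  refine Over.OverMorphism.ext ?_
  simpa [iK] using e'

variable {C : Scheme.{u}} [C.Over (Spec (CommRingCat.of k))] [IsProper (C ↘ Spec (CommRingCat.of k))]
  [Smooth (C ↘ Spec (CommRingCat.of k))] [GeometricallyConnected (C ↘ Spec (CommRingCat.of k))]

/-- The Abel map on points over the extension. -/
theorem pj_comp_jK (j : Over.mk (C ↘ Spec (CommRingCat.of k)) ⟶ J)
    (b : Over.mk g ⟶ Over.mk (C ↘ Spec (CommRingCat.of k))) :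
    (show One K ⟶ Over.mk (CK g C ↘ Spec (CommRingCat.of K)) from pj g b) ≫ jK g j = pj g (b ≫ j) := by
  refine H25Jac.prj_injective g ?_
  rw [prj_jK, prj_pj g (b ≫ j)]
  show prj g (J := Over.mk (C ↘ Spec (CommRingCat.of k))) (pj g b) ≫ j = _
  rw [prj_pj, Category.assoc]

/-- The pullback of the class of a rational point. -/
theorem pullP_ptCls (hdim : topologicalKrullDim C = 1) (b : Pts k C) :
    (show PC (CK g C) from pullP (pullback.fst (C ↘ Spec (CommRingCat.of k)) g) (ptCls hdim b)) =
      ptCls (ck_facts g hdim).2 (σK g b) := by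
  let f := C ↘ Spec (CommRingCat.of k)
  have hk : b.1.ker.comap (pullback.fst f g) = (σK g b).1.ker := by
    refine H12Pic.PicCurve.comap_ker_lift (IsPullback.of_hasPullback f g) b.1 b.2 _ (σK g b).2 ?_
    exact pullback.lift_fst _ _ _
  have h1 := isEffCartier_pt b hdim
  have h2 := isEffCartier_pt (σK g b) (ck_facts g hdim).2
  obtain ⟨e⟩ := H12Pic.CurveFam.nonempty_pullback_idealMod_comap (pullback.fst f g) h1 (hk.symm ▸ h2)
  show pullP _ (-_) = -_
  rw [map_neg, ← pullP_pc _ _ _ (H11Ample.isInvertible_pullback _ (isInvertible_pt hdim b))]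
  exact congrArg Neg.neg ((pc_eq_iff _ _).2 ⟨e ≪≫ eqToIso (congrArg ClSub.idealMod hk)⟩)

variable [IsAlgClosed K]

/-- The points over an algebraically closed extension of the image of a power of the curve. -/
theorem mem_W_bc (j : Over.mk (C ↘ Spec (CommRingCat.of k)) ⟶ J) [IsProper J.hom] (r : ℕ) (z : Over.mk g ⟶ J) :
    pj g z ∈ ptSet (W (jK g j) r) ↔
      ∃ b : Fin r → (Over.mk g ⟶ Over.mk (C ↘ Spec (CommRingCat.of k))), (List.ofFn fun i => b i ≫ j).prod = z := by
  haveI : IsProper (Red.bc g J).hom := MorphismProperty.pullback_snd (P := @IsProper) _ g inferInstance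
  haveI : IsProper (Over.mk (WidePullback.base fun (_ : Fin r) => (CK g C ↘ Spec (CommRingCat.of K)))).hom :=
    isProper_powOver _ r
  rw [W, ← Set.image_univ, mem_ptSet_image _ isClosed_univ]
  constructor
  · rintro ⟨w, -, hw⟩
    choose b hb using fun i : Fin r => exists_pj g (J := Over.mk (C ↘ Spec (CommRingCat.of k)))
      (w ≫ Over.homMk (WidePullback.π (fun (_ : Fin r) => (CK g C ↘ Spec (CommRingCat.of K))) i)
        (WidePullback.π_arrow (fun (_ : Fin r) => (CK g C ↘ Spec (CommRingCat.of K))) i))
    refine ⟨b, pj_injective g ?_⟩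
    rw [← hw, comp_list_prod, List.map_ofFn, pj_list_prod, List.map_ofFn]
    refine congrArg List.prod (congrArg List.ofFn (funext fun i => ?_))
    refine (pj_comp_jK g j (b i)).symm.trans ?_
    show (pj g (b i) : One K ⟶ Over.mk (CK g C ↘ Spec (CommRingCat.of K))) ≫ jK g j = _
    rw [hb i]
    exact Category.assoc _ _ _
  · rintro ⟨b, rfl⟩
    let bK : Fin r → Pts K (CK g C) := fun i => Pts.of (pj g (b i))
    refine ⟨Over.homMk (WidePullback.lift (𝟙 (Spec (CommRingCat.of K))) (fun i => (bK i).1) (fun i => (bK i).2))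
      (WidePullback.lift_base _ _ _ _), trivial, ?_⟩
    rw [comp_list_prod, List.map_ofFn, pj_list_prod, List.map_ofFn]
    refine congrArg List.prod (congrArg List.ofFn (funext fun i => ?_))
    refine Eq.trans ?_ (pj_comp_jK g j (b i))
    show _ ≫ _ ≫ jK g j = _
    rw [← Category.assoc]
    exact congrArg (· ≫ jK g j) (Over.OverMorphism.ext (WidePullback.lift_π _ _ _ _ i))

/-- A geometric point of a translate of the image of a power of the curve. -/
theorem mem_range_translW (j : Over.mk (C ↘ Spec (CommRingCat.of k)) ⟶ J) [IsProper J.hom]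
    (r : ℕ) (t : One k ⟶ J) (tx : Over.mk g ⟶ J) (htx : tx = toUnit _ ≫ t) (z : Over.mk g ⟶ J) :
    z.left (IsLocalRing.closedPoint K) ∈ Set.range (sumMap j r ≫ Jac.transl J t).left ↔
      pj g z ∈ ptSet ((Jac.transl (Red.bc g J) (pj g tx)).left.base '' W (jK g j) r) := by
  haveI : IsProper (Red.bc g J).hom := MorphismProperty.pullback_snd (P := @IsProper) _ g inferInstance
  haveI : IsProper (Over.mk (WidePullback.base fun (_ : Fin r) => (C ↘ Spec (CommRingCat.of k)))).hom :=
    isProper_powOver _ r
  haveI : IsProper (Over.mk (WidePullback.base fun (_ : Fin r) => (CK g C ↘ Spec (CommRingCat.of K)))).hom :=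
    isProper_powOver _ r
  have hclW : IsClosed (W (jK g j) r) := by
    rw [W, ← Set.image_univ]
    exact isClosed_image _ isClosed_univ
  have hmem : pj g z ∈ ptSet ((Jac.transl (Red.bc g J) (pj g tx)).left.base '' W (jK g j) r) ↔
      pj g (z * tx⁻¹) ∈ ptSet (W (jK g j) r) := by
    rw [pj_mul, pj_inv]
    refine (mem_ptSet_image _ hclW).trans ⟨?_, fun h => ⟨_, h, ?_⟩⟩
    · rintro ⟨w, hw, e⟩
      rw [← e, Dict.comp_transl, mul_inv_cancel_right]
      exact hw
    · rw [Dict.comp_transl, inv_mul_cancel_right]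
  rw [hmem, mem_W_bc, mem_range_iff g]
  let T := Over.mk g
  let P := Over.mk (WidePullback.base fun (_ : Fin r) => (C ↘ Spec (CommRingCat.of k)))
  let π : ∀ _ : Fin r, P ⟶ Over.mk (C ↘ Spec (CommRingCat.of k)) := fun i =>
    Over.homMk (WidePullback.π (fun (_ : Fin r) => (C ↘ Spec (CommRingCat.of k))) i)
      (WidePullback.π_arrow (fun (_ : Fin r) => (C ↘ Spec (CommRingCat.of k))) i)
  have hcomp : ∀ w : T ⟶ P, w ≫ sumMap j r ≫ Jac.transl J t =
      (List.ofFn fun i => (w ≫ π i) ≫ j).prod * tx := fun w => by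
    rw [Jac.transl, ← Category.assoc, MonObj.comp_mul, Category.comp_id, ← Category.assoc,
      toUnit_unique ((w ≫ sumMap j r) ≫ toUnit J) (toUnit T), htx]
    congr 1
    rw [comp_list_prod', List.map_ofFn]
    exact congrArg List.prod (congrArg List.ofFn (funext fun i => (Category.assoc _ _ _).symm))
  constructor
  · rintro ⟨w, hw⟩
    exact ⟨fun i => w ≫ π i, eq_mul_inv_of_mul_eq ((hcomp w).symm.trans hw)⟩
  · rintro ⟨b, hb⟩
    let w : T ⟶ P := Over.homMk (WidePullback.lift g (fun i => (b i).left) (fun i => Over.w (b i)))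
      (WidePullback.lift_base _ _ _ _)
    refine ⟨w, ?_⟩
    rw [hcomp w, ← eq_mul_inv_iff_mul_eq, ← hb]
    exact congrArg List.prod (congrArg List.ofFn (funext fun i =>
      congrArg (· ≫ j) (Over.OverMorphism.ext (WidePullback.lift_π _ _ _ _ i))))

end Groth.Agent.H25Torelli
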