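import Groth.Agent.H25Torelli.Points

/-!
# A universal family on a coarse Jacobian and its values at points of fields
-/

set_option autoImplicit false
set_option linter.style.haveILetI false
set_option linter.unusedSectionVars false
set_option maxHeartbeats 1600000
set_option backward.isDefEq.respectTransparency.types false

noncomputable section

universe u

open CategoryTheory CategoryTheory.Limits AlgebraicGeometry TopologicalSpace Opposite MonoidalCategory
  CartesianMonoidalCategory MonObj

namespace Groth.Agent.H25Torelli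

open Groth.Agent.H12Pic Groth.Agent.H12Pic.PicCurve
open Groth.Agent.H25Theta (Cls cls pull pullU unitCls pb)

variable {k : Type u} [Field k] {C : Scheme.{u}} {f : C ⟶ Spec (CommRingCat.of k)} [IsProper f]
  [SmoothOfRelativeDimension 1 f] [GeometricallyConnected f]

/-- The universal family of a coarse Jacobian of a pointed curve. -/
theorem exists_univ (hX : Curve.IsSmoothProperCurve k C f) {σ : Spec (CommRingCat.of k) ⟶ C} (hσ : σ ≫ f = 𝟙 _)
    {J : Over (Spec (CommRingCat.of k))} [GrpObj J] {ψ : (ModFun.PicDeg f 0).Hom ⊤ J}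
    (hJ : Jac.IsJacobian f ⊤ J ψ) :
    ∃ (Pu : (PicF.XT f J).Modules) (hok : (ModFun.PicDeg f 0).ok J Pu), ψ.app J Pu trivial hok = 𝟙 J ∧
      ∀ (T : Over (Spec (CommRingCat.of k))) [Subsingleton T.left] [Nonempty T.left]
        (L : (PicF.XT f T).Modules) (hT) (hx), Nonempty (L ≅ pb (PicF.XTmap f (ψ.app T L hT hx)) Pu) := by
  obtain ⟨J₀, hg₀, hc, hp, hs, hi, ⟨D⟩⟩ := H25Jac.exists_jData (σ := σ) (hσ := hσ) hX
  haveI := hc
  obtain ⟨e, h1, h2, hχ⟩ := D.iso_of_isJacobian hJ
  obtain ⟨Lu, hxu, hLu, hpsi⟩ := D.exists_univMod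
  have hok := H25Jac.ok_pull e.hom hxu
  have hone : ψ.app J (pb (PicF.XTmap f e.hom) Lu) trivial hok = 𝟙 J := by
    rw [← cancel_mono e.hom, hχ, Category.id_comp]
    exact (D.psi.natural e.hom Lu trivial trivial hxu hok).trans
      ((congrArg (e.hom ≫ ·) hpsi).trans (Category.comp_id _))
  refine ⟨_, hok, hone, fun T _ _ L hT hx => ?_⟩
  set a := ψ.app T L hT hx
  have hnorm : ∀ {M : (PicF.XT f T).Modules} (hM : PicF.IsInvertible M),
      H29Ell.norm f σ hσ T (unitCls hM) = unitCls hM := fun {M} hM => by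
    refine H29Ell.norm_eq_self f σ hσ _ (unitCls hM) ?_
    obtain ⟨e'⟩ := H25Theta.nonempty_iso_of_subsingleton (H11Ample.isInvertible_pullback (PicF.secT f σ hσ T) hM)
    exact Units.ext (Quot.sound ⟨e'⟩)
  have hok' := H25Jac.ok_pull a hok
  have hL := ((H25Jac.ok_iff T L).1 hx).1
  have hP := ((H25Jac.ok_iff T _).1 hok').1
  have e1 : D.psi.app T L hT hx = D.psi.app T _ hT hok' := by
    rw [← hχ, ← hχ]
    refine congrArg (· ≫ e.hom) ((ψ.natural a _ trivial hT hok hok').trans ?_).symm
    rw [hone, Category.comp_id]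
  have e2 := congrArg D.xU e1
  rw [D.xU_psi, D.xU_psi, hnorm hL, hnorm hP] at e2
  exact ⟨(Sep.iso_of_cl_eq (congrArg Units.val e2)).some⟩

end Groth.Agent.H25Torelli
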