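import Groth.Agent.H25Torelli.BCPoints
import Groth.Agent.H25Torelli.Univ

/-!
# The theta locus and its geometric base change over an arbitrary field
-/

set_option autoImplicit false
set_option linter.style.haveILetI false
set_option linter.unusedSectionVars false
set_option maxHeartbeats 1600000
set_option backward.isDefEq.respectTransparency.types false

noncomputable section

universe u

open CategoryTheory CategoryTheory.Limits AlgebraicGeometry TopologicalSpace Opposite MonoidalCategory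
  CartesianMonoidalCategory MonObj
open Groth.Agent.H25AbCube (PC pc pullP exists_rep pullP_pc pullP_pullP pullP_id pc_eq_iff pc_tensor pc_one ev)

namespace Groth.Agent.H25Torelli

open Groth.Agent.H12Pic Groth.Agent.H12Pic.PicCurve
open Groth.Agent.H25Theta (pb pC pT)
open Groth.Agent.H25Jac (fst₁)

attribute [local instance] fieldPointOver

variable {k : Type u} [Field k] {C : Scheme.{u}} [C.Over (Spec (CommRingCat.of k))]
  [IsProper (C ↘ Spec (CommRingCat.of k))] [Smooth (C ↘ Spec (CommRingCat.of k))]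
  [GeometricallyConnected (C ↘ Spec (CommRingCat.of k))]
  {J : Over (Spec (CommRingCat.of k))} [GrpObj J]
  {ψ : (ModFun.PicDeg (C ↘ Spec (CommRingCat.of k)) 0).Hom ⊤ J}

/-- The Jacobian of a pointed curve is an abelian variety. -/
theorem jac_facts (hdim : topologicalKrullDim C = 1) (σ : Pts k C)
    (hJ : Jac.IsJacobian (C ↘ Spec (CommRingCat.of k)) ⊤ J ψ) :
    IsProper J.hom ∧ Smooth J.hom ∧ GeometricallyIntegral J.hom := by
  let f := C ↘ Spec (CommRingCat.of k)
  obtain ⟨hX, hrel⟩ := H25Jac.isSmoothProperCurve_of_connected f hdim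
  haveI := hrel
  obtain ⟨J₀, hg₀, hc, hp, hs, hi, ⟨D⟩⟩ := H25Jac.exists_jData (σ := σ.1) (hσ := σ.2) hX
  obtain ⟨e, -, -, -⟩ := D.iso_of_isJacobian hJ
  haveI := hp; haveI := hs; haveI := hi
  exact ⟨H25Jac.isProper_of_iso e, by rw [← Over.w e.hom]; infer_instance, H25Jac.geometricallyIntegral_of_iso e⟩

/-- The degree of a module of the curve on the family over the base. -/
theorem degAt_fst₁_field [SmoothOfRelativeDimension 1 (C ↘ Spec (CommRingCat.of k))] (M : C.Modules)
    (hM : PicF.IsInvertible M) (t : (One k).left) :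
    degAt (C ↘ Spec (CommRingCat.of k)) (One k) (pb (fst₁ (C ↘ Spec (CommRingCat.of k))) M) t =
      Curv2.deg k C M 1 := by
  let f := C ↘ Spec (CommRingCat.of k)
  haveI : IsIso (𝟙_ (Over (Spec (CommRingCat.of k)))).hom := inferInstanceAs (IsIso (𝟙 (Spec (CommRingCat.of k))))
  haveI : IsIso (fst₁ f) := inferInstanceAs (IsIso (pullback.fst f (𝟙_ (Over (Spec (CommRingCat.of k)))).hom))
  haveI := H29RR.isNoetherian_of_proper (k := k) (X := C)
  have hq : ∀ {N : C.Modules}, PicF.IsInvertible N → N.IsQuasicoherent := fun hN =>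
    (H11Ample.isCoh_of_isInvertible hN).1
  letI : (PicF.XT f (One k)).Over (Spec (CommRingCat.of k)) := fieldPointOver f (𝟙 _)
  refine Eq.trans (degAt_point f (𝟙 (Spec (CommRingCat.of k))) (H11Ample.isInvertible_pullback _ hM) t) ?_
  have he : (asIso (fst₁ f)).hom ≫ f = PicF.XTproj f (One k) :=
    pullback.condition.trans (Category.comp_id _)
  haveI := hq hM
  haveI := hq (H11Ample.isInvertible_structureModule (X := C))
  rw [H29RR.deg_def, H29RR.deg_def]
  refine congrArg₂ (fun a b : ℤ => a - b) (H19AbSch.EulerPull.euler_pullback_iso (asIso (fst₁ f)) he M) ?_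
  rw [← H19AbSch.EulerPull.euler_pullback_iso (k := k) (asIso (fst₁ f)) he (Coh.structureModule C)]
  exact (H25Euler.euler_congr (k := k) (H16Derived.KFlat.Stalk.structurePullbackIso (fst₁ f))).symm

/-- A family of dictionaries over a field extension is compatible with the classifying map. -/
def Compat {K : Type u} [Field K] [IsAlgClosed K] (g : Spec (CommRingCat.of K) ⟶ Spec (CommRingCat.of k))
    {hdimK : topologicalKrullDim (CK g C) = 1} {τ : Pts K (CK g C)}
    {ψK : (ModFun.PicDeg (CK g C ↘ Spec (CommRingCat.of K)) 0).Hom ⊤ (Red.bc g J)}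
    {aK : Over.mk (CK g C ↘ Spec (CommRingCat.of K)) ⟶ Red.bc g J}
    (ψ : (ModFun.PicDeg (C ↘ Spec (CommRingCat.of k)) 0).Hom ⊤ J) (D : Dict hdimK τ ψK aK) : Prop :=
  ∀ (x : Over.mk g ⟶ J) (L : (PicF.XT (C ↘ Spec (CommRingCat.of k)) (Over.mk g)).Modules)
    (hL : PicF.IsInvertible L) (hT) (hok), ψ.app (Over.mk g) L hT hok = x → D.Φ (pj g x) = pc (X := CK g C) L hL

set_option maxHeartbeats 3200000 in
/-- A rational point translating the image of a power of the curve onto the theta locus. -/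
theorem exists_translate (hdim : topologicalKrullDim C = 1) (σ : Pts k C) (g : ℕ) (hg1 : 1 ≤ g)
    (N : C.Modules) (hN : PicF.IsInvertible N) (hNdeg : Curv2.deg k C N 1 = (g : ℤ) - 1) :
    ∃ t : One k ⟶ J, ∀ {K : Type u} [Field K] [IsAlgClosed K] (s : Spec (CommRingCat.of K) ⟶ Spec (CommRingCat.of k))
      {ψK : (ModFun.PicDeg (CK s C ↘ Spec (CommRingCat.of K)) 0).Hom ⊤ (Red.bc s J)}
      {aK : Over.mk (CK s C ↘ Spec (CommRingCat.of K)) ⟶ Red.bc s J}
      (D : Dict (ck_facts s hdim).2 (σK s σ) ψK aK), Compat s ψ D →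
      D.Φ (pj s (toUnit _ ≫ t)) = (g - 1) • ptCls (ck_facts s hdim).2 (σK s σ) -
        (show PC (CK s C) from pullP (pullback.fst (C ↘ Spec (CommRingCat.of k)) s) (pc N hN)) := by
  let f := C ↘ Spec (CommRingCat.of k)
  obtain ⟨hX, hrel⟩ := H25Jac.isSmoothProperCurve_of_connected f hdim
  haveI := hrel
  obtain ⟨M, hM, hMu⟩ := exists_rep ((g - 1) • ptCls hdim σ - pc N hN)
  have hn : ∀ m : ℕ, degCls k (m • ptCls hdim σ) = (m : ℤ) := fun m => by
    induction m with
    | zero => rw [zero_smul, degCls_zero (k := k) hdim]; rfl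
    | succ m ih => rw [succ_nsmul, degCls_add (k := k) hdim, ih, degCls_ptCls]; push_cast; rfl
  have hMd : Curv2.deg k C M 1 = 0 := by
    rw [← degCls_pc M hM, hMu, sub_eq_add_neg, degCls_add (k := k) hdim, degCls_neg (k := k) hdim, hn, degCls_pc,
      hNdeg]
    omega
  have hok : (ModFun.PicDeg f 0).ok (One k) (pb (fst₁ f) M) :=
    (H25Jac.ok_iff _ _).2 ⟨H11Ample.isInvertible_pullback _ hM, fun t => (degAt_fst₁_field M hM t).trans hMd⟩
  refine ⟨ψ.app (One k) (pb (fst₁ f) M) trivial hok, fun {K} _ _ s {ψK aK} D hD => ?_⟩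
  let v : Over.mk s ⟶ One k := toUnit _
  have hok' := H25Jac.ok_pull v hok
  have hi := ((H25Jac.ok_iff _ _).1 hok').1
  rw [hD _ (pb (PicF.XTmap f v) (pb (fst₁ f) M)) hi trivial hok' (ψ.natural v _ _ _ hok hok')]
  refine Eq.trans ?_ (congrArg₂ (fun a b => (g - 1) • a - b) (pullP_ptCls s hdim σ) rfl)
  show _ = (g - 1) • pullP (pullback.fst f s) (ptCls hdim σ) - pullP (pullback.fst f s) (pc N hN)
  rw [← map_nsmul, ← map_sub, ← hMu, pullP_pc _ _ (H11Ample.isInvertible_pullback _ hM), pullP_pc _ _ hM,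
    pullP_pullP]
  exact congrArg (fun m => pullP m (pc M hM)) (H17.PullCl.XTmap_fst f v)

set_option maxHeartbeats 3200000 in
/-- The theta locus is the range of a translate of the sum map. -/
theorem exists_thetaLocus_range (hdim : topologicalKrullDim C = 1) (σ : Pts k C) (g : ℕ) (hg1 : 1 ≤ g)
    (hJ : Jac.IsJacobian (C ↘ Spec (CommRingCat.of k)) ⊤ J ψ)
    {j : Over.mk (C ↘ Spec (CommRingCat.of k)) ⟶ J} (hj : Jac.IsAbelJacobiAt (C ↘ Spec (CommRingCat.of k)) σ.1 ψ j)
    (Pu : (PicF.XT (C ↘ Spec (CommRingCat.of k)) J).Modules)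
    (hok : (ModFun.PicDeg (C ↘ Spec (CommRingCat.of k)) 0).ok J Pu)
    (hT : (⊤ : ObjectProperty (Over (Spec (CommRingCat.of k)))) J) (hψ : ψ.app J Pu hT hok = 𝟙 J)
    (N : C.Modules) (hN : PicF.IsInvertible N) (hNdeg : Curv2.deg k C N 1 = (g : ℤ) - 1) :
    ∃ t : One k ⟶ J,
      Jac.thetaLocus (C ↘ Spec (CommRingCat.of k)) 0 ψ N = Set.range (sumMap j (g - 1) ≫ Jac.transl J t).left ∧
      IsClosed (Set.range (sumMap j (g - 1) ≫ Jac.transl J t).left) ∧
      ∀ {K : Type u} [Field K] [IsAlgClosed K] (s : Spec (CommRingCat.of K) ⟶ Spec (CommRingCat.of k))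
      {ψK : (ModFun.PicDeg (CK s C ↘ Spec (CommRingCat.of K)) 0).Hom ⊤ (Red.bc s J)}
      {aK : Over.mk (CK s C ↘ Spec (CommRingCat.of K)) ⟶ Red.bc s J}
      (D : Dict (ck_facts s hdim).2 (σK s σ) ψK aK), Compat s ψ D →
      D.Φ (pj s (toUnit _ ≫ t)) = (g - 1) • ptCls (ck_facts s hdim).2 (σK s σ) -
        (show PC (CK s C) from pullP (pullback.fst (C ↘ Spec (CommRingCat.of k)) s) (pc N hN)) := by
  classical
  let f := C ↘ Spec (CommRingCat.of k)
  obtain ⟨hX, hrel⟩ := H25Jac.isSmoothProperCurve_of_connected f hdim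
  haveI := hrel
  obtain ⟨hJp, -, -⟩ := jac_facts hdim σ hJ
  haveI := hJp
  obtain ⟨t, ht⟩ := exists_translate (ψ := ψ) hdim σ g hg1 N hN hNdeg
  let F := sumMap j (g - 1) ≫ Jac.transl J t
  have hcl : IsClosed (Set.range F.left) := by
    haveI : IsProper (Over.mk (WidePullback.base fun (_ : Fin (g - 1)) => f)).hom := isProper_powOver _ _
    haveI : IsProper (F.left ≫ J.hom) := by rw [Over.w F]; infer_instance
    haveI : IsProper F.left := IsProper.of_comp F.left J.hom
    exact F.left.isClosedMap.isClosed_range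
  -- sections of twisted classes
  have key : ∀ (Ω : Type u) [Field Ω] [IsAlgClosed Ω] (s : Spec (CommRingCat.of Ω) ⟶ Spec (CommRingCat.of k))
      (x : Over.mk s ⟶ J) (L : (PicF.XT f (Over.mk s)).Modules) (hT') (hL : (ModFun.PicDeg f 0).ok (Over.mk s) L),
      ψ.app (Over.mk s) L hT' hL = x →
      (x.left (IsLocalRing.closedPoint Ω) ∈ Set.range F.left ↔
        ¬ Subsingleton (Coh.HH (PicF.XT f (Over.mk s)) (CohB1.tensorMod L (pb (pullback.fst f s) N)) 0)) := by
    intro Ω _ _ s x L hT' hL hx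
    obtain ⟨ψK, hJK, hjK, D, hD⟩ := exists_bcDict s hdim σ hJ hj
    have hLi := ((H25Jac.ok_iff _ _).1 hL).1
    have hNi := H11Ample.isInvertible_pullback (pullback.fst f s) hN
    have e : pc (X := CK s C) (CohB1.tensorMod L (pb (pullback.fst f s) N))
        (H11Ample.isInvertible_tensor (M := L) hLi hNi) =
        pc (X := CK s C) L hLi + pc (X := CK s C) (pb (pullback.fst f s) N) hNi :=
      pc_tensor (X := CK s C) hLi hNi _
    have eN : pc (X := CK s C) (pb (pullback.fst f s) N) hNi =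
        (show PC (CK s C) from pullP (pullback.fst f s) (pc N hN)) := pullP_pc _ N hN hNi
    have hcomb : D.Φ (pj s x) - D.Φ (pj s (toUnit _ ≫ t)) + (g - 1) • ptCls (ck_facts s hdim).2 (σK s σ) =
        pc (X := CK s C) (CohB1.tensorMod L (pb (pullback.fst f s) N))
          (H11Ample.isInvertible_tensor (M := L) hLi hNi) := by
      rw [hD x L hLi hT' hL hx, ht s D hD, e, eN]
      abel
    rw [mem_range_translW s j (g - 1) t (toUnit _ ≫ t) rfl x, D.mem_W_transl, hcomb]
    show 1 ≤ hCls Ω _ ↔ _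
    rw [hCls_pc]
    haveI := H29RR.isNoetherian_of_proper (k := Ω) (X := CK s C)
    haveI : Module.Finite Ω (Coh.HH (CK s C) (CohB1.tensorMod (X := CK s C) L (pb (pullback.fst f s) N)) 0) :=
      H10Coh.finite_HH_proper Ω _ _ (H11Ample.isCoh_of_isInvertible (H11Ample.isInvertible_tensor (M := L) hLi hNi)) 0
    rw [Nat.one_le_iff_ne_zero]
    exact not_congr Module.finrank_zero_iff
  refine ⟨t, Set.Subset.antisymm (closure_minimal ?_ hcl) ?_, hcl, fun {K} _ _ s {ψK aK} D hD => ht s D hD⟩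
  · rintro m ⟨Ω, _, _, s, hP, x, hx, hQ, p, hp⟩
    haveI : Subsingleton (Spec (CommRingCat.of Ω)) := inferInstanceAs (Subsingleton (PrimeSpectrum Ω))
    obtain rfl : p = IsLocalRing.closedPoint Ω := Subsingleton.elim (α := PrimeSpectrum Ω) _ _
    subst hp
    exact (key Ω s _ x hP hx rfl).2 hQ
  · intro m hm
    refine subset_closure ?_
    let Ω := AlgebraicClosure (J.left.residueField m)
    let a : Spec (CommRingCat.of Ω) ⟶ J.left :=
      Spec.map (CommRingCat.ofHom (algebraMap (J.left.residueField m) Ω)) ≫ J.left.fromSpecResidueField m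
    have ha : a (IsLocalRing.closedPoint Ω) = m := by
      show (Spec.map _ ≫ J.left.fromSpecResidueField m) _ = m
      rw [Scheme.Hom.comp_apply, Scheme.fromSpecResidueField_apply]
    let x : Over.mk (a ≫ J.hom) ⟶ J := Over.homMk a rfl
    have hokx := H25Jac.ok_pull x hok
    have hx : ψ.app (Over.mk (a ≫ J.hom)) (pb (PicF.XTmap f x) Pu) trivial hokx = x :=
      (ψ.natural x Pu hT trivial hok hokx).trans ((congrArg (x ≫ ·) hψ).trans (Category.comp_id x))
    refine ⟨Ω, inferInstance, inferInstance, a ≫ J.hom, trivial, pb (PicF.XTmap f x) Pu, hokx,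
      (key Ω (a ≫ J.hom) x _ trivial hokx hx).1 (by rw [show x.left _ = m from ha]; exact hm),
      IsLocalRing.closedPoint Ω, ?_⟩
    exact (congrArg (fun y : Over.mk (a ≫ J.hom) ⟶ J => y.left (IsLocalRing.closedPoint Ω)) hx).trans ha

end Groth.Agent.H25Torelli
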