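import Groth.Agent.H25Torelli.Sys
import Groth.Agent.H25AbCube.Degree
import Groth.Agent.H25Jac.PointDrop
import Groth.Agent.H25Jac.EffPoints
import Groth.Agent.H27CurveZeta.Classes
import Groth.Agent.H29DoubleCover.Connected

/-!
# The system of divisor classes of a curve over an algebraically closed field
-/

set_option autoImplicit false
set_option linter.style.haveILetI false
set_option linter.unusedSectionVars false
set_option maxHeartbeats 1600000
set_option backward.isDefEq.respectTransparency.types false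

noncomputable section

universe u

open CategoryTheory CategoryTheory.Limits AlgebraicGeometry TopologicalSpace Opposite MonoidalCategory
  CartesianMonoidalCategory
open Groth.Agent.H25AbCube (PC pc pullP exists_rep pc_eq_iff pc_tensor pc_one)

namespace Groth.Agent.H25Torelli

attribute [local instance 10000] H10Coh.hasSheafifyAb H10Coh.hasWeakSheafifyAb H10Coh.hasExtAb H10Coh.enoughInjAb
attribute [local instance] H29CurveDual.homModule Curv2.resAlgebra

variable {k : Type u} [Field k] {C : Scheme.{u}} [C.Over (Spec (CommRingCat.of k))]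

variable (k C) in
/-- A rational point of the curve. -/
abbrev Pts : Type u := {b : Spec (CommRingCat.of k) ⟶ C // b ≫ (C ↘ Spec (CommRingCat.of k)) = 𝟙 _}

variable (k) in
/-- The number of sections of a class. -/
def hCls (u : PC C) : ℕ := Module.finrank k (Coh.HH C (exists_rep u).choose 0)

theorem hCls_pc (M : C.Modules) (hM : PicF.IsInvertible M) : hCls k (pc M hM) = Module.finrank k (Coh.HH C M 0) := by
  obtain ⟨h, e⟩ := (exists_rep (pc M hM)).choose_spec
  exact (H29RR.hhIso (k := k) ((pc_eq_iff h hM).1 e).some 0).finrank_eq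

variable (k) in
/-- The degree of a class. -/
def degCls (u : PC C) : ℤ := Curv2.deg k C (exists_rep u).choose 1

theorem degCls_pc (M : C.Modules) (hM : PicF.IsInvertible M) : degCls k (pc M hM) = Curv2.deg k C M 1 := by
  obtain ⟨h, e⟩ := (exists_rep (pc M hM)).choose_spec
  exact H29RR.deg_congr (k := k) ((pc_eq_iff h hM).1 e).some

variable [IsProper (C ↘ Spec (CommRingCat.of k))] [Smooth (C ↘ Spec (CommRingCat.of k))]
  [GeometricallyConnected (C ↘ Spec (CommRingCat.of k))] (hdim : topologicalKrullDim C = 1)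

include hdim

theorem degCls_add (u v : PC C) : degCls k (u + v) = degCls k u + degCls k v := by
  haveI := H29DoubleCover.isIntegral_of_smooth_connected (C ↘ Spec (CommRingCat.of k))
  haveI := H29RR.isNoetherian_of_proper (k := k) (X := C)
  obtain ⟨M, hM, rfl⟩ := exists_rep u
  obtain ⟨N, hN, rfl⟩ := exists_rep v
  rw [← pc_tensor hM hN (H11Ample.isInvertible_tensor hM hN), degCls_pc, degCls_pc, degCls_pc,
    H29RR.deg_tensor (k := k) hdim.le hM hN]

omit hdim in
theorem isEffCartier_pt (b : Pts k C) (hdim : topologicalKrullDim C = 1) : BlowUp.IsEffCartierIdeal b.1.ker := by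
  haveI := H29DoubleCover.isIntegral_of_smooth_connected (C ↘ Spec (CommRingCat.of k))
  haveI := H27CurveDiv.smoothOfRelativeDimension_of_dim (C ↘ Spec (CommRingCat.of k)) 1 (by exact_mod_cast hdim)
  exact H12Pic.CurveFam.isEffCartierIdeal_section _ b.1 b.2

theorem isInvertible_pt (b : Pts k C) : PicF.IsInvertible (ClSub.idealMod b.1.ker) :=
  H29Blow.isInvertible_of_isEffCartierIdeal _ (isEffCartier_pt b hdim)

/-- The class of a point. -/
def ptCls (b : Pts k C) : PC C := -pc (ClSub.idealMod b.1.ker) (isInvertible_pt hdim b)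

theorem degCls_zero : degCls k (0 : PC C) = 0 := by
  have := degCls_add (k := k) hdim (0 : PC C) 0
  rw [add_zero] at this
  omega

theorem degCls_neg (u : PC C) : degCls k (-u) = -degCls k u := by
  have := degCls_add (k := k) hdim (-u) u
  rw [neg_add_cancel, degCls_zero (k := k) hdim] at this
  omega

theorem degCls_ptCls (b : Pts k C) : degCls k (ptCls hdim b) = 1 := by
  haveI := H29DoubleCover.isIntegral_of_smooth_connected (C ↘ Spec (CommRingCat.of k))
  rw [ptCls, degCls_neg (k := k) hdim, degCls_pc]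
  obtain ⟨hx, hk, hr⟩ := S6487.section_pt b.1 b.2
  simp only [hk]
  rw [H27CurveZeta.deg_pt (k := k) hdim hx, hr]
  rfl

theorem hCls_zero : hCls k (0 : PC C) = 1 := by
  haveI := H29DoubleCover.isIntegral_of_smooth_connected (C ↘ Spec (CommRingCat.of k))
  haveI := H29DoubleCover.geometricallyIntegral_of_smooth_connected (C ↘ Spec (CommRingCat.of k))
  rw [← pc_one, hCls_pc]
  exact H29CurveDual.finrank_h0_structure_smooth

theorem hCls_sub_pt (u : PC C) (b : Pts k C) :
    hCls k (u - ptCls hdim b) ≤ hCls k u ∧ hCls k u ≤ hCls k (u - ptCls hdim b) + 1 := by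
  haveI := H29DoubleCover.isIntegral_of_smooth_connected (C ↘ Spec (CommRingCat.of k))
  obtain ⟨M, hM, rfl⟩ := exists_rep u
  obtain ⟨hI, hd⟩ := H25Jac.h0_point (k := k) hdim b.1 b.2
  rw [ptCls, sub_neg_eq_add, add_comm, ← pc_tensor hI hM (H11Ample.isInvertible_tensor hI hM), hCls_pc, hCls_pc]
  by_cases h : ∃ g : Γ(M, ⊤), b.1 (IsLocalRing.closedPoint k) ∈ H11Ample.gen M g
  · have := (hd hM).1 fun p => by rwa [Subsingleton.elim (α := PrimeSpectrum k) p (IsLocalRing.closedPoint k)]
    omega
  · have := (hd hM).2 fun p => by rwa [Subsingleton.elim (α := PrimeSpectrum k) p (IsLocalRing.closedPoint k)]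
    omega

theorem exists_drop [IsAlgClosed k] (u : PC C) (hu : 1 ≤ hCls k u) :
    ∃ b : Pts k C, hCls k (u - ptCls hdim b) + 1 = hCls k u := by
  haveI := H29DoubleCover.isIntegral_of_smooth_connected (C ↘ Spec (CommRingCat.of k))
  haveI := H29RR.isNoetherian_of_proper (k := k) (X := C)
  obtain ⟨M, hM, rfl⟩ := exists_rep u
  rw [hCls_pc] at hu
  haveI : Nontrivial (Coh.HH C M 0) := Module.nontrivial_of_finrank_pos (R := k) hu
  obtain ⟨g, hg⟩ := H29RR.exists_global_ne_zero M inferInstance
  obtain ⟨s, hs, hsU⟩ := H25Jac.exists_point_mem (k := k) (H11Ample.gen M g) ⟨_, H29RR.genericPoint_mem_gen hM hg⟩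
  refine ⟨⟨s, hs⟩, ?_⟩
  obtain ⟨hI, hd⟩ := H25Jac.h0_point (k := k) hdim s hs
  rw [ptCls, sub_neg_eq_add, add_comm (pc M hM), ← pc_tensor hI hM (H11Ample.isInvertible_tensor hI hM), hCls_pc,
    hCls_pc]
  exact (hd hM).1 fun p => ⟨g, hsU p⟩

theorem hCls_sum (s : Multiset (Pts k C)) : 1 ≤ hCls k (s.map (ptCls hdim)).sum := by
  have : ∀ t : Multiset (Pts k C), hCls k (0 : PC C) ≤ hCls k (t.map (ptCls hdim)).sum := by
    intro t
    induction t using Multiset.induction with
    | empty => simp
    | cons b t ih =>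
      refine ih.trans ?_
      rw [Multiset.map_cons, Multiset.sum_cons]
      have := (hCls_sub_pt hdim (ptCls hdim b + (t.map (ptCls hdim)).sum) b).1
      rwa [add_sub_cancel_left] at this
  exact (hCls_zero (k := k) hdim).ge.trans (this s)

/-- The class of the ideal of a combination of points. -/
theorem exists_pts_of_cycle [IsAlgClosed k] {α : C →₀ ℕ} (hα : ∀ x ∈ α.support, IsClosed ({x} : Set C))
    (hI : PicF.IsInvertible (ClSub.idealMod (H27CurveZeta.ofCycle α))) :
    ∃ s : Multiset (Pts k C), (s.map (fun b : Pts k C => b.1 (IsLocalRing.closedPoint k))) = Finsupp.toMultiset α ∧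
      (s.map (ptCls hdim)).sum = -pc _ hI := by
  haveI := H29DoubleCover.isIntegral_of_smooth_connected (C ↘ Spec (CommRingCat.of k))
  classical
  let p : ∀ x : C, IsClosed ({x} : Set C) → Pts k C := fun x hx =>
    ⟨pointOfClosedPoint (C ↘ Spec (CommRingCat.of k)) x hx, pointOfClosedPoint_comp _ x hx⟩
  have hp : ∀ x hx, (p x hx).1 (IsLocalRing.closedPoint k) = x := fun x hx => pointOfClosedPoint_apply _ x hx _
  have hgen : ∀ (t : Finset C) (ht : ∀ x ∈ t, IsClosed ({x} : Set C))
      (hE : PicF.IsInvertible (ClSub.idealMod (∏ x ∈ t, H29RR.ptIdeal x ^ α x))),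
      ((∑ x ∈ t.attach, Multiset.replicate (α x.1) (p x.1 (ht _ x.2))).map (ptCls hdim)).sum = -pc _ hE := by
    intro t ht hE
    induction t using Finset.induction_on with
    | empty =>
      rw [Finset.attach_empty, Finset.sum_empty, Multiset.map_zero, Multiset.sum_zero, eq_comm, neg_eq_zero, ← pc_one,
        pc_eq_iff]
      rw [Finset.prod_empty]
      exact ⟨(H25Theta.cls_eq.1 (congrArg Units.val (H25Jac.idU_top (Y := C)))).some⟩
    | insert a t ha ih =>
      have ha' := ht a (Finset.mem_insert_self a t)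
      obtain ⟨-, hk, -⟩ := S6487.section_pt (p a ha').1 (p a ha').2
      rw [hp a ha'] at hk
      have hpow : ∀ n : ℕ, ∃ hn : PicF.IsInvertible (ClSub.idealMod (H29RR.ptIdeal a ^ n)),
          n • ptCls hdim (p a ha') = -pc _ hn := by
        intro n
        induction n with
        | zero =>
          refine ⟨by rw [pow_zero]; exact (S8914.result _).2 H29Blow.isEffCartierIdeal_top, ?_⟩
          rw [zero_nsmul, eq_comm, neg_eq_zero, ← pc_one, pc_eq_iff, pow_zero]
          exact ⟨(H25Theta.cls_eq.1 (congrArg Units.val (H25Jac.idU_top (Y := C)))).some⟩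
        | succ n ihn =>
          obtain ⟨hn, e⟩ := ihn
          have h1 := (S8914.result _).1 hn
          have h2 : BlowUp.IsEffCartierIdeal (H29RR.ptIdeal a) := hk ▸ isEffCartier_pt (p a ha') hdim
          have h3 := H28Vert.isEffCartierIdeal_mul h1 h2
          refine ⟨by rw [pow_succ]; exact (S8914.result _).2 h3, ?_⟩
          rw [succ_nsmul, e, ptCls, ← neg_add, neg_inj, ← pc_tensor hn (isInvertible_pt hdim _)
            (H11Ample.isInvertible_tensor hn (isInvertible_pt hdim _)), pc_eq_iff, pow_succ, hk]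
          exact H28Vert.nonempty_idealMod_mul h1 h2
      obtain ⟨hn, e⟩ := hpow (α a)
      have hE' : PicF.IsInvertible (ClSub.idealMod (∏ x ∈ t, H29RR.ptIdeal x ^ α x)) :=
        (S8914.result _).2 (H28Vert.isEffCartierIdeal_prod _ _ (fun y hy =>
          H27CurveZeta.isDiv_pt (k := k) hdim (ht y (Finset.mem_insert_of_mem hy))) _)
      have hsplit : ∑ x ∈ (insert a t).attach, Multiset.replicate (α x.1) (p x.1 (ht _ x.2)) =
          Multiset.replicate (α a) (p a ha') +
            ∑ x ∈ t.attach, Multiset.replicate (α x.1) (p x.1 (ht _ (Finset.mem_insert_of_mem x.2))) := by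
        rw [Finset.attach_insert, Finset.sum_insert (by simp [ha]), Finset.sum_image (by
          intro x _ y _ h; exact Subtype.ext (congrArg Subtype.val h :))]
      rw [hsplit, Multiset.map_add, Multiset.sum_add, Multiset.map_replicate, Multiset.sum_replicate, e,
        ih (fun x hx => ht x (Finset.mem_insert_of_mem hx)) hE', ← neg_add, neg_inj,
        ← pc_tensor hn hE' (H11Ample.isInvertible_tensor hn hE'), pc_eq_iff, Finset.prod_insert ha]
      exact H28Vert.nonempty_idealMod_mul ((S8914.result _).1 hn) ((S8914.result _).1 hE')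
  refine ⟨∑ x ∈ α.support.attach, Multiset.replicate (α x.1) (p x.1 (hα _ x.2)), ?_, hgen α.support hα hI⟩
  rw [Finsupp.toMultiset_apply, Finsupp.sum, ← Finset.sum_attach α.support fun x => α x • ({x} : Multiset C),
    ← Multiset.coe_mapAddMonoidHom, map_sum]
  refine Finset.sum_congr rfl fun x _ => ?_
  rw [Multiset.coe_mapAddMonoidHom, Multiset.map_replicate, hp, Multiset.nsmul_singleton]

theorem exists_eff [IsAlgClosed k] (u : PC C) (hu : 1 ≤ hCls k u) :
    ∃ s : Multiset (Pts k C), (s.map (ptCls hdim)).sum = u := by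
  haveI := H29DoubleCover.isIntegral_of_smooth_connected (C ↘ Spec (CommRingCat.of k))
  haveI := H29RR.isNoetherian_of_proper (k := k) (X := C)
  obtain ⟨M, hM, rfl⟩ := exists_rep u
  rw [hCls_pc] at hu
  obtain ⟨N, hN, ⟨e⟩⟩ := H29RR.exists_inverse_comm hM
  have hnt : Nontrivial (Coh.HH C (CohB1.tensorMod (Coh.structureModule C) M) 0) :=
    Module.nontrivial_of_finrank_pos (R := k) ((H29RR.hhIso (k := k) (H10Coh.Tw.leftUnitIso M) 0).finrank_eq.symm ▸ hu)
  obtain ⟨μ, hμ⟩ := H29RR.exists_hom_of_section hN e hnt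
  obtain ⟨I, hI, φ, -⟩ := H27CurveZeta.exists_ideal_of_hom hN hμ
  obtain ⟨α, hα, rfl⟩ := H27CurveZeta.exists_cycle (k := k) hdim _ I hI
    (Int.self_le_toNat (-Curv2.deg k C (ClSub.idealMod I) 1))
  obtain ⟨s, -, hs⟩ := exists_pts_of_cycle (k := k) hdim hα ((S8914.result _).2 hI)
  refine ⟨s, hs.trans ?_⟩
  rw [← (pc_eq_iff hN _).2 ⟨φ⟩, neg_eq_iff_add_eq_zero, ← pc_tensor hN hM (H11Ample.isInvertible_tensor hN hM),
    ← pc_one, pc_eq_iff]
  exact ⟨H10Coh.Tw.commIso N M ≪≫ e⟩

theorem ideal_of_multiset [IsAlgClosed k] (s : Multiset (Pts k C)) :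
    ∃ (α : C →₀ ℕ) (hα : ∀ x ∈ α.support, IsClosed ({x} : Set C))
      (hI : PicF.IsInvertible (ClSub.idealMod (H27CurveZeta.ofCycle α))),
      Finsupp.toMultiset α = s.map (fun b : Pts k C => b.1 (IsLocalRing.closedPoint k)) ∧
      (s.map (ptCls hdim)).sum = -pc _ hI := by
  haveI := H29DoubleCover.isIntegral_of_smooth_connected (C ↘ Spec (CommRingCat.of k))
  classical
  let α := Multiset.toFinsupp (s.map fun b : Pts k C => b.1 (IsLocalRing.closedPoint k))
  have hα : ∀ x ∈ α.support, IsClosed ({x} : Set C) := fun x hx => by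
    simp only [α, Multiset.toFinsupp_support, Multiset.mem_toFinset, Multiset.mem_map] at hx
    obtain ⟨b, -, rfl⟩ := hx
    exact (S6487.section_pt b.1 b.2).1
  have hI := (S8914.result _).2 (H27CurveZeta.isDiv_ofCycle (k := k) hdim hα)
  obtain ⟨t, ht, htc⟩ := exists_pts_of_cycle (k := k) hdim hα hI
  have hinj : Function.Injective fun b : Pts k C => b.1 (IsLocalRing.closedPoint k) := fun b c h =>
    Subtype.ext (ext_of_apply_closedPoint_eq (C ↘ Spec (CommRingCat.of k)) b.2 c.2 h)
  obtain rfl : t = s := Multiset.map_injective hinj (ht.trans (Multiset.toFinsupp_toMultiset _))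
  exact ⟨α, hα, hI, Multiset.toFinsupp_toMultiset _, htc⟩

theorem uniq_eff [IsAlgClosed k] (s t : Multiset (Pts k C))
    (hst : (s.map (ptCls hdim)).sum = (t.map (ptCls hdim)).sum) (h1 : hCls k (s.map (ptCls hdim)).sum = 1) :
    s = t := by
  haveI := H29DoubleCover.isIntegral_of_smooth_connected (C ↘ Spec (CommRingCat.of k))
  haveI := H29RR.isNoetherian_of_proper (k := k) (X := C)
  classical
  obtain ⟨α, hα, hI, hαs, hs⟩ := ideal_of_multiset hdim s
  obtain ⟨β, hβ, hJ, hβt, ht⟩ := ideal_of_multiset hdim t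
  obtain ⟨M, hM, hMu⟩ := exists_rep ((s.map (ptCls hdim)).sum)
  rw [← hMu, hCls_pc] at h1
  rw [hst, ht] at hs
  obtain ⟨φ⟩ := (pc_eq_iff hJ hI).1 (neg_inj.1 hs)
  -- maps of the ideal module to functions form a line
  have e : CohB1.tensorMod (ClSub.idealMod (H27CurveZeta.ofCycle β)) M ≅ Coh.structureModule C := by
    refine ((pc_eq_iff (H11Ample.isInvertible_tensor hJ hM) H11Ample.isInvertible_structureModule).1 ?_).some
    rw [pc_tensor hJ hM, hMu, hst, ht, pc_one, add_neg_cancel]
  have hfr : Module.finrank k (ClSub.idealMod (H27CurveZeta.ofCycle β) ⟶ Coh.structureModule C) = 1 := by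
    rw [H29CurveDual.finrank_hom_invertible k hM e, ← h1]
    exact (H29RR.hhIso (k := k) (H10Coh.Tw.leftUnitIso M) 0).finrank_eq
  haveI : Module.Finite k (ClSub.idealMod (H27CurveZeta.ofCycle β) ⟶ Coh.structureModule C) :=
    Module.finite_of_finrank_eq_succ hfr
  obtain ⟨c, hc⟩ := exists_smul_eq_of_finrank_eq_one hfr
    (H27CurveZeta.idealModι_ne_zero ((S8914.result _).1 hJ)) (φ.hom ≫ ClSub.idealModι (H27CurveZeta.ofCycle α))
  have hc0 : c ≠ 0 := fun h0 => by
    rw [h0, zero_smul] at hc
    refine H27CurveZeta.idealModι_ne_zero ((S8914.result _).1 hI) ?_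
    rw [← cancel_epi φ.hom, ← hc, comp_zero]
  let r := fun z : k => H10Coh.globA (A := k) (X := C) z
  let a : ClSub.idealMod (H27CurveZeta.ofCycle β) ≅ ClSub.idealMod (H27CurveZeta.ofCycle β) :=
    { hom := H29CurveDual.scal _ (r c)
      inv := H29CurveDual.scal _ (r c⁻¹)
      hom_inv_id := by rw [← H29CurveDual.scal_mul, ← map_mul, inv_mul_cancel₀ hc0, map_one, H29CurveDual.scal_one]
      inv_hom_id := by rw [← H29CurveDual.scal_mul, ← map_mul, mul_inv_cancel₀ hc0, map_one, H29CurveDual.scal_one] }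
  have := H27CurveZeta.ideal_eq_of_hom (M := ClSub.idealMod (H27CurveZeta.ofCycle β)) φ a
    (hc.symm.trans (H29CurveDual.scal_natural _ _).symm)
  have hαβ := H27CurveZeta.ofCycle_inj (k := k) hdim hα hβ this
  have hinj : Function.Injective fun b : Pts k C => b.1 (IsLocalRing.closedPoint k) := fun b c h =>
    Subtype.ext (ext_of_apply_closedPoint_eq (C ↘ Spec (CommRingCat.of k)) b.2 c.2 h)
  exact Multiset.map_injective hinj (hαs.symm.trans ((congrArg _ hαβ).trans hβt))

omit hdim in
theorem nonempty_pts [IsAlgClosed k] : Nonempty (Pts k C) := by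
  haveI := H29DoubleCover.isIntegral_of_smooth_connected (C ↘ Spec (CommRingCat.of k))
  obtain ⟨s, hs, -⟩ := H25Jac.exists_point_mem (k := k) (⊤ : C.Opens) ⟨genericPoint C, trivial⟩
  exact ⟨⟨s, hs⟩⟩

/-- The class of the canonical module. -/
def canCls : PC C :=
  haveI := H29DoubleCover.isIntegral_of_smooth_connected (C ↘ Spec (CommRingCat.of k))
  pc (Omega.sheaf (C ↘ Spec (CommRingCat.of k))) (H29CurveDual.isInvertible_omega_curve (k := k) hdim)

theorem rr_cls (u : PC C) :
    (hCls k u : ℤ) - hCls k (canCls (k := k) hdim - u) = degCls k u + 1 - Curv2.genus k C := by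
  haveI := H29DoubleCover.isIntegral_of_smooth_connected (C ↘ Spec (CommRingCat.of k))
  haveI := H29RR.isNoetherian_of_proper (k := k) (X := C)
  haveI := H29DoubleCover.geometricallyIntegral_of_smooth_connected (C ↘ Spec (CommRingCat.of k))
  obtain ⟨M, hM, rfl⟩ := exists_rep u
  obtain ⟨N, hN, ⟨e⟩⟩ := H29RR.exists_inverse_comm hM
  have hΩ := H29CurveDual.isInvertible_omega_curve (k := k) (X := C) hdim
  have hMN : pc N hN = -pc M hM := by
    rw [eq_neg_iff_add_eq_zero, add_comm, ← pc_tensor hM hN (H11Ample.isInvertible_tensor hM hN), ← pc_one, pc_eq_iff]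
    exact ⟨e⟩
  rw [canCls, sub_eq_add_neg, sub_eq_add_neg, ← hMN, ← pc_tensor hΩ hN (H11Ample.isInvertible_tensor hΩ hN), hCls_pc,
    hCls_pc, degCls_pc, ← H29CurveDual.finrank_h1_invertible (k := k) hdim hM hN e]
  have h := H29RR.riemann_roch (k := k) hdim.le M
  rw [show Module.finrank k (Coh.HH C (Coh.structureModule C) 0) = 1 from H29CurveDual.finrank_h0_structure_smooth] at h
  omega

theorem deg_canCls : degCls k (canCls (k := k) hdim) = 2 * (Curv2.genus k C : ℤ) - 2 := by
  haveI := H29DoubleCover.isIntegral_of_smooth_connected (C ↘ Spec (CommRingCat.of k))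
  haveI := H29DoubleCover.geometricallyIntegral_of_smooth_connected (C ↘ Spec (CommRingCat.of k))
  rw [canCls, degCls_pc]
  exact H29CurveDual.deg_omega_of_h0 (k := k) hdim H29CurveDual.finrank_h0_structure_smooth

/-- The divisor classes of a curve form a system. -/
def sys [IsAlgClosed k] : Sys (PC C) (Pts k C) where
  deg := AddMonoidHom.mk' (degCls k) (degCls_add hdim)
  h := hCls k
  pt := ptCls hdim
  K := canCls (k := k) hdim
  g := Curv2.genus k C
  deg_pt := degCls_ptCls hdim
  deg_K := deg_canCls hdim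
  rr := rr_cls hdim
  h_sum := hCls_sum hdim
  exists_eff := exists_eff hdim
  h_sub := hCls_sub_pt hdim
  drop := exists_drop hdim
  h_zero := hCls_zero hdim
  uniq := uniq_eff hdim
  nonempty := nonempty_pts

end Groth.Agent.H25Torelli
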