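import Groth.Agent.H25Torelli.Abstract
import Groth.Agent.H25Torelli.Translates
import Groth.Agent.H25Torelli.Morphisms
import Groth.Agent.H25Jac.AbelSum

/-!
# The rational points of a Jacobian as an abstract embedding
-/

set_option autoImplicit false
set_option linter.style.haveILetI false
set_option linter.unusedSectionVars false
set_option maxHeartbeats 1600000
set_option backward.isDefEq.respectTransparency.types false

noncomputable section

universe u

open CategoryTheory CategoryTheory.Limits AlgebraicGeometry TopologicalSpace Opposite MonoidalCategory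
  CartesianMonoidalCategory MonObj
open Groth.Agent.H25AbCube (PC)

namespace Groth.Agent.H25Torelli

variable {k : Type u} [Field k]

/-- Rational points of a scheme, topologised by the underlying points. -/
instance ptsTopology {A : Over (Spec (CommRingCat.of k))} : TopologicalSpace (Additive (One k ⟶ A)) :=
  TopologicalSpace.induced (fun z : Additive (One k ⟶ A) => (Additive.toMul z).left (pt₀ k)) inferInstance

variable [IsAlgClosed k]

theorem isClosed_pre {A B : Over (Spec (CommRingCat.of k))} (F : A ⟶ B) {S : Set B.left} (hS : IsClosed S) :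
    IsClosed {z : Additive (One k ⟶ A) | Additive.toMul z ≫ F ∈ ptSet S} :=
  isClosed_induced_iff.2 ⟨F.left ⁻¹' S, hS.preimage F.left.continuous, rfl⟩

theorem isIrreducible_ptSet {A : Over (Spec (CommRingCat.of k))} [LocallyOfFiniteType A.hom] {S : Set A.left}
    (hS : IsClosed S) (hirr : IsIrreducible S) :
    IsIrreducible {z : Additive (One k ⟶ A) | Additive.toMul z ∈ ptSet S} := by
  haveI : JacobsonSpace A.left := LocallyOfFiniteType.jacobsonSpace A.hom
  have key : ∀ W : Set A.left, IsOpen W → (S ∩ W).Nonempty →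
      ∃ z : One k ⟶ A, z ∈ ptSet S ∧ z.left (pt₀ k) ∈ W := fun W hW h => by
    obtain ⟨x, ⟨hxS, hxW⟩, hxc⟩ := nonempty_inter_closedPoints h (hS.isLocallyClosed.inter hW.isLocallyClosed)
    obtain ⟨z, rfl⟩ := exists_pt (A := A) hxc
    exact ⟨z, hxS, hxW⟩
  obtain ⟨x, hx⟩ := hirr.nonempty
  obtain ⟨z₀, hz₀, -⟩ := key Set.univ isOpen_univ ⟨x, hx, trivial⟩
  refine ⟨⟨Additive.ofMul z₀, hz₀⟩, ?_⟩
  rintro U V hU hV ⟨a, ha, haU⟩ ⟨b, hb, hbV⟩
  obtain ⟨U', hU', rfl⟩ := isOpen_induced_iff.1 hU
  obtain ⟨V', hV', rfl⟩ := isOpen_induced_iff.1 hV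
  obtain ⟨z, hz, hzW⟩ := key (U' ∩ V') (hU'.inter hV') (hirr.2 U' V' hU' hV' ⟨_, ha, haU⟩ ⟨_, hb, hbV⟩)
  exact ⟨Additive.ofMul z, hz, hzW.1, hzW.2⟩

variable {C : Scheme.{u}} [C.Over (Spec (CommRingCat.of k))] [IsProper (C ↘ Spec (CommRingCat.of k))]
  [Smooth (C ↘ Spec (CommRingCat.of k))] [GeometricallyConnected (C ↘ Spec (CommRingCat.of k))]
  {hdim : topologicalKrullDim C = 1} {σ : Pts k C} {A J : Over (Spec (CommRingCat.of k))} [GrpObj A]
  [IsCommMonObj A] [GrpObj J] [IsCommMonObj J]
  {ψ : (ModFun.PicDeg (C ↘ Spec (CommRingCat.of k)) 0).Hom ⊤ J}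
  {j : Over.mk (C ↘ Spec (CommRingCat.of k)) ⟶ J}

theorem exists_card_pts (hdim : topologicalKrullDim C = 1) : ∀ n : ℕ, ∃ s : Finset (Pts k C), s.card = n
  | 0 => ⟨∅, rfl⟩
  | n + 1 => by
    classical
    obtain ⟨s, hs⟩ := exists_card_pts hdim n
    obtain ⟨b, hb⟩ := exists_pts_notMem hdim s
    exact ⟨insert b s, by rw [Finset.card_insert_of_notMem hb, hs]⟩

namespace Dict

variable (D : Dict hdim σ ψ j) (e : A ≅ J) [IsMonHom e.hom]

/-- The embedding of the rational points of a group isomorphic to the Jacobian. -/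
def emb : Emb (S' k hdim) (Additive (One k ⟶ A)) where
  σ := σ
  φ := AddMonoidHom.mk' (fun z => D.Φ (Additive.toMul z ≫ e.hom)) fun a b =>
    (congrArg D.Φ (MonObj.mul_comp (Additive.toMul a) (Additive.toMul b) e.hom)).trans (D.map_mul _ _)
  deg_φ z := D.deg_eq _
  inj a b h := Additive.toMul.injective ((cancel_mono e.hom).1 (D.injective h))
  surj u hu := by
    obtain ⟨a, ha⟩ := D.surj u hu
    exact ⟨Additive.ofMul (a ≫ e.inv), by
      show D.Φ ((a ≫ e.inv) ≫ e.hom) = u
      rw [Category.assoc, e.inv_hom_id, Category.comp_id, ha]⟩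

theorem emb_jp (p : Pts k C) : (D.emb e).jp p = Additive.ofMul (p.hom ≫ j ≫ e.inv) :=
  (D.emb e).jp_eq (by
    show D.Φ ((p.hom ≫ j ≫ e.inv) ≫ e.hom) = _
    rw [Category.assoc, Category.assoc, e.inv_hom_id, Category.comp_id]
    exact D.abel p)

theorem mem_emb_W (r : ℕ) (z : Additive (One k ⟶ A)) :
    z ∈ (D.emb e).W r ↔ Additive.toMul z ≫ e.hom ∈ ptSet (W j r) :=
  (D.mem_W r _).symm

include D in
theorem isIrreducible_W (r : ℕ) : IsIrreducible (W j r) := by
  haveI := (H25Jac.isSmoothProperCurve_of_connected (C ↘ Spec (CommRingCat.of k)) hdim).2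
  haveI : IrreducibleSpace (Over.mk (WidePullback.base fun (_ : Fin r) => (C ↘ Spec (CommRingCat.of k)))).left :=
    (H25Jac.irreducibleSpace_powOver (f := C ↘ Spec (CommRingCat.of k)) r).1
  rw [W, ← Set.image_univ]
  exact (IrreducibleSpace.isIrreducible_univ _).image _ (sumMap j r).left.continuous.continuousOn

theorem topo_emb : Topo (D.emb e) where
  closed_add r a := by
    haveI := D.proper
    convert isClosed_pre (Jac.transl A (Additive.toMul a) ≫ e.hom) (D.isClosed_W r) using 1
    ext y
    rw [Set.mem_setOf_eq, mem_emb_W, Set.mem_setOf_eq, ← Category.assoc, comp_transl, toMul_add, mul_comm]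
  closed_sub r a := by
    haveI := D.proper
    convert isClosed_pre (((𝟙 A)⁻¹ ≫ Jac.transl A (Additive.toMul a)) ≫ e.hom) (D.isClosed_W r) using 1
    ext y
    rw [Set.mem_setOf_eq, mem_emb_W, Set.mem_setOf_eq, ← Category.assoc, ← Category.assoc, GrpObj.comp_inv,
      Category.comp_id, comp_transl, toMul_sub, div_eq_mul_inv, mul_comm]
  irreducible r := by
    haveI := D.proper
    haveI : LocallyOfFiniteType A.hom := by
      rw [← Over.w e.hom]
      infer_instance
    have h : (D.emb e).W r = {z | Additive.toMul z ∈ ptSet (e.inv.left '' W j r)} := by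
      ext z
      rw [mem_emb_W, Set.mem_setOf_eq, mem_ptSet, mem_ptSet, Over.comp_left, Scheme.Hom.comp_apply]
      refine ⟨fun h => ⟨_, h, ?_⟩, ?_⟩
      · rw [← Scheme.Hom.comp_apply, ← Over.comp_left, e.hom_inv_id]
        rfl
      · rintro ⟨x, hx, hxz⟩
        rw [← hxz, ← Scheme.Hom.comp_apply, ← Over.comp_left, e.inv_hom_id]
        exact hx
    rw [h]
    haveI : IsIso e.inv.left := inferInstanceAs (IsIso ((Over.forget _).map e.inv))
    exact isIrreducible_ptSet (e.inv.left.homeomorph.isClosedMap _ (D.isClosed_W r))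
      ((D.isIrreducible_W r).image _ e.inv.left.continuous.continuousOn)

theorem topo_emb_neg : Topo (D.emb e).neg where
  closed_add r a := by
    convert (D.topo_emb e).closed_sub r (-a) using 1
    ext y
    rw [Set.mem_setOf_eq, Emb.mem_W_neg, neg_add', Set.mem_setOf_eq]
  closed_sub r a := by
    convert (D.topo_emb e).closed_add r (-a) using 1
    ext y
    rw [Set.mem_setOf_eq, Emb.mem_W_neg, neg_sub, Set.mem_setOf_eq, sub_eq_neg_add]
  irreducible r := by
    have h : (D.emb e).neg.W r = (fun z => -z) '' (D.emb e).W r := by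
      ext z
      rw [Emb.mem_W_neg, Set.image_neg_eq_neg, Set.mem_neg]
    rw [h]
    refine ((D.topo_emb e).irreducible r).image _ (Continuous.continuousOn ?_)
    refine continuous_induced_rng.2 ?_
    show Continuous fun z : Additive (One k ⟶ A) => ((Additive.toMul z)⁻¹).left (pt₀ k)
    have : (fun z : Additive (One k ⟶ A) => ((Additive.toMul z)⁻¹).left (pt₀ k)) =
        fun z => ((𝟙 A)⁻¹).left ((Additive.toMul z).left (pt₀ k)) := by
      ext z
      rw [← Scheme.Hom.comp_apply, ← Over.comp_left, GrpObj.comp_inv, Category.comp_id]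
    rw [this]
    exact ((𝟙 A)⁻¹).left.continuous.comp continuous_induced_dom

end Dict

end Groth.Agent.H25Torelli
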