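import Groth.Agent.H25Torelli.Sys

/-!
# Classes of low degree
-/

set_option autoImplicit false
universe u v

namespace Groth.Agent.H25Torelli.Sys

variable {P : Type u} [AddCommGroup P] {ι : Type v} (S : Sys P ι)

theorem h_K : S.h S.K = S.g := by
  have := S.rr 0
  rw [sub_zero, S.h_zero, map_zero] at this
  omega

/-- In positive genus a point has a single section. -/
theorem h_pt (hg : 1 ≤ S.g) (p : ι) : S.h (S.pt p) = 1 := by
  have h1 := S.h_sub (S.pt p) p
  rw [sub_self, S.h_zero] at h1
  by_contra hne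
  have h2 : S.h (S.pt p) = 2 := by omega
  have hall : ∀ q, S.pt q = S.pt p := fun q => by
    have h3 := S.h_sub (S.pt p) q
    have hd : S.deg (S.pt p - S.pt q) = ((0 : ℕ) : ℤ) := by rw [map_sub, S.deg_pt, S.deg_pt]; simp
    obtain ⟨s, hs, hs'⟩ := (S.one_le_h_iff hd).1 (by omega)
    rw [Multiset.card_eq_zero.1 hs, cl_zero] at hs'
    exact (sub_eq_zero.1 hs'.symm).symm
  obtain ⟨q, hq⟩ := S.drop S.K (by rw [S.h_K]; omega)
  rw [hall q] at hq
  have h4 := S.rr (S.pt p)
  rw [S.deg_pt, S.h_K] at *
  omega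

theorem pt_injective (hg : 1 ≤ S.g) : Function.Injective S.pt := fun p q h => by
  have := S.uniq {p} {q} (by simpa using h) (by simpa using S.h_pt hg p)
  exact Multiset.singleton_inj.1 this

/-- Two different effective divisors in a class give two sections. -/
theorem two_le_h {s t : Multiset ι} (h : S.cl s = S.cl t) (hne : s ≠ t) : 2 ≤ S.h (S.cl s) := by
  have := S.one_le_h_cl s
  by_contra hc
  exact hne (S.uniq s t h (show S.h (S.cl s) = 1 by omega))

theorem h_pair_le (hg : 1 ≤ S.g) (p q : ι) : S.h (S.pt p + S.pt q) ≤ 2 := by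
  have h := (S.h_sub (S.pt p + S.pt q) q).2
  rw [add_sub_cancel_right, S.h_pt hg] at h
  exact h

/-- In a relation between sums of pairs of points the pairs agree unless the class is a pencil. -/
theorem pencil_of_pairs (hg : 1 ≤ S.g) {a b c d : ι} (h : S.pt a + S.pt b = S.pt c + S.pt d)
    (hac : a ≠ c) (hbc : b ≠ c) : S.h (S.pt a + S.pt b) = 2 := by
  classical
  have e : ∀ x y : ι, S.cl {x, y} = S.pt x + S.pt y := fun x y => by simp [cl]
  refine le_antisymm (S.h_pair_le hg a b) ?_
  rw [← e]
  refine S.two_le_h ((e a b).trans (h.trans (e c d).symm)) fun hh => ?_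
  have : c ∈ ({a, b} : Multiset ι) := hh ▸ (by simp : c ∈ ({c, d} : Multiset ι))
  simp [hac.symm, hbc.symm] at this

end Groth.Agent.H25Torelli.Sys
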