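import Groth.Agent.H25Torelli.BCKbar
import Mathlib.FieldTheory.Galois.Infinite
import Mathlib.AlgebraicGeometry.ResidueField

/-!
# Points over the algebraic closure fixed by all automorphisms
-/

set_option autoImplicit false
set_option linter.style.haveILetI false
set_option linter.unusedSectionVars false
set_option maxHeartbeats 1600000
set_option backward.isDefEq.respectTransparency.types false

noncomputable section

universe u

open CategoryTheory CategoryTheory.Limits AlgebraicGeometry Opposite MonoidalCategory CartesianMonoidalCategory MonObj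

namespace Groth.Agent.H25Torelli

variable {k K : Type u} [Field k] [Field K] [Algebra k K]

variable (k K) in
/-- The morphism of spectra of an extension. -/
abbrev extMap : Spec (CommRingCat.of K) ⟶ Spec (CommRingCat.of k) := Spec.map (CommRingCat.ofHom (algebraMap k K))

/-- An automorphism of an extension acting on its spectrum. -/
def galMap (gam : K ≃ₐ[k] K) : Over.mk (extMap k K) ⟶ Over.mk (extMap k K) :=
  Over.homMk (Spec.map (CommRingCat.ofHom gam.toRingEquiv.toRingHom)) (by
    show Spec.map _ ≫ Spec.map _ = Spec.map _
    rw [← Spec.map_comp]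
    congr 1
    ext r
    exact gam.commutes r)

theorem galMap_comp (gam : K ≃ₐ[k] K) : galMap gam ≫ galMap gam.symm = 𝟙 _ := by
  refine Over.OverMorphism.ext ?_
  show Spec.map _ ≫ Spec.map _ = 𝟙 _
  rw [← Spec.map_comp, ← Spec.map_id]
  congr 1
  ext r
  exact gam.apply_symm_apply r

/-- A point over a Galois extension fixed by all automorphisms is rational. -/
theorem exists_rational_of_fixed [IsGalois k K] {A : Over (Spec (CommRingCat.of k))}
    (x : Over.mk (extMap k K) ⟶ A) (hx : ∀ gam : K ≃ₐ[k] K, galMap gam ≫ x = x) :
    ∃ a : One k ⟶ A, x = toUnit _ ≫ a := by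
  obtain ⟨⟨m, φ⟩, hmφ⟩ := (Scheme.SpecToEquivOfField K A.left).symm.surjective x.left
  replace hmφ : Spec.map φ ≫ A.left.fromSpecResidueField m = x.left := hmφ
  have hfix : ∀ (gam : K ≃ₐ[k] K) (r : A.left.residueField m), gam (φ r) = φ r := fun gam r => by
    have h : (galMap gam).left ≫ x.left = x.left := congrArg CommaMorphism.left (hx gam)
    rw [← hmφ] at h
    change Spec.map _ ≫ Spec.map φ ≫ _ = _ at h
    rw [← Category.assoc, cancel_mono, ← Spec.map_comp, Spec.map_inj] at h
    exact congrArg (fun F : A.left.residueField m ⟶ CommRingCat.of K => F r) h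
  have hr : ∀ r, ∃ c : k, algebraMap k K c = φ r := fun r =>
    (InfiniteGalois.mem_range_algebraMap_iff_fixed (φ r)).2 fun gam => hfix gam r
  choose c hc using hr
  have hinj := (algebraMap k K).injective
  let χ : A.left.residueField m →+* k :=
    { toFun := c
      map_one' := hinj (by rw [hc, map_one, map_one])
      map_mul' := fun a b => hinj (by rw [map_mul, hc, hc, hc, map_mul])
      map_zero' := hinj (by rw [hc, map_zero, map_zero])
      map_add' := fun a b => hinj (by rw [map_add, hc, hc, hc, map_add]) }
  let a : Spec (CommRingCat.of k) ⟶ A.left := Spec.map (CommRingCat.ofHom χ) ≫ A.left.fromSpecResidueField m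
  have ha : extMap k K ≫ a = x.left := by
    rw [← hmφ, ← Category.assoc, ← Spec.map_comp]
    congr 2
    ext r
    exact hc r
  have hw : a ≫ A.hom = 𝟙 _ := by
    haveI : Flat (extMap k K) :=
      (HasRingHomProperty.Spec_iff (P := @Flat)).2 (RingHom.flat_algebraMap_iff.2 inferInstance)
    haveI : Surjective (extMap k K) :=
      ⟨fun p => ⟨IsLocalRing.closedPoint K, Subsingleton.elim (α := PrimeSpectrum k) _ _⟩⟩
    haveI := Flat.epi_of_flat_of_surjective (extMap k K)
    rw [← cancel_epi (extMap k K), ← Category.assoc, ha, Category.comp_id]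
    exact Over.w x
  refine ⟨Over.homMk a hw, Over.OverMorphism.ext ?_⟩
  show x.left = extMap k K ≫ a
  rw [ha]

end Groth.Agent.H25Torelli
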