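import Groth.Agent.H25Torelli.Univ
import Groth.Agent.H25Torelli.Translates
import Groth.Agent.H27SymProd.Curve

/-!
# The theta locus is a translate of the image of the `(g-1)`-st power of the curve
-/

set_option autoImplicit false
set_option linter.style.haveILetI false
set_option linter.unusedSectionVars false
set_option maxHeartbeats 1600000
set_option backward.isDefEq.respectTransparency.types false

noncomputable section

universe u

open CategoryTheory CategoryTheory.Limits AlgebraicGeometry TopologicalSpace Opposite MonoidalCategory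
  CartesianMonoidalCategory MonObj
open Groth.Agent.H25AbCube (PC pc pc_tensor pc_eq_iff exists_rep)

namespace Groth.Agent.H25Torelli

open Groth.Agent.H12Pic Groth.Agent.H12Pic.PicCurve
open Groth.Agent.H25Theta (pb pC pT)

attribute [local instance] fieldPointOver

variable {k : Type u} [Field k] [IsAlgClosed k] {C : Scheme.{u}} [C.Over (Spec (CommRingCat.of k))]
  [IsProper (C ↘ Spec (CommRingCat.of k))] [Smooth (C ↘ Spec (CommRingCat.of k))]
  [GeometricallyConnected (C ↘ Spec (CommRingCat.of k))] {hdim : topologicalKrullDim C = 1} {σ : Pts k C}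
  {J : Over (Spec (CommRingCat.of k))} [GrpObj J]
  {ψ : (ModFun.PicDeg (C ↘ Spec (CommRingCat.of k)) 0).Hom ⊤ J} {j : Over.mk (C ↘ Spec (CommRingCat.of k)) ⟶ J}

set_option maxHeartbeats 3200000 in
/-- The theta locus of a module of degree one less than the genus. -/
theorem exists_thetaLocus_eq (D : Dict hdim σ ψ j) (hJ : Jac.IsJacobian (C ↘ Spec (CommRingCat.of k)) ⊤ J ψ)
    (g : ℕ) (hg : Curv2.genus k C = g) (hg1 : 1 ≤ g) (N : C.Modules) (hN : PicF.IsInvertible N)
    (hNdeg : Curv2.deg k C N 1 = (g : ℤ) - 1) :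
    ∃ t : One k ⟶ J, D.Φ t = (g - 1) • ptCls hdim σ - pc N hN ∧
      Jac.thetaLocus (C ↘ Spec (CommRingCat.of k)) 0 ψ N = (Jac.transl J t).left.base '' W j (g - 1) := by
  classical
  let f := C ↘ Spec (CommRingCat.of k)
  haveI := D.proper
  haveI := D.integral
  obtain ⟨hX, hrel⟩ := H25Jac.isSmoothProperCurve_of_connected f hdim
  haveI := hrel
  obtain ⟨Pu, hok, -, huniv⟩ := exists_univ hX σ.2 hJ
  let Sy := Dict.S' k hdim
  have hSg : ((Sy.g : ℕ) : ℤ) = g := congrArg Nat.cast hg
  have hNd : Sy.deg (pc N hN) = ((g - 1 : ℕ) : ℤ) := by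
    refine (degCls_pc N hN).trans (hNdeg.trans ?_)
    omega
  obtain ⟨t, ht⟩ := D.surj ((g - 1) • ptCls hdim σ - pc N hN) (by
    show Sy.deg _ = 0
    rw [map_sub, map_nsmul, show Sy.deg (ptCls hdim σ) = 1 from Sy.deg_pt σ, hNd]
    simp)
  refine ⟨t, ht, ?_⟩
  haveI : IsProper (PicF.XTproj f J) := isProper_XTproj f J
  haveI : Flat (PicF.XTproj f J) := MorphismProperty.pullback_snd (P := @Flat) f J.hom inferInstance
  haveI : LocallyOfFinitePresentation (PicF.XTproj f J) :=
    MorphismProperty.pullback_snd (P := @LocallyOfFinitePresentation) f J.hom inferInstance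
  obtain ⟨-, hrelJ, hgcJ⟩ := family_facts f J
  haveI := hrelJ
  haveI := hgcJ
  let π := PicF.XTproj f J
  let NJ := pb (pullback.fst f J.hom) N
  have hPu := ((H25Jac.ok_iff J Pu).1 hok).1
  let F := CohB1.tensorMod Pu NJ
  have hF : PicF.IsInvertible F := H11Ample.isInvertible_tensor hPu (H11Ample.isInvertible_pullback _ hN)
  -- the sections of a twisted class at a point of a field
  have hpt : ∀ (Ω : Type u) [Field Ω] [IsAlgClosed Ω] (s : Spec (CommRingCat.of Ω) ⟶ Spec (CommRingCat.of k))
      (x : (PicF.XT f (Over.mk s)).Modules) (hx) (p : ℕ),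
      Module.finrank Ω (Coh.HH (PicF.XT f (Over.mk s)) (CohB1.tensorMod x (pb (pullback.fst f s) N)) p) =
        CohIII.fiberRank π F p ((ψ.app (Over.mk s) x trivial hx).left (IsLocalRing.closedPoint Ω)) := by
    intro Ω _ _ s x hx p
    haveI : Subsingleton (Over.mk s).left := inferInstanceAs (Subsingleton (PrimeSpectrum Ω))
    haveI : Nonempty (Over.mk s).left := inferInstanceAs (Nonempty (PrimeSpectrum Ω))
    obtain ⟨ex⟩ := huniv (Over.mk s) x trivial hx
    set a := ψ.app (Over.mk s) x trivial hx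
    have eN : pb (PicF.XTmap f a) NJ ≅ pb (pullback.fst f s) N :=
      pC (PicF.XTmap f a) (pullback.fst f J.hom) ((pullback.lift_fst _ _ _).trans (Category.comp_id _)) N
    rw [(H29RR.hhIso (k := Ω) (PicGrp.tensorModIso ex eN.symm ≪≫ (pT (PicF.XTmap f a) Pu NJ).symm) p).finrank_eq]
    exact finrank_HH_point π hF (Y' := PicF.XT f (Over.mk s)) a.left (g' := PicF.XTmap f a)
      (H27SymProd.isPullback_XTmap f a) p
  have hclosed : IsClosed {m : J.left | CohIII.fiberRank π F 1 m ≠ 0} := by
    rw [← isOpen_compl_iff, isOpen_iff_forall_mem_open]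
    intro m hm
    simp only [Set.mem_compl_iff, Set.mem_setOf_eq, not_not] at hm
    obtain ⟨U, -, hmU, -, hU⟩ := exists_nhd_of_fiberRank_one_eq_zero π hF hm
    exact ⟨U, fun y hy => by simpa using (hU y hy).1, U.2, hmU⟩
  -- values at rational points
  have hval : ∀ (z : One k ⟶ J) (p : ℕ) (M : C.Modules) (hM : PicF.IsInvertible M), pc M hM = D.Φ z →
      CohIII.fiberRank π F p (z.left (pt₀ k)) = Module.finrank k (Coh.HH C (CohB1.tensorMod M N) p) := by
    intro z p M hM hMz
    have hMd : Curv2.deg k C M 1 = 0 := by rw [← degCls_pc M hM, hMz]; exact D.deg_eq z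
    let L := pb (H25Jac.fst₁ f) M
    have hLok : (ModFun.PicDeg f 0).ok (One k) L := by
      refine (H25Jac.ok_iff _ _).2 ⟨H11Ample.isInvertible_pullback _ hM, fun t => ?_⟩
      exact (degAt_fst₁ M hM t).trans hMd
    have hz : ψ.app (One k) L trivial hLok = z := D.injective ((D.app M hM L ⟨Iso.refl _⟩ _ _).trans hMz)
    have h := hpt k (𝟙 _) L hLok p
    rw [show ψ.app (Over.mk (𝟙 (Spec (CommRingCat.of k)))) L trivial hLok = z from hz] at h
    refine h.symm.trans ?_
    haveI : Subsingleton ↥(Spec (CommRingCat.of k)) := inferInstanceAs (Subsingleton (PrimeSpectrum k))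
    have hMN := H11Ample.isInvertible_tensor hM hN
    have h1 := finrank_HH_point f hMN (K := k) (Y' := C) (𝟙 _) (g' := 𝟙 _)
      (IsPullback.of_horiz_isIso ⟨(Category.id_comp _).trans (Category.comp_id _).symm⟩) p
    rw [(H29RR.hhIso (k := k) ((Scheme.Modules.pullbackId _).app _) p).finrank_eq] at h1
    change Module.finrank k (Coh.HH C (CohB1.tensorMod M N) p) = _ at h1
    rw [h1, ← finrank_HH_point f hMN (Y' := PicF.XT f (Over.mk (𝟙 (Spec (CommRingCat.of k))))) (𝟙 _)
      (g' := pullback.fst f (𝟙 _)) (IsPullback.of_hasPullback f (𝟙 _)) p]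
    exact (H29RR.hhIso (k := k) (pT (pullback.fst f (𝟙 (Spec (CommRingCat.of k)))) M N).symm p).finrank_eq
  have hTh : ∀ z : One k ⟶ J, z ∈ ptSet ((Jac.transl J t).left.base '' W j (g - 1)) ↔
      1 ≤ Sy.h (D.Φ z + pc N hN) := fun z => by
    rw [D.mem_W_transl, ht, show D.Φ z - ((g - 1) • ptCls hdim σ - pc N hN) + (g - 1) • ptCls hdim σ =
      D.Φ z + pc N hN by abel]
  -- the difference of the two ranks
  haveI : IsIntegral J.left := GeometricallyIntegral.isIntegral_of_subsingleton J.hom
  have hlc : IsLocallyConstant (rankDiff π F) :=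
    isLocallyConstant_rankDiff π (fun m => (fibre_of_geometricallyConnected π m).2) hF
  have hRR : ∀ (z : One k ⟶ J), (CohIII.fiberRank π F 0 (z.left (pt₀ k)) = Sy.h (D.Φ z + pc N hN)) ∧
      CohIII.fiberRank π F 1 (z.left (pt₀ k)) = Sy.h (D.Φ z + pc N hN) := by
    intro z
    haveI := H29DoubleCover.isIntegral_of_smooth_connected f
    haveI := H29DoubleCover.geometricallyIntegral_of_smooth_connected f
    obtain ⟨M, hM, hMz⟩ := exists_rep (D.Φ z)
    have hMN := H11Ample.isInvertible_tensor hM hN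
    have e0 : Sy.h (D.Φ z + pc N hN) = Module.finrank k (Coh.HH C (CohB1.tensorMod M N) 0) := by
      rw [← hMz, ← pc_tensor hM hN hMN]
      exact hCls_pc _ _
    have hRR := H29RR.riemann_roch (k := k) hdim.le (CohB1.tensorMod M N)
    rw [show Module.finrank k (Coh.HH C (Coh.structureModule C) 0) = 1 from H29CurveDual.finrank_h0_structure_smooth,
      H29RR.deg_tensor (k := k) hdim.le hM hN, hNdeg, hg, ← degCls_pc M hM, hMz,
      show degCls k (D.Φ z) = 0 from D.deg_eq z] at hRR
    rw [hval z 0 M hM hMz, hval z 1 M hM hMz, e0]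
    exact ⟨rfl, by omega⟩
  have hdiff : ∀ m, rankDiff π F m = 0 := fun m => by
    rw [hlc.apply_eq_of_preconnectedSpace m ((1 : One k ⟶ J).left (pt₀ k)), rankDiff, (hRR 1).1, (hRR 1).2, sub_self]
  have hW : IsClosed ((Jac.transl J t).left.base '' W j (g - 1)) := D.isClosed_transl t (D.isClosed_W _)
  have hZ : {m : J.left | CohIII.fiberRank π F 1 m ≠ 0} = (Jac.transl J t).left.base '' W j (g - 1) := by
    refine eq_of_ptSet hclosed hW (Set.ext fun z => ?_)
    rw [hTh, ← (hRR z).2]
    exact Nat.one_le_iff_ne_zero.symm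
  refine Set.Subset.antisymm (closure_minimal ?_ hW) ?_
  · rintro m ⟨Ω, _, _, s, hP, x, hx, hQ, p, hp⟩
    rw [← hZ]
    haveI : Subsingleton (Spec (CommRingCat.of Ω)) := inferInstanceAs (Subsingleton (PrimeSpectrum Ω))
    obtain rfl : p = IsLocalRing.closedPoint Ω := Subsingleton.elim (α := PrimeSpectrum Ω) _ _
    subst hp
    show CohIII.fiberRank π F 1 _ ≠ 0
    intro h1
    apply hQ
    have h0 := hdiff ((ψ.app (Over.mk s) x hP hx).left (IsLocalRing.closedPoint Ω))
    rw [rankDiff, show CohIII.fiberRank π F 1 ((ψ.app (Over.mk s) x hP hx).left (IsLocalRing.closedPoint Ω)) = 0 from h1] at h0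
    have hfr := hpt Ω s x hx 0
    haveI : IsProper (PicF.XT f (Over.mk s) ↘ Spec (CommRingCat.of Ω)) := isProper_XTproj f (Over.mk s)
    haveI := H29RR.isNoetherian_of_proper (k := Ω) (X := PicF.XT f (Over.mk s))
    haveI : Module.Finite Ω (Coh.HH (PicF.XT f (Over.mk s)) (CohB1.tensorMod x (pb (pullback.fst f s) N)) 0) :=
      H10Coh.finite_HH_proper Ω _ _ (H11Ample.isCoh_of_isInvertible (H11Ample.isInvertible_tensor
        ((H25Jac.ok_iff _ _).1 hx).1 (H11Ample.isInvertible_pullback _ hN))) 0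
    refine (Module.finrank_zero_iff (R := Ω)).1 ?_
    rw [hfr]
    simp only [Nat.cast_zero, sub_zero, Int.natCast_eq_zero] at h0
    exact h0
  · haveI : JacobsonSpace J.left := LocallyOfFiniteType.jacobsonSpace J.hom
    rw [← closure_inter_closedPoints hW]
    refine closure_mono ?_
    rintro m ⟨hm, hmc⟩
    obtain ⟨z, rfl⟩ := exists_pt (A := J) hmc
    obtain ⟨M, hM, hMz⟩ := exists_rep (D.Φ z)
    have hMd : Curv2.deg k C M 1 = 0 := by rw [← degCls_pc M hM, hMz]; exact D.deg_eq z
    let L := pb (H25Jac.fst₁ f) M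
    have hLok : (ModFun.PicDeg f 0).ok (One k) L :=
      (H25Jac.ok_iff _ _).2 ⟨H11Ample.isInvertible_pullback _ hM, fun t => (degAt_fst₁ M hM t).trans hMd⟩
    have hz : ψ.app (One k) L trivial hLok = z := D.injective ((D.app M hM L ⟨Iso.refl _⟩ _ _).trans hMz)
    refine ⟨k, inferInstance, inferInstance, 𝟙 _, trivial, L, hLok, fun hs => ?_, pt₀ k, ?_⟩
    · have h := hpt k (𝟙 _) L hLok 0
      haveI : Subsingleton (Coh.HH (PicF.XT f (Over.mk (𝟙 (Spec (CommRingCat.of k)))))
        (CohB1.tensorMod L (pb (pullback.fst f (𝟙 _)) N)) 0) := hs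
      rw [Module.finrank_zero_of_subsingleton, show ψ.app (Over.mk (𝟙 (Spec (CommRingCat.of k)))) L trivial hLok = z from hz,
        (hRR z).1] at h
      exact absurd ((hTh z).1 hm) (by rw [← h]; omega)
    · exact congrArg (fun a : One k ⟶ J => a.left (pt₀ k)) hz

end Groth.Agent.H25Torelli
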