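import Groth.Agent.H25Torelli.EmbPts
import Groth.Agent.H25Torelli.Theta
import Groth.Agent.H25AbCube.DegreePoly

/-!
# Torelli's theorem over an algebraically closed field
-/

set_option autoImplicit false
set_option linter.style.haveILetI false
set_option linter.unusedSectionVars false
set_option maxHeartbeats 1600000
set_option backward.isDefEq.respectTransparency.types false

noncomputable section

universe u

open CategoryTheory CategoryTheory.Limits AlgebraicGeometry TopologicalSpace Opposite MonoidalCategory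
  CartesianMonoidalCategory MonObj
open Groth.Agent.H25AbCube (PC pc)

namespace Groth.Agent.H25Torelli

variable {k : Type u} [Field k] [IsAlgClosed k]

/-- The Abel map of a curve of positive genus is a closed immersion. -/
theorem isClosedImmersion_j {C : Scheme.{u}} [C.Over (Spec (CommRingCat.of k))]
    [IsProper (C ↘ Spec (CommRingCat.of k))] [Smooth (C ↘ Spec (CommRingCat.of k))]
    [GeometricallyConnected (C ↘ Spec (CommRingCat.of k))] (hdim : topologicalKrullDim C = 1) (σ : Pts k C)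
    {J : Over (Spec (CommRingCat.of k))} [GrpObj J] [IsSeparated J.hom]
    {ψ : (ModFun.PicDeg (C ↘ Spec (CommRingCat.of k)) 0).Hom ⊤ J} {j : Over.mk (C ↘ Spec (CommRingCat.of k)) ⟶ J}
    (hJ : Jac.IsJacobian (C ↘ Spec (CommRingCat.of k)) ⊤ J ψ)
    (hj : Jac.IsAbelJacobiAt (C ↘ Spec (CommRingCat.of k)) σ.1 ψ j) (hg : 1 ≤ Curv2.genus k C) :
    IsClosedImmersion j.left := by
  obtain ⟨hX, hrel⟩ := H25Jac.isSmoothProperCurve_of_connected (C ↘ Spec (CommRingCat.of k)) hdim
  haveI := hrel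
  obtain ⟨J₀, _, D, aj, χ, -, hp, -, -, haj, -, -, hjχ⟩ := H25Jac.exists_fine (hσ := σ.2) hX hJ hj
  haveI := hp
  haveI := H25Jac.isClosedImmersion_abel (D := D) hg haj
  haveI : IsIso χ.inv.left := inferInstanceAs (IsIso ((Over.forget _).map χ.inv))
  rw [show j = aj ≫ χ.inv by rw [← hjχ, Category.assoc, χ.hom_inv_id, Category.comp_id], Over.comp_left]
  infer_instance

/-- A curve embedded onto a part of another is isomorphic to it. -/
theorem exists_iso_of_ptSet {X Y : Scheme.{u}} {f : X ⟶ Spec (CommRingCat.of k)} {f' : Y ⟶ Spec (CommRingCat.of k)}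
    [IsProper f] [IrreducibleSpace Y] [IsReduced X] [IsReduced Y] [IsProper f']
    (hX : topologicalKrullDim X = 1) (hY : topologicalKrullDim Y = 1)
    {A : Over (Spec (CommRingCat.of k))} [LocallyOfFiniteType A.hom] (a : Over.mk f' ⟶ A) (b : Over.mk f ⟶ A)
    [IsClosedImmersion a.left] [IsClosedImmersion b.left]
    (h : ∀ z : One k ⟶ Over.mk f, z ≫ b ∈ ptSet (Set.range a.left)) :
    ∃ (α : X ≅ Y) (hα : α.hom ≫ f' = f), Over.homMk α.hom hα ≫ a = b := by
  haveI : LocallyOfFiniteType (Over.mk f).hom := inferInstanceAs (LocallyOfFiniteType f)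
  haveI : IsReduced (Over.mk f).left := ‹IsReduced X›
  haveI : LocallyOfFiniteType (Over.mk f').hom := inferInstanceAs (LocallyOfFiniteType f')
  have hsub : Set.range b.left ⊆ Set.range a.left := by
    rintro _ ⟨x, rfl⟩
    have hcl : IsClosed (b.left ⁻¹' Set.range a.left) :=
      a.left.isClosedEmbedding.isClosed_range.preimage b.left.continuous
    haveI : JacobsonSpace X := LocallyOfFiniteType.jacobsonSpace f
    have : (Set.univ : Set X) ⊆ b.left ⁻¹' Set.range a.left := by
      rw [← closure_closedPoints (X := X), hcl.closure_subset_iff]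
      intro y hy
      obtain ⟨z, hz⟩ := exists_pt (A := Over.mk f) hy
      have h' := h z
      rw [mem_ptSet, Over.comp_left, Scheme.Hom.comp_apply, hz] at h'
      exact h'
    exact this trivial
  haveI : IsClosedImmersion (pullback.snd a.left b.left) := MorphismProperty.pullback_snd _ _ inferInstance
  haveI : Surjective (pullback.snd a.left b.left) := ⟨fun x => by
    have : x ∈ Set.range (pullback.snd a.left b.left) := by
      rw [Scheme.Pullback.range_snd]
      exact hsub ⟨x, rfl⟩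
    exact this⟩
  haveI := isIso_of_isClosedImmersion_of_surjective (pullback.snd a.left b.left)
  let l : X ⟶ Y := inv (pullback.snd a.left b.left) ≫ pullback.fst a.left b.left
  have hl : l ≫ a.left = b.left := by
    rw [Category.assoc, pullback.condition, IsIso.inv_hom_id_assoc]
  have hlf : l ≫ f' = f := by
    rw [← show a.left ≫ A.hom = f' from Over.w a, ← Category.assoc, hl]
    exact Over.w b
  haveI : IsClosedImmersion (l ≫ a.left) := by rw [hl]; infer_instance
  haveI := IsClosedImmersion.of_comp l a.left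
  haveI : Surjective l := by
    refine ⟨fun y => ?_⟩
    by_contra hy
    have hne : Set.range l ≠ Set.univ := fun h => hy (h.symm ▸ Set.mem_univ y : y ∈ Set.range l)
    have h1 := H25AbCube.dim_lt_of_ne_univ l.isClosedEmbedding.isClosed_range hne (g := 1) (by rw [hY]; rfl)
    have h2 : topologicalKrullDim X = topologicalKrullDim (Set.range l) :=
      IsHomeomorph.topologicalKrullDim_eq _ (l.isClosedEmbedding.toIsEmbedding.toHomeomorph).isHomeomorph
    rw [← h2, hX] at h1
    exact absurd h1 (by simp)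
  haveI := isIso_of_isClosedImmersion_of_surjective l
  exact ⟨asIso l, hlf, Over.OverMorphism.ext hl⟩

variable {C : Scheme.{u}} [C.Over (Spec (CommRingCat.of k))]
  [IsProper (C ↘ Spec (CommRingCat.of k))] [Smooth (C ↘ Spec (CommRingCat.of k))]
  [GeometricallyConnected (C ↘ Spec (CommRingCat.of k))] {hdim : topologicalKrullDim C = 1} {σ : Pts k C}
  {J : Over (Spec (CommRingCat.of k))} [GrpObj J]
  {ψ : (ModFun.PicDeg (C ↘ Spec (CommRingCat.of k)) 0).Hom ⊤ J} {j : Over.mk (C ↘ Spec (CommRingCat.of k)) ⟶ J}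

theorem W_one : W j 1 ⊆ Set.range j.left := by
  rintro _ ⟨x, rfl⟩
  refine ⟨(WidePullback.π (fun (_ : Fin 1) => (C ↘ Spec (CommRingCat.of k))) 0) x, ?_⟩
  simp only [sumMap, List.ofFn_succ, List.ofFn_zero, List.prod_cons, List.prod_nil, _root_.mul_one, Over.comp_left,
    Over.homMk_left, Scheme.Hom.comp_apply]

variable {C' : Scheme.{u}} [C'.Over (Spec (CommRingCat.of k))]
  [IsProper (C' ↘ Spec (CommRingCat.of k))] [Smooth (C' ↘ Spec (CommRingCat.of k))]
  [GeometricallyConnected (C' ↘ Spec (CommRingCat.of k))] {hdim' : topologicalKrullDim C' = 1} {σ' : Pts k C'}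
  {J' : Over (Spec (CommRingCat.of k))} [GrpObj J']
  {ψ' : (ModFun.PicDeg (C' ↘ Spec (CommRingCat.of k)) 0).Hom ⊤ J'}
  {j' : Over.mk (C' ↘ Spec (CommRingCat.of k)) ⟶ J'}

theorem exists_torelli (hJ : Jac.IsJacobian (C ↘ Spec (CommRingCat.of k)) ⊤ J ψ)
    (hj : Jac.IsAbelJacobiAt (C ↘ Spec (CommRingCat.of k)) σ.1 ψ j)
    (hJ' : Jac.IsJacobian (C' ↘ Spec (CommRingCat.of k)) ⊤ J' ψ')
    (hj' : Jac.IsAbelJacobiAt (C' ↘ Spec (CommRingCat.of k)) σ'.1 ψ' j')
    (hdim : topologicalKrullDim C = 1) (hdim' : topologicalKrullDim C' = 1)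
    (g : ℕ) (hg : Curv2.genus k C = g) (hg' : Curv2.genus k C' = g) (hg2 : 2 ≤ g)
    (N : C.Modules) (hN : PicF.IsInvertible N) (hNdeg : Curv2.deg k C N 1 = (g : ℤ) - 1)
    (N' : C'.Modules) (hN' : PicF.IsInvertible N') (hNdeg' : Curv2.deg k C' N' 1 = (g : ℤ) - 1)
    (β : J ≅ J') [IsMonHom β.hom] (c₀ : One k ⟶ J')
    (hβ : β.hom.left.base '' Jac.thetaLocus (C ↘ Spec (CommRingCat.of k)) 0 ψ N =
      (Jac.transl J' c₀).left.base ⁻¹' Jac.thetaLocus (C' ↘ Spec (CommRingCat.of k)) 0 ψ' N') :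
    ∃ (α : C ≅ C') (hα : α.hom ≫ (C' ↘ Spec (CommRingCat.of k)) = (C ↘ Spec (CommRingCat.of k))) (c : One k ⟶ J')
      (s : ℤ), (s = 1 ∨ s = -1) ∧ Over.homMk α.hom hα ≫ j' =
        (j ≫ β.hom) ^ s * (toUnit (Over.mk (C ↘ Spec (CommRingCat.of k))) ≫ c) := by
  obtain ⟨D⟩ := exists_dict hdim σ ψ hJ j hj
  obtain ⟨D'⟩ := exists_dict hdim' σ' ψ' hJ' j' hj'
  haveI := D.proper; haveI := D'.proper; haveI := D.comm; haveI := D'.comm
  obtain ⟨t, -, hT⟩ := exists_thetaLocus_eq D hJ g hg (by omega) N hN hNdeg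
  obtain ⟨t', -, hT'⟩ := exists_thetaLocus_eq D' hJ' g hg' (by omega) N' hN' hNdeg'
  rw [hT, hT'] at hβ
  haveI : IsMonHom (Iso.refl J).hom := inferInstanceAs (IsMonHom (𝟙 J))
  let E := D.emb (Iso.refl J)
  let E' := D'.emb β
  -- the two theta divisors
  set c : One k ⟶ J := (t * ((c₀ * t'⁻¹) ≫ β.inv))⁻¹ with hc_def
  haveI : IsMonHom β.inv := inferInstance
  have hc : ∀ z, z ∈ E.W (g - 1) ↔ z - Additive.ofMul c ∈ E'.W (g - 1) := fun z => by
    show z ∈ (D.emb (Iso.refl J)).W (g - 1) ↔ _ ∈ (D'.emb β).W (g - 1)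
    rw [Dict.mem_emb_W, Dict.mem_emb_W, Iso.refl_hom, Category.comp_id, toMul_sub, toMul_ofMul, hc_def,
      div_inv_eq_mul]
    obtain ⟨y, rfl⟩ : ∃ y, Additive.ofMul y = z := ⟨_, rfl⟩
    rw [toMul_ofMul]
    have h1 : y ∈ ptSet (W j (g - 1)) ↔ y * t ∈ ptSet ((Jac.transl J t).left.base '' W j (g - 1)) := by
      rw [D.mem_transl t _ (D.isClosed_W _), mul_inv_cancel_right]
    have h2 : y * t ∈ ptSet ((Jac.transl J t).left.base '' W j (g - 1)) ↔
        (y * t) ≫ β.hom ∈ ptSet (β.hom.left.base '' ((Jac.transl J t).left.base '' W j (g - 1))) := by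
      rw [mem_ptSet_image β.hom (D.isClosed_transl _ (D.isClosed_W _))]
      exact ⟨fun h => ⟨_, h, rfl⟩, fun ⟨w, hw, hwe⟩ => (cancel_mono β.hom).1 hwe ▸ hw⟩
    rw [h1, h2, hβ, mem_ptSet, Set.mem_preimage, ← Scheme.Hom.comp_apply, ← Over.comp_left, Dict.comp_transl,
      ← mem_ptSet, D'.mem_transl t' _ (D'.isClosed_W _), MonObj.mul_comp, MonObj.mul_comp, MonObj.mul_comp,
      Category.assoc, β.inv_hom_id, Category.comp_id]
    simp only [_root_.mul_assoc]
  have hsep : IsSeparated J.hom := inferInstance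
  haveI := isClosedImmersion_j hdim σ hJ hj (by omega)
  haveI := isClosedImmersion_j hdim' σ' hJ' hj' (by omega)
  haveI : IrreducibleSpace C := by
    haveI := H29DoubleCover.isIntegral_of_smooth_connected (C ↘ Spec (CommRingCat.of k)); infer_instance
  haveI : IrreducibleSpace C' := by
    haveI := H29DoubleCover.isIntegral_of_smooth_connected (C' ↘ Spec (CommRingCat.of k)); infer_instance
  haveI : IsReduced C := by
    haveI := H29DoubleCover.isIntegral_of_smooth_connected (C ↘ Spec (CommRingCat.of k)); infer_instance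
  haveI : IsReduced C' := by
    haveI := H29DoubleCover.isIntegral_of_smooth_connected (C' ↘ Spec (CommRingCat.of k)); infer_instance
  have hmov : ∀ (A : Over (Spec (CommRingCat.of k))) [GrpObj A] [IsCommMonObj A] (s : ℤ) (a : One k ⟶ A),
      (s = 1 ∨ s = -1) → ∃ Θ : A ⟶ A, IsIso Θ ∧ ∀ {T : Over (Spec (CommRingCat.of k))} (x : T ⟶ A),
        x ≫ Θ = x ^ s * (toUnit T ≫ a) := fun A _ _ s a hs => by
    haveI : IsIso (Jac.transl A a) := by
      have key : ∀ y z : One k ⟶ A, y * z = 1 → Jac.transl A y ≫ Jac.transl A z = 𝟙 A := fun y z h => by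
        simp only [Jac.transl]
        rw [MonObj.comp_mul, Category.comp_id, ← Category.assoc,
          toUnit_unique ((𝟙 A * (toUnit A ≫ y)) ≫ toUnit A) (toUnit A), _root_.mul_assoc, ← MonObj.comp_mul,
          h, MonObj.comp_one, _root_.mul_one]
      exact ⟨_, key a a⁻¹ (mul_inv_cancel a), key a⁻¹ a (inv_mul_cancel a)⟩
    haveI hinv : IsIso ((𝟙 A : A ⟶ A)⁻¹) :=
      ⟨(𝟙 A)⁻¹, by rw [GrpObj.comp_inv, Category.comp_id, _root_.inv_inv],
        by rw [GrpObj.comp_inv, Category.comp_id, _root_.inv_inv]⟩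
    have hx : ∀ {T : Over (Spec (CommRingCat.of k))} (x : T ⟶ A), x ≫ Jac.transl A a = x * (toUnit T ≫ a) :=
      fun {T} x => by rw [Jac.transl, MonObj.comp_mul, Category.comp_id, ← Category.assoc, toUnit_unique (x ≫ toUnit A) (toUnit T)]
    rcases hs with rfl | rfl
    · exact ⟨Jac.transl A a, inferInstance, fun {T} x => by rw [hx, zpow_one]⟩
    · exact ⟨(𝟙 A)⁻¹ ≫ Jac.transl A a, inferInstance, fun {T} x => by
        rw [← Category.assoc, GrpObj.comp_inv, Category.comp_id, hx, zpow_neg_one]⟩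
  rcases exists_cov_one E E' (D.topo_emb _) (D'.topo_emb β) (D.topo_emb_neg _) (D'.topo_emb_neg β)
      (g := g) hg hg' hg2 (c := Additive.ofMul c) hc (exists_card_pts hdim) (exists_card_pts hdim')
    with ⟨a, h⟩ | ⟨a, h⟩
  · obtain ⟨s, hs, h⟩ : ∃ s : ℤ, (s = 1 ∨ s = -1) ∧
        ∀ p : Pts k C', (p.hom ≫ j' ≫ β.inv) ^ s * (Additive.toMul a)⁻¹ ∈ ptSet (W j 1) := by
      rcases h with h | h
      · refine ⟨1, Or.inl rfl, fun p => ?_⟩
        have h' := h p
        rw [D'.emb_jp, D.mem_emb_W] at h'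
        simpa [div_eq_mul_inv] using h'
      · refine ⟨-1, Or.inr rfl, fun p => ?_⟩
        have h' := h p
        rw [D'.emb_jp, D.mem_emb_W] at h'
        simpa [div_eq_mul_inv] using h'
    obtain ⟨Θ, hΘ, hΘx⟩ := hmov J s (Additive.toMul a)⁻¹ hs
    haveI : IsIso ((β.inv ≫ Θ).left) := inferInstanceAs (IsIso ((Over.forget _).map (β.inv ≫ Θ)))
    haveI : IsClosedImmersion (j' ≫ β.inv ≫ Θ).left := by rw [Over.comp_left]; infer_instance
    have hin : ∀ z : One k ⟶ _, z ≫ (j' ≫ β.inv ≫ Θ) ∈ ptSet (Set.range j.left) := fun z => by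
      refine W_one ?_
      rw [← Category.assoc, ← Category.assoc, hΘx, toUnit_unique (toUnit (One k)) (𝟙 _), Category.id_comp,
        Category.assoc]
      exact h (Pts.of z)
    obtain ⟨α, hα, hαe⟩ := exists_iso_of_ptSet hdim' hdim j (j' ≫ β.inv ≫ Θ) hin
    · have hα' : α.inv ≫ (C' ↘ Spec (CommRingCat.of k)) = (C ↘ Spec (CommRingCat.of k)) := by
        rw [Iso.inv_comp_eq, hα]
      refine ⟨α.symm, hα', ((Additive.toMul a) ≫ β.hom) ^ s, s, hs, ?_⟩
      have h1 : (Over.homMk α.inv hα' : Over.mk (C ↘ Spec (CommRingCat.of k)) ⟶ Over.mk (C' ↘ Spec (CommRingCat.of k))) ≫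
          (Over.homMk α.hom hα : Over.mk (C' ↘ Spec (CommRingCat.of k)) ⟶ Over.mk (C ↘ Spec (CommRingCat.of k))) = 𝟙 _ :=
        Over.OverMorphism.ext α.inv_hom_id
      have h2 := congrArg (fun x => (Over.homMk α.inv hα' : Over.mk (C ↘ Spec (CommRingCat.of k)) ⟶
          Over.mk (C' ↘ Spec (CommRingCat.of k))) ≫ x) hαe
      simp only [← Category.assoc, h1, Category.id_comp] at h2
      rw [hΘx] at h2
      set y := (Over.homMk α.inv hα' : Over.mk (C ↘ Spec (CommRingCat.of k)) ⟶ Over.mk (C' ↘ Spec (CommRingCat.of k))) ≫ j'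
      show y = _
      have h3 : j * (toUnit _ ≫ Additive.toMul a) = (y ≫ β.inv) ^ s := by
        rw [h2, GrpObj.comp_inv, inv_mul_cancel_right]
      have h4 : y ≫ β.inv = (j * (toUnit _ ≫ Additive.toMul a)) ^ s := by
        rw [h3]
        rcases hs with rfl | rfl <;> simp
      rw [show y = (y ≫ β.inv) ≫ β.hom by rw [Category.assoc, β.inv_hom_id, Category.comp_id], h4]
      rcases hs with rfl | rfl
      · simp only [zpow_one, MonObj.mul_comp, Category.assoc]
      · simp only [zpow_neg_one, MonObj.mul_comp, GrpObj.inv_comp, mul_inv_rev, GrpObj.comp_inv, Category.assoc]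
        exact mul_comm _ _
  · obtain ⟨s, hs, h⟩ : ∃ s : ℤ, (s = 1 ∨ s = -1) ∧
        ∀ p : Pts k C, ((p.hom ≫ j) ^ s * (Additive.toMul a)⁻¹) ≫ β.hom ∈ ptSet (W j' 1) := by
      rcases h with h | h
      · refine ⟨1, Or.inl rfl, fun p => ?_⟩
        have h' := h p
        rw [D.emb_jp, D'.mem_emb_W] at h'
        simpa [div_eq_mul_inv] using h'
      · refine ⟨-1, Or.inr rfl, fun p => ?_⟩
        have h' := h p
        rw [D.emb_jp, D'.mem_emb_W] at h'
        simpa [div_eq_mul_inv] using h'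
    obtain ⟨Θ, hΘ, hΘx⟩ := hmov J s (Additive.toMul a)⁻¹ hs
    haveI : IsIso ((Θ ≫ β.hom).left) := inferInstanceAs (IsIso ((Over.forget _).map (Θ ≫ β.hom)))
    haveI : IsClosedImmersion (j ≫ Θ ≫ β.hom).left := by rw [Over.comp_left]; infer_instance
    have hin : ∀ z : One k ⟶ _, z ≫ (j ≫ Θ ≫ β.hom) ∈ ptSet (Set.range j'.left) := fun z => by
      refine W_one ?_
      rw [← Category.assoc, ← Category.assoc, hΘx, toUnit_unique (toUnit (One k)) (𝟙 _), Category.id_comp]
      exact h (Pts.of z)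
    obtain ⟨α, hα, hαe⟩ := exists_iso_of_ptSet hdim hdim' j' (j ≫ Θ ≫ β.hom) hin
    · refine ⟨α, hα, (Additive.toMul a)⁻¹ ≫ β.hom, s, hs, hαe.trans ?_⟩
      rw [← Category.assoc, hΘx, MonObj.mul_comp, Category.assoc]
      rcases hs with rfl | rfl
      · simp only [zpow_one]
      · simp only [zpow_neg_one, GrpObj.inv_comp]

end Groth.Agent.H25Torelli
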