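import Groth.Agent.H25Torelli.Polarization
import Groth.Agent.H25Torelli.RatPoints
import Groth.Agent.H25Torelli.Torelli
import Groth.Agent.H25Torelli.Theta
import Groth.Agent.H27HW.Degree

/-!
# Torelli's theorem over a perfect field, for curves with rational points
-/

set_option autoImplicit false
set_option linter.style.haveILetI false
set_option linter.unusedSectionVars false
set_option maxHeartbeats 1600000
set_option backward.isDefEq.respectTransparency.types false

noncomputable section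

universe u

open CategoryTheory CategoryTheory.Limits AlgebraicGeometry TopologicalSpace Opposite MonoidalCategory
  CartesianMonoidalCategory MonObj
open Groth.Agent.H25AbCube (PC pc pullP exists_rep pullP_pc pullP_pullP pullP_id pc_eq_iff pc_tensor pc_one)

namespace Groth.Agent.H25Torelli

open Groth.Agent.H25Theta (pb)
open Groth.Agent.H25Jac (prj)

variable {k : Type u} [Field k] {K : Type u} [Field K] (g : Spec (CommRingCat.of K) ⟶ Spec (CommRingCat.of k))

theorem pj_map {A B : Over (Spec (CommRingCat.of k))} (m : A ⟶ B) (x : Over.mk g ⟶ A) :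
    pj g (x ≫ m) = pj g x ≫ (Over.pullback g).map m :=
  H25Jac.prj_injective g (by rw [H25Jac.prj_map, prj_pj, prj_pj, Category.assoc])

theorem isMonHom_map {A B : Over (Spec (CommRingCat.of k))} [GrpObj A] [GrpObj B] (m : A ⟶ B) [IsMonHom m] :
    IsMonHom (M := Red.bc g A) (N := Red.bc g B) ((Over.pullback g).map m) :=
  inferInstance

theorem map_transl {A : Over (Spec (CommRingCat.of k))} [GrpObj A] (c : One k ⟶ A) :
    (Over.pullback g).map (Jac.transl A c) = Jac.transl (Red.bc g A) (pj g (toUnit _ ≫ c)) := by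
  refine H25Jac.prj_injective g ?_
  have h : prj g ((Over.pullback g).map (Jac.transl A c)) = prj g (𝟙 (Red.bc g A)) ≫ Jac.transl A c := by
    rw [← H25Jac.prj_map, Category.id_comp]
  rw [h, Jac.transl, Jac.transl, H25Jac.prj_mul, MonObj.comp_mul, Category.comp_id, H25Jac.prj_comp, prj_pj]
  congr 1
  rw [← Category.assoc, ← Category.assoc, ← Category.assoc]
  exact congrArg (· ≫ c) (toUnit_unique _ _)

variable [IsAlgClosed K]

/-- Closed points carry points with values in an algebraically closed extension. -/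
theorem exists_pt_ext {A : Over (Spec (CommRingCat.of k))} [LocallyOfFiniteType A.hom] {y : A.left}
    (hy : IsClosed ({y} : Set A.left)) : ∃ z : Over.mk g ⟶ A, z.left (IsLocalRing.closedPoint K) = y := by
  let P := pullback A.hom g
  let q : P ⟶ Spec (CommRingCat.of K) := pullback.snd A.hom g
  haveI : LocallyOfFiniteType q := MorphismProperty.pullback_snd (P := @LocallyOfFiniteType) _ _ inferInstance
  haveI : JacobsonSpace ↥P := LocallyOfFiniteType.jacobsonSpace q
  obtain ⟨p, hp, -⟩ := Scheme.Pullback.exists_preimage_pullback (f := A.hom) (g := g) y (IsLocalRing.closedPoint K)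
    (Subsingleton.elim (α := PrimeSpectrum k) _ _)
  obtain ⟨w, hw, hwc⟩ := nonempty_inter_closedPoints (Z := (pullback.fst A.hom g) ⁻¹' {y}) ⟨p, hp⟩
    (hy.preimage (pullback.fst A.hom g).continuous).isLocallyClosed
  let s := pointOfClosedPoint q w hwc
  refine ⟨Over.homMk (s ≫ pullback.fst A.hom g) ?_, ?_⟩
  · show (s ≫ pullback.fst A.hom g) ≫ A.hom = g
    rw [Category.assoc, pullback.condition, ← Category.assoc]
    erw [pointOfClosedPoint_comp q w hwc]
    exact Category.id_comp g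
  · show (s ≫ pullback.fst A.hom g) _ = y
    rw [Scheme.Hom.comp_apply, pointOfClosedPoint_apply]
    exact hw

/-- Geometric points of a preimage in the base change. -/
theorem pj_mem_preimage {A : Over (Spec (CommRingCat.of k))} {S : Set A.left} (x : Over.mk g ⟶ A) :
    pj g x ∈ ptSet ((pullback.fst A.hom g) ⁻¹' S) ↔ x.left (IsLocalRing.closedPoint K) ∈ S := by
  show pullback.fst A.hom g _ ∈ S ↔ _
  rw [pj_pt]

variable {C : Scheme.{u}} [C.Over (Spec (CommRingCat.of k))] [IsProper (C ↘ Spec (CommRingCat.of k))]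
  [Smooth (C ↘ Spec (CommRingCat.of k))] [GeometricallyConnected (C ↘ Spec (CommRingCat.of k))]
  {J : Over (Spec (CommRingCat.of k))} [GrpObj J]
  {ψ : (ModFun.PicDeg (C ↘ Spec (CommRingCat.of k)) 0).Hom ⊤ J}

/-- An Abel map exists. -/
theorem exists_abel_map (hdim : topologicalKrullDim C = 1) (σ : Pts k C)
    (hJ : Jac.IsJacobian (C ↘ Spec (CommRingCat.of k)) ⊤ J ψ) :
    ∃ j : Over.mk (C ↘ Spec (CommRingCat.of k)) ⟶ J, Jac.IsAbelJacobiAt (C ↘ Spec (CommRingCat.of k)) σ.1 ψ j := by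
  obtain ⟨hX, hrel⟩ := H25Jac.isSmoothProperCurve_of_connected (C ↘ Spec (CommRingCat.of k)) hdim
  haveI := hrel
  obtain ⟨L, hL, hok⟩ := H25Jac.exists_ajFamilyAt (C ↘ Spec (CommRingCat.of k)) σ.2
  exact ⟨ψ.app _ L trivial hok, trivial, L, hok, hL, rfl⟩

set_option maxHeartbeats 3200000 in
/-- The theta locus of the curve over the algebraically closed extension. -/
theorem exists_thetaLocus_bc (hdim : topologicalKrullDim C = 1) (σ : Pts k C) (n : ℕ)
    (hn : Curv2.genus k C = n) (hn1 : 1 ≤ n)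
    (hJ : Jac.IsJacobian (C ↘ Spec (CommRingCat.of k)) ⊤ J ψ)
    {j : Over.mk (C ↘ Spec (CommRingCat.of k)) ⟶ J} (hj : Jac.IsAbelJacobiAt (C ↘ Spec (CommRingCat.of k)) σ.1 ψ j)
    {ψK : (ModFun.PicDeg (CK g C ↘ Spec (CommRingCat.of K)) 0).Hom ⊤ (Red.bc g J)}
    (hJK : Jac.IsJacobian (CK g C ↘ Spec (CommRingCat.of K)) ⊤ (Red.bc g J) ψK)
    {aK : Over.mk (CK g C ↘ Spec (CommRingCat.of K)) ⟶ Red.bc g J} (haK : aK = jK g j)
    (D : Dict (ck_facts g hdim).2 (σK g σ) ψK aK) (hD : Compat g ψ D)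
    (N : C.Modules) (hN : PicF.IsInvertible N) (hNdeg : Curv2.deg k C N 1 = (n : ℤ) - 1) :
    ∃ NK : (CK g C).Modules, PicF.IsInvertible NK ∧ Curv2.deg K (CK g C) NK 1 = (n : ℤ) - 1 ∧
      Jac.thetaLocus (CK g C ↘ Spec (CommRingCat.of K)) 0 ψK NK =
        (pullback.fst J.hom g) ⁻¹' Jac.thetaLocus (C ↘ Spec (CommRingCat.of k)) 0 ψ N := by
  subst haK
  let f := C ↘ Spec (CommRingCat.of k)
  obtain ⟨hX, hrel⟩ := H25Jac.isSmoothProperCurve_of_connected f hdim
  haveI := hrel
  obtain ⟨hJp, -, -⟩ := jac_facts hdim σ hJ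
  haveI := hJp
  haveI : IsProper (Red.bc g J).hom := MorphismProperty.pullback_snd (P := @IsProper) _ g inferInstance
  obtain ⟨Pu, hok, hψ, -⟩ := exists_univ hX σ.2 hJ
  obtain ⟨t, hset, hcl, ht⟩ := exists_thetaLocus_range hdim σ n hn1 hJ hj Pu hok trivial hψ N hN hNdeg
  let NK : (CK g C).Modules := pb (pullback.fst f g) N
  have hNK : PicF.IsInvertible NK := H11Ample.isInvertible_pullback _ hN
  have hdeg : Curv2.deg K (CK g C) NK 1 = (n : ℤ) - 1 := by
    letI := (Spec.preimage g).hom.toAlgebra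
    have hg : g = Spec.map (CommRingCat.ofHom (algebraMap k K)) := (Spec.map_preimage g).symm
    refine (H27HW.deg_bc (k := k) (X := C) K (X' := CK g C) (q := pullback.fst f g) ?_ hN).trans hNdeg
    rw [← hg]
    exact IsPullback.of_hasPullback f g
  obtain ⟨t₀, ht₀, hK⟩ := exists_thetaLocus_eq D hJK n ((genus_ck g).trans hn) hn1 NK hNK hdeg
  refine ⟨NK, hNK, hdeg, ?_⟩
  rw [hK, hset]
  have e : t₀ = pj g (toUnit _ ≫ t) := D.injective (by
    rw [ht₀, ht g D hD, show pc NK hNK = (show PC (CK g C) from pullP (pullback.fst f g) (pc N hN)) from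
      pullP_pc _ N hN hNK])
  subst e
  refine eq_of_ptSet (A := Red.bc g J) (D.isClosed_transl _ (D.isClosed_W _))
    (hcl.preimage (pullback.fst J.hom g).continuous) (Set.ext fun z => ?_)
  obtain ⟨x, rfl⟩ := exists_pj g z
  rw [pj_mem_preimage]
  exact (mem_range_translW g j (n - 1) t (toUnit _ ≫ t) rfl x).symm

/-- A translation preserving the image of the curve is trivial. -/
theorem Dict.eq_one_of_stable {K : Type u} [Field K] [IsAlgClosed K] {C : Scheme.{u}}
    [C.Over (Spec (CommRingCat.of K))] [IsProper (C ↘ Spec (CommRingCat.of K))]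
    [Smooth (C ↘ Spec (CommRingCat.of K))] [GeometricallyConnected (C ↘ Spec (CommRingCat.of K))]
    {hdim : topologicalKrullDim C = 1} {σ : Pts K C} {J : Over (Spec (CommRingCat.of K))} [GrpObj J]
    {ψ : (ModFun.PicDeg (C ↘ Spec (CommRingCat.of K)) 0).Hom ⊤ J} {j : Over.mk (C ↘ Spec (CommRingCat.of K)) ⟶ J}
    (D : Dict hdim σ ψ j) (hg : 2 ≤ Curv2.genus K C) (d : One K ⟶ J)
    (h : ∀ w : Pts K C, ∃ v : Pts K C, (w.hom ≫ j) * d = v.hom ≫ j) : d = 1 := by
  let Sy := Dict.S' K hdim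
  obtain ⟨n, hn⟩ : ∃ n : ℕ, Sy.g = n + 2 := ⟨Sy.g - 2, by have : 2 ≤ Sy.g := hg; omega⟩
  have hdeg : Sy.deg (D.Φ d) + (n + 1 : ℕ) = (Sy.g : ℤ) - 1 := by
    rw [show Sy.deg (D.Φ d) = 0 from D.deg_eq d, hn]
    push_cast
    ring
  have h1 := (Sy.forall_add_iff hdeg).1 fun s hs => by
    obtain ⟨w, hw⟩ := Multiset.card_pos_iff_exists_mem.1 (show 0 < s.card by omega)
    obtain ⟨t, rfl⟩ := Multiset.exists_cons_of_mem hw
    obtain ⟨v, hv⟩ := h w
    have e := congrArg D.Φ hv
    rw [D.map_mul, D.abel, D.abel] at e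
    have e' : D.Φ d + Sy.cl (w ::ₘ t) = Sy.cl (v ::ₘ t) := by
      rw [Sys.cl_cons, Sys.cl_cons, show Sy.pt w = ptCls hdim w from rfl, show Sy.pt v = ptCls hdim v from rfl,
        ← sub_eq_iff_eq_add'.2 e.symm]
      abel
    rw [e']
    exact Sys.one_le_h_cl _ _
  obtain ⟨s, hs, hs'⟩ := (Sy.one_le_h_iff (n := 0) (show Sy.deg (D.Φ d) = ((0 : ℕ) : ℤ) from D.deg_eq d)).1 h1
  rw [Multiset.card_eq_zero] at hs
  refine D.injective (hs'.symm.trans ?_)
  rw [hs, D.map_one]
  rfl

variable {C' : Scheme.{u}} [C'.Over (Spec (CommRingCat.of k))] [IsProper (C' ↘ Spec (CommRingCat.of k))]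
  [Smooth (C' ↘ Spec (CommRingCat.of k))] [GeometricallyConnected (C' ↘ Spec (CommRingCat.of k))]
  {J' : Over (Spec (CommRingCat.of k))} [GrpObj J'] [IsCommMonObj J']
  {ψ' : (ModFun.PicDeg (C' ↘ Spec (CommRingCat.of k)) 0).Hom ⊤ J'}

set_option maxHeartbeats 6400000 in
/-- Torelli's theorem over a perfect field. -/
theorem exists_iso_perfect [PerfectField k] (hdim : topologicalKrullDim C = 1) (hdim' : topologicalKrullDim C' = 1)
    (n : ℕ) (hn : Curv2.genus k C = n) (hn' : Curv2.genus k C' = n) (hn2 : 2 ≤ n) (σ : Pts k C) (σ' : Pts k C')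
    (hJ : Jac.IsJacobian (C ↘ Spec (CommRingCat.of k)) ⊤ J ψ)
    (hJ' : Jac.IsJacobian (C' ↘ Spec (CommRingCat.of k)) ⊤ J' ψ')
    (N : C.Modules) (hN : PicF.IsInvertible N) (hNdeg : Curv2.deg k C N 1 = (n : ℤ) - 1)
    (N' : C'.Modules) (hN' : PicF.IsInvertible N') (hNdeg' : Curv2.deg k C' N' 1 = (n : ℤ) - 1)
    (β : J ≅ J') [IsMonHom β.hom] (c₀ : One k ⟶ J')
    (hβ : β.hom.left.base '' Jac.thetaLocus (C ↘ Spec (CommRingCat.of k)) 0 ψ N =
      (Jac.transl J' c₀).left.base ⁻¹' Jac.thetaLocus (C' ↘ Spec (CommRingCat.of k)) 0 ψ' N') :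
    ∃ α : C ≅ C', α.hom ≫ (C' ↘ Spec (CommRingCat.of k)) = (C ↘ Spec (CommRingCat.of k)) := by
  classical
  let f := C ↘ Spec (CommRingCat.of k)
  let f' := C' ↘ Spec (CommRingCat.of k)
  obtain ⟨hX, hrel⟩ := H25Jac.isSmoothProperCurve_of_connected f hdim
  obtain ⟨hX', hrel'⟩ := H25Jac.isSmoothProperCurve_of_connected f' hdim'
  haveI := hrel; haveI := hrel'
  obtain ⟨hJp, -, -⟩ := jac_facts hdim σ hJ
  obtain ⟨hJp', -, -⟩ := jac_facts hdim' σ' hJ'
  haveI := hJp; haveI := hJp'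
  obtain ⟨j, hj⟩ := exists_abel_map hdim σ hJ
  obtain ⟨j', hj'⟩ := exists_abel_map hdim' σ' hJ'
  let Ω := AlgebraicClosure k
  let g : Spec (CommRingCat.of Ω) ⟶ Spec (CommRingCat.of k) := extMap k Ω
  obtain ⟨ψK, hJK, hjK, D, hD⟩ := exists_bcDict g hdim σ hJ hj
  obtain ⟨ψK', hJK', hjK', D', hD'⟩ := exists_bcDict g hdim' σ' hJ' hj'
  obtain ⟨NK, hNK, hNKd, hth⟩ := exists_thetaLocus_bc g hdim σ n hn (by omega) hJ hj hJK rfl D hD N hN hNdeg
  obtain ⟨NK', hNK', hNKd', hth'⟩ := exists_thetaLocus_bc g hdim' σ' n hn' (by omega) hJ' hj' hJK' rfl D' hD' N' hN' hNdeg'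
  let βK : Red.bc g J ≅ Red.bc g J' := (Over.pullback g).mapIso β
  haveI : IsMonHom βK.hom := isMonHom_map g β.hom
  haveI := D.proper; haveI := D'.proper; haveI := D'.comm
  let cK : One Ω ⟶ Red.bc g J' := pj g (toUnit _ ≫ c₀)
  have hβK : βK.hom.left.base '' Jac.thetaLocus (CK g C ↘ Spec (CommRingCat.of Ω)) 0 ψK NK =
      (Jac.transl (Red.bc g J') cK).left.base ⁻¹' Jac.thetaLocus (CK g C' ↘ Spec (CommRingCat.of Ω)) 0 ψK' NK' := by
    have hcl : IsClosed (Jac.thetaLocus (CK g C ↘ Spec (CommRingCat.of Ω)) 0 ψK NK) := isClosed_closure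
    refine eq_of_ptSet (A := Red.bc g J') (isClosed_image βK.hom hcl)
      (IsClosed.preimage (Jac.transl (Red.bc g J') cK).left.continuous isClosed_closure) (Set.ext fun z => ?_)
    obtain ⟨x, rfl⟩ := exists_pj g z
    rw [mem_ptSet_image βK.hom hcl, hth, hth']
    have hR : pj g x ∈ ptSet ((Jac.transl (Red.bc g J') cK).left.base ⁻¹'
        ((pullback.fst J'.hom g) ⁻¹' Jac.thetaLocus f' 0 ψ' N')) ↔
        x.left (IsLocalRing.closedPoint Ω) ∈ β.hom.left.base '' Jac.thetaLocus f 0 ψ N := by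
      rw [hβ, Set.mem_preimage]
      show (Jac.transl (Red.bc g J') cK).left ((pj g x).left (pt₀ Ω)) ∈
        ((pullback.fst J'.hom g) ⁻¹' Jac.thetaLocus f' 0 ψ' N' : Set (Red.bc g J').left) ↔ _
      rw [← Scheme.Hom.comp_apply, ← Over.comp_left, show cK = pj g (toUnit _ ≫ c₀) from rfl, ← map_transl g c₀,
        ← pj_map g (Jac.transl J' c₀) x]
      exact (pj_mem_preimage g (x ≫ Jac.transl J' c₀) (S := Jac.thetaLocus f' 0 ψ' N'))
    rw [hR]
    constructor
    · rintro ⟨w, hw, hwe⟩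
      obtain ⟨y, rfl⟩ := exists_pj g w
      have hwe' := pj_injective g ((pj_map g β.hom y).trans hwe)
      refine ⟨y.left (IsLocalRing.closedPoint Ω), (pj_mem_preimage g y).1 hw, ?_⟩
      rw [← hwe']
      rfl
    · rintro ⟨p, hp, hpx⟩
      refine ⟨pj g (x ≫ β.inv), (pj_mem_preimage g _).2 ?_, ?_⟩
      · show (x.left ≫ β.inv.left) _ ∈ _
        rw [Scheme.Hom.comp_apply]
        erw [← hpx]
        rw [← Scheme.Hom.comp_apply, ← Over.comp_left, β.hom_inv_id]
        exact hp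
      · refine Eq.trans (pj_map g β.hom (x ≫ β.inv)).symm ?_
        rw [Category.assoc, β.inv_hom_id, Category.comp_id]
  obtain ⟨α, hα, cv, e, he, hcomp⟩ := exists_torelli (σ := σK g σ) (σ' := σK g σ') hJK hjK hJK' hjK'
    (ck_facts g hdim).2 (ck_facts g hdim').2 n ((genus_ck g).trans hn) ((genus_ck g).trans hn') hn2
    NK hNK hNKd NK' hNK' hNKd' βK cK hβK
  -- the map of the curve to the second Jacobian, up to a translation
  obtain ⟨a₀, aK, haK, ha₀, hrel₀⟩ : ∃ (a₀ : Over.mk f ⟶ J') (aK : Over.mk (CK g C ↘ Spec (CommRingCat.of Ω)) ⟶ Red.bc g J'),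
      (jK g j ≫ βK.hom) ^ e = aK ∧
      (∀ q : Over.mk g ⟶ Over.mk f,
        (show One Ω ⟶ Over.mk (CK g C ↘ Spec (CommRingCat.of Ω)) from pj g q) ≫ aK = pj g (q ≫ a₀)) ∧
      IsClosedImmersion a₀.left := by
    have hbase : ∀ q : Over.mk g ⟶ Over.mk f,
        (show One Ω ⟶ Over.mk (CK g C ↘ Spec (CommRingCat.of Ω)) from pj g q) ≫ jK g j ≫ βK.hom =
          pj g (q ≫ j ≫ β.hom) := fun q => by
      rw [← Category.assoc, pj_comp_jK, ← Category.assoc q, pj_map g β.hom (q ≫ j)]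
      rfl
    haveI : IsClosedImmersion j.left := by
      obtain ⟨J₀, _, D₀, aj, χ, -, hp₀, -, -, haj, -, -, hjχ⟩ := H25Jac.exists_fine (hσ := σ.2) hX hJ hj
      haveI := hp₀
      haveI := H25Jac.isClosedImmersion_abel (D := D₀) (show 0 < Curv2.genus k C by omega) haj
      haveI : IsIso χ.inv.left := inferInstanceAs (IsIso ((Over.forget _).map χ.inv))
      rw [show j = aj ≫ χ.inv by rw [← hjχ, Category.assoc, χ.hom_inv_id, Category.comp_id], Over.comp_left]
      infer_instance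
    haveI : IsIso β.hom.left := inferInstanceAs (IsIso ((Over.forget _).map β.hom))
    haveI : IsClosedImmersion (j ≫ β.hom).left := by rw [Over.comp_left]; infer_instance
    haveI : IsIso ((𝟙 J' : J' ⟶ J')⁻¹) :=
      ⟨(𝟙 J')⁻¹, by rw [GrpObj.comp_inv, Category.comp_id, _root_.inv_inv],
        by rw [GrpObj.comp_inv, Category.comp_id, _root_.inv_inv]⟩
    haveI : IsIso ((𝟙 J' : J' ⟶ J')⁻¹).left := inferInstanceAs (IsIso ((Over.forget _).map ((𝟙 J' : J' ⟶ J')⁻¹)))
    rcases he with rfl | rfl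
    · exact ⟨j ≫ β.hom, _, rfl, fun q => by rw [zpow_one]; exact hbase q, inferInstance⟩
    · refine ⟨(j ≫ β.hom) ≫ (𝟙 J')⁻¹, _, rfl, fun q => ?_, by rw [Over.comp_left]; infer_instance⟩
      rw [zpow_neg_one, GrpObj.comp_inv, hbase, ← pj_inv, GrpObj.comp_inv (j ≫ β.hom) (𝟙 J'), GrpObj.comp_inv q,
        Category.comp_id]
  rw [haK] at hcomp
  obtain ⟨c, rfl⟩ := exists_pj g cv
  -- the two-sided condition on the translation
  let R : Set J'.left := Set.range j'.left
  let Pr : (Over.mk g ⟶ J') → Prop := fun x =>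
    (∀ q : Over.mk g ⟶ Over.mk f, ∃ w : Over.mk g ⟶ Over.mk f', (q ≫ a₀) * x = w ≫ j') ∧
      ∀ w : Over.mk g ⟶ Over.mk f', ∃ q : Over.mk g ⟶ Over.mk f, (q ≫ a₀) * x = w ≫ j'
  let αh : Over.mk (CK g C ↘ Spec (CommRingCat.of Ω)) ⟶ Over.mk (CK g C' ↘ Spec (CommRingCat.of Ω)) :=
    Over.homMk α.hom hα
  have hpt : ∀ q : Over.mk g ⟶ Over.mk f, ∀ w : Over.mk g ⟶ Over.mk f',
      (show One Ω ⟶ Over.mk (CK g C ↘ Spec (CommRingCat.of Ω)) from pj g q) ≫ αh =
        (show One Ω ⟶ Over.mk (CK g C' ↘ Spec (CommRingCat.of Ω)) from pj g w) →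
      (q ≫ a₀) * c = w ≫ j' := fun q w hqw => by
    refine pj_injective g ?_
    rw [pj_mul, ← pj_comp_jK g j' w, ← hqw, Category.assoc, hcomp, MonObj.comp_mul, ha₀, ← Category.assoc,
      toUnit_unique (_ ≫ toUnit _) (toUnit _), toUnit_unique (toUnit (One Ω)) (𝟙 _), Category.id_comp]
  have hPc : Pr c := by
    refine ⟨fun q => ?_, fun w => ?_⟩
    · obtain ⟨w, hw⟩ := exists_pj g (J := Over.mk f')
        ((show One Ω ⟶ Over.mk (CK g C ↘ Spec (CommRingCat.of Ω)) from pj g q) ≫ αh)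
      exact ⟨w, hpt q w hw.symm⟩
    · obtain ⟨q, hq⟩ := exists_pj g (J := Over.mk f)
        ((show One Ω ⟶ Over.mk (CK g C' ↘ Spec (CommRingCat.of Ω)) from pj g w) ≫
          (Over.homMk α.inv ((Iso.inv_comp_eq α).2 hα.symm) :
            Over.mk (CK g C' ↘ Spec (CommRingCat.of Ω)) ⟶ Over.mk (CK g C ↘ Spec (CommRingCat.of Ω))))
      refine ⟨q, hpt q w ?_⟩
      show (pj g q : One Ω ⟶ Over.mk (CK g C ↘ Spec (CommRingCat.of Ω))) ≫ αh = _
      rw [hq]
      refine (Category.assoc _ _ _).trans (Eq.trans (congrArg (_ ≫ ·) ?_) (Category.comp_id _))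
      exact Over.OverMorphism.ext α.inv_hom_id
  have huniq : ∀ x y, Pr x → Pr y → x = y := fun x y hx hy => by
    have h1 := D'.eq_one_of_stable (by rw [genus_ck g]; omega) (pj g (x⁻¹ * y)) fun w => by
      obtain ⟨w', hw'⟩ := exists_pj g (J := Over.mk f') (show One Ω ⟶ Red.bc g (Over.mk f') from w.hom)
      obtain ⟨q, hq⟩ := hx.2 w'
      obtain ⟨v, hv⟩ := hy.1 q
      refine ⟨Pts.of (pj g v), ?_⟩
      replace hw' : (show One Ω ⟶ Over.mk (CK g C' ↘ Spec (CommRingCat.of Ω)) from pj g w') = w.hom := hw'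
      rw [Pts.hom_of, ← hw']
      erw [pj_comp_jK g j' w', pj_comp_jK g j' v]
      rw [← pj_mul, ← hq, ← hv]
      congr 1
      rw [_root_.mul_assoc, mul_inv_cancel_left]
    have h2 := pj_injective g (h1.trans (pj_one g).symm)
    rwa [inv_mul_eq_one] at h2
  haveI : IsGalois k Ω := ⟨⟩
  have hfix : ∀ gam : Ω ≃ₐ[k] Ω, galMap gam ≫ c = c := fun gam => by
    refine huniq _ _ ⟨fun q => ?_, fun w => ?_⟩ hPc
    · obtain ⟨w, hw⟩ := hPc.1 (galMap gam.symm ≫ q)
      refine ⟨galMap gam ≫ w, ?_⟩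
      rw [Category.assoc, ← hw, MonObj.comp_mul, Category.assoc, ← Category.assoc (galMap gam), galMap_comp,
        Category.id_comp]
    · obtain ⟨q, hq⟩ := hPc.2 (galMap gam.symm ≫ w)
      refine ⟨galMap gam ≫ q, ?_⟩
      have e1 : galMap gam ≫ ((galMap gam.symm ≫ w) ≫ j') = w ≫ j' := by
        rw [← Category.assoc, ← Category.assoc, galMap_comp, Category.id_comp]
      rw [← e1, ← hq, MonObj.comp_mul, Category.assoc]
  obtain ⟨cr, hcr⟩ := exists_rational_of_fixed c hfix
  -- the embedding of the curve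
  let b : Over.mk f ⟶ J' := a₀ * (toUnit _ ≫ cr)
  haveI hbI : IsClosedImmersion b.left := by
    haveI := hrel₀
    let Θ := Jac.transl J' cr
    haveI : IsIso Θ := ⟨Jac.transl J' cr⁻¹, transl_comp_transl_inv cr,
      by simpa using transl_comp_transl_inv cr⁻¹⟩
    haveI : IsIso Θ.left := inferInstanceAs (IsIso ((Over.forget _).map Θ))
    have e : b = a₀ ≫ Θ := by
      show _ = a₀ ≫ Jac.transl J' cr
      rw [Jac.transl, MonObj.comp_mul, Category.comp_id, ← Category.assoc, toUnit_unique (a₀ ≫ toUnit J') (toUnit _)]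
    rw [e, Over.comp_left]
    infer_instance
  haveI : IsClosedImmersion j'.left := by
    obtain ⟨J₀, _, D₀, aj, χ, -, hp₀, -, -, haj, -, -, hjχ⟩ := H25Jac.exists_fine (hσ := σ'.2) hX' hJ' hj'
    haveI := hp₀
    haveI := H25Jac.isClosedImmersion_abel (D := D₀) (show 0 < Curv2.genus k C' by omega) haj
    haveI : IsIso χ.inv.left := inferInstanceAs (IsIso ((Over.forget _).map χ.inv))
    rw [show j' = aj ≫ χ.inv by rw [← hjχ, Category.assoc, χ.hom_inv_id, Category.comp_id], Over.comp_left]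
    infer_instance
  haveI : IsIntegral C := H29DoubleCover.isIntegral_of_smooth_connected f
  haveI : IsIntegral C' := H29DoubleCover.isIntegral_of_smooth_connected f'
  have hsub : Set.range b.left ⊆ R := by
    rintro _ ⟨p, rfl⟩
    haveI : JacobsonSpace C := LocallyOfFiniteType.jacobsonSpace f
    have hcl : IsClosed (b.left ⁻¹' R) := j'.left.isClosedEmbedding.isClosed_range.preimage b.left.continuous
    have : (Set.univ : Set C) ⊆ b.left ⁻¹' R := by
      rw [← closure_closedPoints (X := C), hcl.closure_subset_iff]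
      intro y hy
      obtain ⟨z, -, rfl⟩ : ∃ z : Over.mk g ⟶ Over.mk f, True ∧ z.left (IsLocalRing.closedPoint Ω) = y := by
        haveI : LocallyOfFiniteType (Over.mk f).hom := inferInstanceAs (LocallyOfFiniteType f)
        obtain ⟨z, hz⟩ := exists_pt_ext g (A := Over.mk f) hy
        exact ⟨z, trivial, hz⟩
      obtain ⟨w, hw⟩ := hPc.1 z
      refine ⟨w.left (IsLocalRing.closedPoint Ω), ?_⟩
      have e : z ≫ b = w ≫ j' := by
        rw [← hw, MonObj.comp_mul, hcr, ← Category.assoc, toUnit_unique (z ≫ toUnit _) (toUnit _)]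
      rw [← Scheme.Hom.comp_apply, ← Over.comp_left, ← e]
      rfl
    exact this trivial
  haveI : IsClosedImmersion (pullback.snd j'.left b.left) := MorphismProperty.pullback_snd _ _ inferInstance
  haveI : Surjective (pullback.snd j'.left b.left) := ⟨fun x => by
    have : x ∈ Set.range (pullback.snd j'.left b.left) := by
      rw [Scheme.Pullback.range_snd]
      exact hsub ⟨x, rfl⟩
    exact this⟩
  haveI : IsReduced (Over.mk f).left := inferInstanceAs (IsReduced C)
  haveI := isIso_of_isClosedImmersion_of_surjective (pullback.snd j'.left b.left)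
  let l : C ⟶ C' := inv (pullback.snd j'.left b.left) ≫ pullback.fst j'.left b.left
  have hl : l ≫ j'.left = b.left := by
    rw [Category.assoc, pullback.condition, IsIso.inv_hom_id_assoc]
  have hlf : l ≫ f' = f := by
    rw [← show j'.left ≫ J'.hom = f' from Over.w j', ← Category.assoc, hl]
    exact Over.w b
  haveI : IsClosedImmersion (l ≫ j'.left) := by rw [hl]; infer_instance
  haveI := IsClosedImmersion.of_comp l j'.left
  haveI : Surjective l := by
    refine ⟨fun y => ?_⟩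
    by_contra hy
    have hne : Set.range l ≠ Set.univ := fun h => hy (h.symm ▸ Set.mem_univ y : y ∈ Set.range l)
    have h1 := H25AbCube.dim_lt_of_ne_univ l.isClosedEmbedding.isClosed_range hne (g := 1) (by rw [hdim']; rfl)
    have h2 : topologicalKrullDim C = topologicalKrullDim (Set.range l) :=
      IsHomeomorph.topologicalKrullDim_eq _ (l.isClosedEmbedding.toIsEmbedding.toHomeomorph).isHomeomorph
    rw [← h2, hdim] at h1
    exact absurd h1 (by simp)
  haveI := isIso_of_isClosedImmersion_of_surjective l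
  exact ⟨asIso l, hlf⟩

end Groth.Agent.H25Torelli
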