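import Groth.Agent.H25Torelli.Classes
import Groth.Agent.H25Jac.CoarseAlbanese
import Groth.Agent.H25Jac.CurveEmbed
import Groth.Agent.H25Jac.Corresp
import Groth.Agent.H25Jac.DegShift
import Groth.Agent.H19AbSch.EulerPull

/-!
# Rational points of a Jacobian as classes on the curve
-/

set_option autoImplicit false
set_option linter.style.haveILetI false
set_option linter.unusedSectionVars false
set_option maxHeartbeats 1600000
set_option backward.isDefEq.respectTransparency.types false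

noncomputable section

universe u

open CategoryTheory CategoryTheory.Limits AlgebraicGeometry TopologicalSpace Opposite MonoidalCategory
  CartesianMonoidalCategory MonObj
open Groth.Agent.H25AbCube (PC pc pullP exists_rep pc_eq_iff pc_tensor pc_one pullP_pc pullP_pullP pullP_id)

namespace Groth.Agent.H25Torelli

open Groth.Agent.H12Pic Groth.Agent.H12Pic.PicCurve Groth.Agent.H27SymProd
open Groth.Agent.H25Theta (Cls cls pull pullU unitCls pb)

variable {k : Type u} [Field k] {C : Scheme.{u}} [C.Over (Spec (CommRingCat.of k))]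

/-- The unit object. -/
abbrev One (k : Type u) [Field k] : Over (Spec (CommRingCat.of k)) := 𝟙_ (Over (Spec (CommRingCat.of k)))

/-- A rational point of the curve as a morphism from the unit. -/
def Pts.hom (b : Pts k C) : One k ⟶ Over.mk (C ↘ Spec (CommRingCat.of k)) := Over.homMk b.1 b.2

/-- A morphism from the unit to the curve as a rational point. -/
def Pts.of (b : One k ⟶ Over.mk (C ↘ Spec (CommRingCat.of k))) : Pts k C := ⟨b.left, Over.w b⟩

theorem Pts.hom_of (b : One k ⟶ Over.mk (C ↘ Spec (CommRingCat.of k))) : (Pts.of b).hom = b := rfl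

theorem Pts.of_hom (b : Pts k C) : Pts.of b.hom = b := rfl

variable [IsProper (C ↘ Spec (CommRingCat.of k))] [Smooth (C ↘ Spec (CommRingCat.of k))]
  [GeometricallyConnected (C ↘ Spec (CommRingCat.of k))]

/-- The identification of the rational points of a Jacobian with classes of degree zero. -/
structure Dict (hdim : topologicalKrullDim C = 1) (σ : Pts k C) {J : Over (Spec (CommRingCat.of k))} [GrpObj J]
    (ψ : (ModFun.PicDeg (C ↘ Spec (CommRingCat.of k)) 0).Hom ⊤ J)
    (j : Over.mk (C ↘ Spec (CommRingCat.of k)) ⟶ J) where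
  Φ : (One k ⟶ J) → PC C
  map_mul : ∀ a b, Φ (a * b) = Φ a + Φ b
  injective : Function.Injective Φ
  deg_eq : ∀ a, degCls k (Φ a) = 0
  surj : ∀ u, degCls k u = 0 → ∃ a, Φ a = u
  abel : ∀ b : Pts k C, Φ (b.hom ≫ j) = ptCls hdim b - ptCls hdim σ
  app : ∀ (M : C.Modules) (hM : PicF.IsInvertible M) (L : (PicF.XT (C ↘ Spec (CommRingCat.of k)) (One k)).Modules)
    (_ : Nonempty (L ≅ pb (H25Jac.fst₁ (C ↘ Spec (CommRingCat.of k))) M)) (hT) (hok), Φ (ψ.app (One k) L hT hok) = pc M hM
  proper : IsProper J.hom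
  smooth : Smooth J.hom
  integral : GeometricallyIntegral J.hom
  comm : IsCommMonObj J

namespace Dict

variable {hdim : topologicalKrullDim C = 1} {σ : Pts k C} {J : Over (Spec (CommRingCat.of k))} [GrpObj J]
  {ψ : (ModFun.PicDeg (C ↘ Spec (CommRingCat.of k)) 0).Hom ⊤ J} {j : Over.mk (C ↘ Spec (CommRingCat.of k)) ⟶ J}
  (D : Dict hdim σ ψ j)

theorem map_one : D.Φ 1 = 0 := by
  have := D.map_mul 1 1
  rw [_root_.one_mul] at this
  simpa using this

theorem map_inv (a : One k ⟶ J) : D.Φ a⁻¹ = -D.Φ a := by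
  rw [eq_neg_iff_add_eq_zero, ← D.map_mul, inv_mul_cancel, D.map_one]

theorem map_list_prod : ∀ l : List (One k ⟶ J), D.Φ l.prod = (l.map D.Φ).sum
  | [] => by simpa using D.map_one
  | a :: l => by rw [List.prod_cons, D.map_mul, map_list_prod l, List.map_cons, List.sum_cons]

end Dict

attribute [local instance] fieldPointOver

variable [IsAlgClosed k]

theorem isInvertibleCl_exists {Y : Scheme.{u}} (u : (Cls Y)ˣ) (h : PicF.IsInvertibleCl (u.1 : PicF.Cl Y)) :
    u ∈ H25AbCube.invSub Y := by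
  obtain ⟨M, hc, hM⟩ := h
  exact ⟨M, hM, hc⟩

theorem degAt_fst₁ (M : C.Modules) (hM : PicF.IsInvertible M) (t : (One k).left)
    [SmoothOfRelativeDimension 1 (C ↘ Spec (CommRingCat.of k))] :
    degAt (C ↘ Spec (CommRingCat.of k)) (One k) (pb (H25Jac.fst₁ (C ↘ Spec (CommRingCat.of k))) M) t =
      Curv2.deg k C M 1 := by
  let f := C ↘ Spec (CommRingCat.of k)
  haveI : IsIso (𝟙_ (Over (Spec (CommRingCat.of k)))).hom := inferInstanceAs (IsIso (𝟙 (Spec (CommRingCat.of k))))
  haveI : IsIso (H25Jac.fst₁ f) := inferInstanceAs (IsIso (pullback.fst f (𝟙_ (Over (Spec (CommRingCat.of k)))).hom))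
  haveI := H29RR.isNoetherian_of_proper (k := k) (X := C)
  have hq : ∀ {N : C.Modules}, PicF.IsInvertible N → N.IsQuasicoherent := fun hN =>
    (H11Ample.isCoh_of_isInvertible hN).1
  letI : (PicF.XT f (One k)).Over (Spec (CommRingCat.of k)) := fieldPointOver f (𝟙 _)
  refine Eq.trans (degAt_point f (𝟙 (Spec (CommRingCat.of k))) (H11Ample.isInvertible_pullback _ hM) t) ?_
  have he : (asIso (H25Jac.fst₁ f)).hom ≫ f = PicF.XTproj f (One k) :=
    pullback.condition.trans (Category.comp_id _)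
  haveI := hq hM
  haveI := hq (H11Ample.isInvertible_structureModule (X := C))
  rw [H29RR.deg_def, H29RR.deg_def]
  refine congrArg₂ (fun a b : ℤ => a - b) (H19AbSch.EulerPull.euler_pullback_iso (asIso (H25Jac.fst₁ f)) he M) ?_
  rw [← H19AbSch.EulerPull.euler_pullback_iso (k := k) (asIso (H25Jac.fst₁ f)) he (Coh.structureModule C)]
  exact (H25Euler.euler_congr (k := k) (H16Derived.KFlat.Stalk.structurePullbackIso (H25Jac.fst₁ f))).symm

/-- The dictionary exists. -/
theorem exists_dict (hdim : topologicalKrullDim C = 1) (σ : Pts k C) {J : Over (Spec (CommRingCat.of k))} [GrpObj J]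
    (ψ : (ModFun.PicDeg (C ↘ Spec (CommRingCat.of k)) 0).Hom ⊤ J)
    (hJ : Jac.IsJacobian (C ↘ Spec (CommRingCat.of k)) ⊤ J ψ) (j : Over.mk (C ↘ Spec (CommRingCat.of k)) ⟶ J)
    (hj : Jac.IsAbelJacobiAt (C ↘ Spec (CommRingCat.of k)) σ.1 ψ j) : Nonempty (Dict hdim σ ψ j) := by
  classical
  let f := C ↘ Spec (CommRingCat.of k)
  obtain ⟨hX, hrel⟩ := H25Jac.isSmoothProperCurve_of_connected f hdim
  haveI := hrel
  haveI := hX.2.2.1
  obtain ⟨J₀, hg₀, hc, hp, hs, hi, ⟨D⟩⟩ := H25Jac.exists_jData (σ := σ.1) (hσ := σ.2) hX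
  obtain ⟨aj, haj⟩ := D.exists_abel
  obtain ⟨e, h1, h2, hχ⟩ := D.iso_of_isJacobian hJ
  haveI := hc; haveI := hp; haveI := hs; haveI := hi; haveI := h1; haveI := h2
  have hje : j ≫ e.hom = aj := by
    obtain ⟨hT, L, hL, hAJ, rfl⟩ := hj
    rw [hχ]
    exact D.psi_ajFamily haj hAJ hL
  haveI : IsIso (𝟙_ (Over (Spec (CommRingCat.of k)))).hom := inferInstanceAs (IsIso (𝟙 (Spec (CommRingCat.of k))))
  haveI : IsIso (H25Jac.fst₁ f) := inferInstanceAs (IsIso (pullback.fst f (𝟙_ (Over (Spec (CommRingCat.of k)))).hom))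
  let gi := inv (H25Jac.fst₁ f)
  have hback : ∀ u : PC (PicF.XT f (One k)), pullP (H25Jac.fst₁ f) (pullP gi u) = u := fun u => by
    rw [pullP_pullP, IsIso.hom_inv_id, pullP_id]
  have hforth : ∀ u : PC C, pullP gi (pullP (H25Jac.fst₁ f) u) = u := fun u => by
    rw [pullP_pullP, IsIso.inv_hom_id, pullP_id]
  have hmem : ∀ {T : Over (Spec (CommRingCat.of k))} (a : T ⟶ J₀), D.xU a ∈ H25AbCube.invSub (PicF.XT f T) := fun a =>
    isInvertibleCl_exists _ (D.mem.pull a).1
  let F : (One k ⟶ J₀) → PC (PicF.XT f (One k)) := fun a => Additive.ofMul ⟨D.xU a, hmem a⟩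
  let Φ : (One k ⟶ J) → PC C := fun a => pullP gi (F (a ≫ e.hom))
  have hF : ∀ a b, F (a * b) = F a + F b := fun a b => congrArg Additive.ofMul (Subtype.ext (D.xU_mul a b))
  have hFinj : Function.Injective F := fun a b h =>
    D.xU_injective (congrArg Subtype.val (congrArg Additive.toMul h :))
  have hnorm : ∀ {L : (PicF.XT f (One k)).Modules} (hL : PicF.IsInvertible L),
      H29Ell.norm f σ.1 σ.2 (One k) (unitCls hL) = unitCls hL := fun {L} hL => by
    refine H29Ell.norm_eq_self f σ.1 σ.2 _ (unitCls hL) ?_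
    haveI : Subsingleton ↥(One k).left := inferInstanceAs (Subsingleton (PrimeSpectrum k))
    haveI : Nonempty ↥(One k).left := inferInstanceAs (Nonempty (PrimeSpectrum k))
    obtain ⟨e⟩ := H25Theta.nonempty_iso_of_subsingleton (H11Ample.isInvertible_pullback (PicF.secT f σ.1 σ.2 (One k)) hL)
    exact Units.ext (Quot.sound ⟨e⟩)
  let t₀ : (One k).left := IsLocalRing.closedPoint k
  have hdeg : ∀ (M : C.Modules), PicF.IsInvertible M → ∀ t,
      degAt f (One k) (pb (H25Jac.fst₁ f) M) t = Curv2.deg k C M 1 := fun M hM t => degAt_fst₁ M hM t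
  refine ⟨⟨Φ, fun a b => ?_, fun a b h => ?_, fun a => ?_, fun u hu => ?_, fun b => ?_, ?_,
    ?_, ?_, ?_, ?_⟩⟩
  · show pullP gi _ = pullP gi _ + pullP gi _
    rw [← map_add, ← hF]
    exact congrArg (fun x => pullP gi (F x)) (MonObj.mul_comp a b e.hom)
  · have := hFinj ((hback _).symm.trans ((congrArg (pullP (H25Jac.fst₁ f)) h).trans (hback _)))
    exact (cancel_mono e.hom).1 this
  · obtain ⟨M, hM, hMu⟩ := exists_rep (Φ a)
    rw [← hMu, degCls_pc, ← hdeg M hM t₀]
    have hMi := H11Ample.isInvertible_pullback (H25Jac.fst₁ f) hM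
    have h := (D.mem.pull (a ≫ e.hom)).2.2
    refine (H25Jac.hasFibreDegreeZeroCl_cl_iff f (One k)).1 ?_ t₀
    have heq : pc _ hMi = F (a ≫ e.hom) := (pullP_pc _ M hM hMi).trans (by rw [hMu]; exact hback _)
    rw [show PicF.cl (pb (H25Jac.fst₁ f) M) = ((D.xU (a ≫ e.hom)).1 : PicF.Cl (PicF.XT f (One k))) from
      congrArg (fun z : PC _ => ((Additive.toMul z).1.1 : PicF.Cl _)) heq]
    exact h
  · obtain ⟨M, hM, rfl⟩ := exists_rep u
    rw [degCls_pc] at hu
    have hMi := H11Ample.isInvertible_pullback (H25Jac.fst₁ f) hM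
    have hok : (ModFun.PicDeg f 0).ok (One k) (pb (H25Jac.fst₁ f) M) :=
      (H25Jac.ok_iff _ _).2 ⟨hMi, fun t => (hdeg M hM t).trans hu⟩
    obtain ⟨a, ha⟩ := D.exists_of_isDZ _ (H25Jac.norm_mem_isDZ (σ := σ.1) (hσ := σ.2) hok)
    refine ⟨a ≫ e.inv, ?_⟩
    show pullP gi (F ((a ≫ e.inv) ≫ e.hom)) = _
    rw [Category.assoc, Iso.inv_hom_id, Category.comp_id,
      show F a = pullP (H25Jac.fst₁ f) (pc M hM) from ?_, hforth]
    refine (congrArg Additive.ofMul (Subtype.ext (ha.trans (hnorm _)))).trans (pullP_pc _ M hM hMi)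
  · show pullP gi (F ((b.hom ≫ j) ≫ e.hom)) = _
    rw [Category.assoc, hje]
    refine Eq.trans (congrArg (pullP gi) ?_) (hforth _)
    rw [map_sub, ptCls, ptCls, map_neg, map_neg, neg_sub_neg, eq_sub_iff_add_eq]
    refine congrArg Additive.ofMul (Subtype.ext ?_)
    have h1 : ∀ c : Pts k C, pullU (H25Jac.fst₁ f) (unitCls (isInvertible_pt hdim c)) = H25Jac.secU f c.hom := fun c =>
      H25Jac.pullU_idU_point c.hom (isEffCartier_pt c hdim)
    show D.xU (b.hom ≫ aj) * pullU (H25Jac.fst₁ f) (unitCls (isInvertible_pt hdim b)) =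
      pullU (H25Jac.fst₁ f) (unitCls (isInvertible_pt hdim σ))
    rw [haj, h1, h1, H25Jac.ptClass, map_mul, map_inv, H25Jac.norm_secU_point, H25Jac.norm_secU_point,
      mul_comm (H25Jac.secU f b.hom)⁻¹, inv_mul_cancel_right]
    exact congrArg (H25Jac.secU f) (Over.OverMorphism.ext (Category.id_comp σ.1))
  · intro M hM L hLM hT hok
    obtain ⟨eL⟩ := hLM
    show pullP gi (F (ψ.app (One k) L hT hok ≫ e.hom)) = _
    rw [hχ]
    refine Eq.trans (congrArg (pullP gi) ?_) (hforth _)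
    have hLi := ((H25Jac.ok_iff _ _).1 hok).1
    refine Eq.trans (b := pc L hLi) (congrArg Additive.ofMul (Subtype.ext ((D.xU_psi _ L hT hok).trans (hnorm hLi)))) ?_
    exact ((pc_eq_iff hLi (H11Ample.isInvertible_pullback _ hM)).2 ⟨eL⟩).trans (pullP_pc _ M hM _)
  · exact H25Jac.isProper_of_iso e
  · rw [← Over.w e.hom]; infer_instance
  · exact H25Jac.geometricallyIntegral_of_iso e
  · haveI := H25Jac.isProper_of_iso e
    haveI := H25Jac.geometricallyIntegral_of_iso e
    exact H19Grp.isCommMonObj_of_proper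

end Groth.Agent.H25Torelli
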