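import Groth.Agent.H25AbCube.SeesawPoints
import Groth.Agent.H25Torelli.WSets

/-!
# The seesaw principle from the slices over a nonempty open set
-/

set_option autoImplicit false
set_option linter.style.haveILetI false
set_option backward.isDefEq.respectTransparency false
universe u

open CategoryTheory CategoryTheory.Limits MonoidalCategory CartesianMonoidalCategory MonObj AlgebraicGeometry
open Groth.Agent Groth.Agent.H25AbCube

noncomputable section

namespace Groth.Agent.H25Torelli

variable {k : Type u} [Field k] [IsAlgClosed k]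

/-- A class trivial on the rational slices over a nonempty open set of an irreducible base comes from the base. -/
theorem eq_ev_snd_of_slices_open (A T : Over (Spec (CommRingCat.of k))) [IsProper A.hom] [GeometricallyIntegral A.hom]
    [LocallyOfFiniteType T.hom] [IsReduced T.left] [IrreducibleSpace T.left] (U : T.left.Opens)
    (hU : (U : Set T.left).Nonempty) (u : PC (A ⊗ T).left)
    (h : ∀ t : One k ⟶ T, t.left (pt₀ k) ∈ U → ev u (lift (𝟙 A) (toUnit A ≫ t)) = 0) :
    ∃ N : PC T.left, u = ev N (snd A T) := by
  obtain ⟨L, hL, rfl⟩ := exists_rep u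
  let f := pullback.snd A.hom T.hom
  haveI : IsProper f := MorphismProperty.pullback_snd (P := @IsProper) _ _ inferInstance
  haveI : Flat f := MorphismProperty.pullback_snd (P := @Flat) _ _ inferInstance
  haveI : LocallyOfFinitePresentation A.hom :=
    LocallyOfFinitePresentation.iff_locallyOfFiniteType.2 inferInstance
  haveI : LocallyOfFinitePresentation f :=
    MorphismProperty.pullback_snd (P := @LocallyOfFinitePresentation) _ _ inferInstance
  haveI : GeometricallyIntegral f := MorphismProperty.pullback_snd (P := @GeometricallyIntegral) _ _ inferInstance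
  have hint : ∀ s, IsIntegral (f.fiber s) := fun s => inferInstance
  have hK : ∀ s, IsIso (f.fiberToSpecResidueField s).appTop := fun s =>
    H12Pic.isIso_appTop_fiber_of_geomIntegral f s
  obtain ⟨Z, ιZ, hι, hZ⟩ := H12Pic.exists_seesaw_subscheme f hint hK hL
  haveI := hι
  haveI : JacobsonSpace T.left := LocallyOfFiniteType.jacobsonSpace T.hom
  haveI : Surjective ιZ := by
    have hcl : ∀ x : T.left, IsClosed ({x} : Set T.left) → x ∈ U → x ∈ Set.range ιZ := by
      intro x hx hxU
      obtain ⟨t, ht⟩ := exists_pt (A := T) hx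
      let N₀ := Coh.structureModule (Spec (CommRingCat.of k))
      have hN₀ : PicF.IsInvertible N₀ := H11Ample.isInvertible_structureModule
      obtain ⟨u', hu'⟩ := (hZ (Spec (CommRingCat.of k)) t.left).2 ⟨N₀, hN₀, by
        refine (pc_eq_iff (H11Ample.isInvertible_pullback _ hL) (H11Ample.isInvertible_pullback _ hN₀)).1 ?_
        rw [pullP_pc _ L hL, pullP_pc _ N₀ hN₀, pc_one, map_zero]
        let e : pullback f t.left ⟶ A.left := pullback.fst f t.left ≫ pullback.fst A.hom T.hom
        have he : pullback.fst f t.left = e ≫ (lift (𝟙 A) (toUnit A ≫ t)).left := by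
          apply pullback.hom_ext
          · have : (lift (𝟙 A) (toUnit A ≫ t)).left ≫ (fst A T).left = 𝟙 _ :=
              congrArg Over.Hom.left (lift_fst (𝟙 A) (toUnit A ≫ t))
            show _ = (e ≫ _) ≫ (fst A T).left
            rw [Category.assoc, this, Category.comp_id]
          · have : (lift (𝟙 A) (toUnit A ≫ t)).left ≫ (snd A T).left = A.hom ≫ t.left :=
              congrArg Over.Hom.left (lift_snd (𝟙 A) (toUnit A ≫ t))
            show pullback.fst f t.left ≫ f = (e ≫ _) ≫ (snd A T).left
            have h3 : pullback.snd f t.left = e ≫ A.hom := by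
              show _ = (pullback.fst f t.left ≫ pullback.fst A.hom T.hom) ≫ A.hom
              rw [Category.assoc, pullback.condition, ← Category.assoc, pullback.condition, Category.assoc, Over.w t]
              exact (Category.comp_id _).symm
            rw [Category.assoc, this, pullback.condition, h3, Category.assoc]
        rw [he, ← pullP_pullP]
        exact (congrArg _ (h t (by rw [ht]; exact hxU))).trans (map_zero _)⟩
      refine ⟨u' (pt₀ k), ?_⟩
      rw [← Scheme.Hom.comp_apply, hu']
      exact ht
    refine ⟨fun x => ?_⟩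
    by_contra hx
    obtain ⟨y, ⟨hyU, hy⟩, hyc⟩ := nonempty_inter_closedPoints (Z := (U : Set T.left) ∩ (Set.range ιZ)ᶜ)
      (nonempty_preirreducible_inter U.2 ιZ.isClosedEmbedding.isClosed_range.isOpen_compl hU ⟨x, hx⟩)
      ((U.2.inter ιZ.isClosedEmbedding.isClosed_range.isOpen_compl).isLocallyClosed)
    exact hy (hcl y hyc hyU)
  haveI : IsIso ιZ := isIso_of_isClosedImmersion_of_surjective ιZ
  obtain ⟨N, hN, ⟨φ⟩⟩ := (hZ T.left (𝟙 _)).1 ⟨inv ιZ, IsIso.inv_hom_id ιZ⟩
  refine ⟨pc N hN, ?_⟩
  have := (pc_eq_iff (H11Ample.isInvertible_pullback _ hL) (H11Ample.isInvertible_pullback _ hN)).2 ⟨φ⟩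
  rw [pullP_pc _ L hL, pullP_pc _ N hN] at this
  let j : pullback A.hom T.hom ⟶ pullback f (𝟙 T.left) := pullback.lift (𝟙 _) f (by simp)
  have h2 := congrArg (pullP j) this
  rw [pullP_pullP, pullP_pullP, pullback.lift_fst, pullback.lift_snd] at h2
  exact (pullP_id _).symm.trans h2

end Groth.Agent.H25Torelli
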