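import Groth.Agent.H25Torelli.Slices
import Groth.Agent.H25Torelli.Seesaw
import Groth.Agent.H25AbCube.TraceNumber
import Groth.Agent.H29CurveDual.Clifford

/-!
# The class of the reflected theta divisor on the curve
-/

set_option autoImplicit false
set_option linter.style.haveILetI false
set_option linter.unusedSectionVars false
set_option maxHeartbeats 1600000
set_option backward.isDefEq.respectTransparency.types false

noncomputable section

universe u

open CategoryTheory CategoryTheory.Limits AlgebraicGeometry TopologicalSpace Opposite MonoidalCategory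
  CartesianMonoidalCategory MonObj
open Groth.Agent.H25AbCube (PC pc pullP exists_rep pullP_pc pullP_pullP pullP_id pc_eq_iff pc_tensor pc_one)

namespace Groth.Agent.H25Torelli

open Groth.Agent.H25Theta (pb)
open Groth.Agent.H25Jac (fst₁)

/-- Inverse modules have opposite classes. -/
theorem pc_inverse {X : Scheme.{u}} {L M : X.Modules} (hL : PicF.IsInvertible L) (hM : PicF.IsInvertible M)
    (h : ClSub.IsInverseOf L M) : pc L hL = -pc M hM := by
  rw [eq_neg_iff_add_eq_zero, ← pc_tensor hL hM (H11Ample.isInvertible_tensor hL hM), ← pc_one, pc_eq_iff]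
  exact h

variable {k : Type u} [Field k] [IsAlgClosed k] {C : Scheme.{u}} [C.Over (Spec (CommRingCat.of k))]
  [IsProper (C ↘ Spec (CommRingCat.of k))] [Smooth (C ↘ Spec (CommRingCat.of k))]
  [GeometricallyConnected (C ↘ Spec (CommRingCat.of k))]

/-- The class of the ideal of a sum of points. -/
theorem pc_prod_points (hdim : topologicalKrullDim C = 1) {n : ℕ} (w : Fin n → Pts k C)
    (h : PicF.IsInvertible (ClSub.idealMod (∏ i, (w i).1.ker))) :
    pc _ h = -(sys (k := k) hdim).cl (List.ofFn w : Multiset (Pts k C)) := by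
  classical
  obtain ⟨h', e⟩ := H25Jac.idU_prod (fun i => (w i).1.ker) (fun i => isEffCartier_pt (w i) hdim) Finset.univ
  have e1 : Additive.toMul (pc _ h) = ∏ i, Additive.toMul (pc _ (isInvertible_pt hdim (w i))) := by
    refine Subtype.ext ?_
    rw [Submonoid.coe_finsetProd]
    exact e
  rw [show (sys (k := k) hdim).cl (List.ofFn w : Multiset (Pts k C)) = ∑ i, ptCls hdim (w i) by
    rw [Sys.cl, Multiset.map_coe, Multiset.sum_coe, List.map_ofFn, List.sum_ofFn]; rfl]
  simp only [ptCls, Finset.sum_neg_distrib, neg_neg]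
  exact e1

/-- The class of a module inverse to the product of the ideals of points. -/
theorem pc_of_tensorList (hdim : topologicalKrullDim C = 1) {n : ℕ} (w : Fin n → Pts k C) (M : C.Modules)
    (hM : PicF.IsInvertible M)
    (h : Nonempty (CohB1.tensorMod M (FGA.tensorList (List.ofFn fun i => ClSub.idealMod (w i).1.ker)) ≅
      Coh.structureModule C)) :
    pc M hM = (sys (k := k) hdim).cl (List.ofFn w : Multiset (Pts k C)) := by
  obtain ⟨hl, e⟩ := H25AbCube.TraceForm.pc_tensorList_map (fun b : Pts k C => ClSub.idealMod b.1.ker)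
    (fun b => isInvertible_pt hdim b) (List.ofFn w)
  have hl' : (List.ofFn w).map (fun b : Pts k C => ClSub.idealMod b.1.ker) =
      List.ofFn fun i => ClSub.idealMod (w i).1.ker := by rw [List.map_ofFn]; rfl
  rw [pc_inverse hM hl (by rw [hl']; exact h), e, List.map_ofFn, List.sum_ofFn,
    show (sys (k := k) hdim).cl (List.ofFn w : Multiset (Pts k C)) = ∑ i, ptCls hdim (w i) by
      rw [Sys.cl, Multiset.map_coe, Multiset.sum_coe, List.map_ofFn, List.sum_ofFn]; rfl]
  simp only [ptCls, Finset.sum_neg_distrib, Function.comp_apply]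

variable {hdim : topologicalKrullDim C = 1} {σ : Pts k C}
  {J : Over (Spec (CommRingCat.of k))} [GrpObj J]
  {ψ : (ModFun.PicDeg (C ↘ Spec (CommRingCat.of k)) 0).Hom ⊤ J} {j : Over.mk (C ↘ Spec (CommRingCat.of k)) ⟶ J}

namespace Dict

variable (D : Dict hdim σ ψ j)

/-- The slices of a universal family. -/
theorem slice_univ (Pu : (PicF.XT (C ↘ Spec (CommRingCat.of k)) J).Modules) (hPu : PicF.IsInvertible Pu)
    (hok : (ModFun.PicDeg (C ↘ Spec (CommRingCat.of k)) 0).ok J Pu) (hT : (⊤ : ObjectProperty _) J)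
    (hψ : ψ.app J Pu hT hok = 𝟙 J) (t : One k ⟶ J) : pullP (slice t) (pc Pu hPu) = D.Φ t := by
  let f := C ↘ Spec (CommRingCat.of k)
  haveI : IsIso (fst₁ f) := inferInstanceAs (IsIso (pullback.fst f (𝟙 (Spec (CommRingCat.of k)))))
  obtain ⟨hX, hrel⟩ := H25Jac.isSmoothProperCurve_of_connected f hdim
  haveI := hrel
  let L := pb (PicF.XTmap f t) Pu
  have hL := H11Ample.isInvertible_pullback (PicF.XTmap f t) hPu
  have hokL := H25Jac.ok_pull t hok
  have hM := H11Ample.isInvertible_pullback (inv (fst₁ f)) hL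
  have hMi := H11Ample.isInvertible_pullback (fst₁ f) hM
  have h1 : pc _ hMi = pc _ hL := by
    rw [pullP_pc (fst₁ f) _ hM hMi, pullP_pc (inv (fst₁ f)) L hL hM, pullP_pullP, IsIso.hom_inv_id, pullP_id]
  have h2 : ψ.app (One k) L trivial hokL = t := by
    refine (ψ.natural t Pu hT trivial hok hokL).trans ?_
    rw [hψ, Category.comp_id]
  refine Eq.trans ?_ ((D.app _ hM L ((pc_eq_iff hL hMi).1 h1.symm) trivial hokL).symm.trans (congrArg D.Φ h2))
  rw [pullP_pc (inv (fst₁ f)) L hL hM, pullP_pc (PicF.XTmap f t) Pu hPu hL, pullP_pullP]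

set_option maxHeartbeats 3200000 in
/-- The class of the pullback of the theta divisor along a reflected Abel map. -/
theorem ev_reflect (hJ : Jac.IsJacobian (C ↘ Spec (CommRingCat.of k)) ⊤ J ψ)
    (hj : Jac.IsAbelJacobiAt (C ↘ Spec (CommRingCat.of k)) σ.1 ψ j)
    (g : ℕ) (hg : Curv2.genus k C = g) (hg1 : 1 ≤ g)
    (hΘ : PicF.IsInvertible (ClSub.idealMod (Scheme.IdealSheafData.vanishingIdeal ⟨W j (g - 1), D.isClosed_W _⟩)))
    (a : One k ⟶ J) :
    H25AbCube.ev (-pc _ hΘ) (j ≫ reflect J a) = D.Φ a + g • ptCls hdim σ := by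
  haveI := D.proper; haveI := D.comm; haveI := D.smooth; haveI := D.integral
  let f := C ↘ Spec (CommRingCat.of k)
  let Cv := Over.mk f
  obtain ⟨hX, hrel⟩ := H25Jac.isSmoothProperCurve_of_connected f hdim
  haveI := hrel
  haveI := H29DoubleCover.geometricallyIntegral_of_smooth_connected f
  haveI : IsProper Cv.hom := inferInstanceAs (IsProper f)
  haveI : GeometricallyIntegral Cv.hom := inferInstanceAs (GeometricallyIntegral f)
  haveI : IsIntegral J.left := GeometricallyIntegral.isIntegral_of_subsingleton J.hom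
  obtain ⟨Pu, hok, hψ, -⟩ := exists_univ hX σ.2 hJ
  have hPu := ((H25Jac.ok_iff J Pu).1 hok).1
  obtain ⟨T, ιW, I, hop, hne, -, -, -, hpts⟩ := exists_good D hJ hj g hg
  haveI := hop
  let Lθ : PC J.left := -pc _ hΘ
  let P : PC Cv.left := ptCls (C := C) hdim σ
  let u : PC (Cv ⊗ J).left := H25AbCube.ev Lθ (diffMap j (𝟙 J)) - (pc Pu hPu : PC (Cv ⊗ J).left) - g • H25AbCube.ev P (fst Cv J)
  have hu : ∀ t : One k ⟶ J, H25AbCube.ev u (lift (𝟙 Cv) (toUnit Cv ≫ t)) =
      H25AbCube.ev Lθ (j ≫ reflect J t) - (show PC Cv.left from D.Φ t) - g • P := by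
    intro t
    have e1 : H25AbCube.ev (H25AbCube.ev Lθ (diffMap j (𝟙 J))) (lift (𝟙 Cv) (toUnit Cv ≫ t)) =
        H25AbCube.ev Lθ (j ≫ reflect J t) := by
      rw [H25AbCube.ev_comp]
      congr 1
      rw [MonObj.comp_mul, GrpObj.comp_inv, ← Category.assoc, ← Category.assoc, lift_snd, lift_fst, Category.id_comp,
        Category.comp_id, comp_reflect]
    have e2 : H25AbCube.ev (pc Pu hPu : PC (Cv ⊗ J).left) (lift (𝟙 Cv) (toUnit Cv ≫ t)) = D.Φ t := by
      rw [← D.slice_univ Pu hPu hok trivial hψ t]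
      exact congrArg (fun m => pullP m (pc Pu hPu)) (slice_eq_lift t).symm
    have e3 : H25AbCube.ev (H25AbCube.ev P (fst Cv J)) (lift (𝟙 Cv) (toUnit Cv ≫ t)) = P := by
      rw [H25AbCube.ev_comp, lift_fst]
      exact pullP_id P
    rw [show H25AbCube.ev u (lift (𝟙 Cv) (toUnit Cv ≫ t)) =
      H25AbCube.ev (H25AbCube.ev Lθ (diffMap j (𝟙 J))) (lift (𝟙 Cv) (toUnit Cv ≫ t)) -
        H25AbCube.ev (pc Pu hPu : PC (Cv ⊗ J).left) (lift (𝟙 Cv) (toUnit Cv ≫ t)) -
        g • H25AbCube.ev (H25AbCube.ev P (fst Cv J)) (lift (𝟙 Cv) (toUnit Cv ≫ t)) from by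
      show pullP _ u = _
      rw [map_sub, map_sub, map_nsmul]
      rfl, e1, e2, e3]
  obtain ⟨N, hN⟩ := eq_ev_snd_of_slices_open Cv J ιW.left.opensRange
    (by obtain ⟨x⟩ := hne; exact ⟨_, x, rfl⟩) u (fun t ht => by
      rw [hu t]
      obtain ⟨y, hy⟩ := ht
      haveI : LocallyOfFiniteType T.hom := by rw [← Over.w ιW]; infer_instance
      have hty : Set.range t.left ⊆ Set.range ιW.left := by
        rintro _ ⟨p, rfl⟩
        rw [Subsingleton.elim (α := PrimeSpectrum k) p (pt₀ k)]
        exact ⟨y, hy⟩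
      let v : One k ⟶ T := Over.homMk (IsOpenImmersion.lift ιW.left t.left hty) (by
        rw [← Over.w ιW, IsOpenImmersion.lift_fac_assoc]; exact Over.w t)
      have hv : v ≫ ιW = t := Over.OverMorphism.ext (IsOpenImmersion.lift_fac _ _ _)
      have h1 := (hpts v).1
      rw [hv] at h1
      obtain ⟨w, hw1, -, hw3⟩ := D.comap_thetaMinus hJ hj g hg hg1 t h1
      rw [D.thetaMinus_eq, ← Scheme.IdealSheafData.comap_comp, ← Over.comp_left] at hw3
      have hc : BlowUp.IsEffCartierIdeal (∏ i, (w i).1.ker) :=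
        (H25Jac.idU_prod (fun i => (w i).1.ker) (fun i => isEffCartier_pt (w i) hdim) Finset.univ).choose
      have hci := H29Blow.isInvertible_of_isEffCartierIdeal _ hc
      have hΘc := (S8914.result _).1 hΘ
      obtain ⟨e⟩ := H12Pic.CurveFam.nonempty_pullback_idealMod_comap (j ≫ reflect J t).left hΘc (hw3 ▸ hc)
      have h2 : pullP (j ≫ reflect J t).left (pc _ hΘ) = pc _ hci := by
        rw [← pullP_pc _ _ hΘ (H11Ample.isInvertible_pullback _ hΘ)]
        refine (pc_eq_iff _ _).2 ⟨e ≪≫ eqToIso (congrArg ClSub.idealMod hw3)⟩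
      have h3 : H25AbCube.ev Lθ (j ≫ reflect J t) = (show PC Cv.left from D.Φ t) + g • P := by
        show pullP _ (-pc _ hΘ) = _
        rw [map_neg, h2, pc_prod_points hdim w hci, neg_neg]
        exact hw1
      rw [h3]
      abel)
  have h := hu a
  rw [hN, H25AbCube.ev_comp, lift_snd, H25AbCube.ev_toUnit] at h
  rw [eq_comm, sub_sub, sub_eq_zero] at h
  exact h

end Dict

end Groth.Agent.H25Torelli
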