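import Groth.Agent.H25Torelli.BCClass
import Groth.Agent.H25Torelli.ThetaClass
import Groth.Agent.H25Torelli.Morphisms
import Groth.Agent.H25Poinc.DimDual
import Groth.Agent.H25Dual.BaseChange
import Groth.Agent.H25DualAV.Iso
import Groth.Agent.H25AbCube.AbImage

/-!
# The theta line bundle defines a principal polarisation of a Jacobian
-/

set_option autoImplicit false
set_option linter.style.haveILetI false
set_option linter.unusedSectionVars false
set_option maxHeartbeats 1600000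
set_option backward.isDefEq.respectTransparency.types false

noncomputable section

universe u

open CategoryTheory CategoryTheory.Limits AlgebraicGeometry TopologicalSpace Opposite MonoidalCategory
  CartesianMonoidalCategory MonObj
open Groth.Agent.H25AbCube (PC pc pullP exists_rep pullP_pc pullP_pullP pullP_id pc_eq_iff pc_tensor pc_one ev th theta)
open Groth.Agent.H25Dual (PZ pz_pc Φ_pc Φ_nat rig_eq pz_ev_left)

namespace Groth.Agent.H25Torelli

open Groth.Agent.H25Theta (pb)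
open Groth.Agent.H12Pic.PicCurve.BaseChangePic (down downHom)
open Groth.Agent.H25Jac (prj)

variable {k : Type u} [Field k] {C : Scheme.{u}} [C.Over (Spec (CommRingCat.of k))]
  [IsProper (C ↘ Spec (CommRingCat.of k))] [Smooth (C ↘ Spec (CommRingCat.of k))]
  [GeometricallyConnected (C ↘ Spec (CommRingCat.of k))]
  {J : Over (Spec (CommRingCat.of k))} [GrpObj J] [IsCommMonObj J]
  {ψ : (ModFun.PicDeg (C ↘ Spec (CommRingCat.of k)) 0).Hom ⊤ J}
  {j : Over.mk (C ↘ Spec (CommRingCat.of k)) ⟶ J}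
  {Jt : Over (Spec (CommRingCat.of k))} [GrpObj Jt] {φ : AgPol.DualMap J Jt}

/-- The value of the theta class on a translated Abel map. -/
theorem Dict.ev_translate {K : Type u} [Field K] [IsAlgClosed K] {C : Scheme.{u}} [C.Over (Spec (CommRingCat.of K))]
    [IsProper (C ↘ Spec (CommRingCat.of K))] [Smooth (C ↘ Spec (CommRingCat.of K))]
    [GeometricallyConnected (C ↘ Spec (CommRingCat.of K))] {hdim : topologicalKrullDim C = 1} {σ : Pts K C}
    {J : Over (Spec (CommRingCat.of K))} [GrpObj J] {ψ : (ModFun.PicDeg (C ↘ Spec (CommRingCat.of K)) 0).Hom ⊤ J}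
    {j : Over.mk (C ↘ Spec (CommRingCat.of K)) ⟶ J} (D : Dict hdim σ ψ j)
    (hJ : Jac.IsJacobian (C ↘ Spec (CommRingCat.of K)) ⊤ J ψ)
    (hj : Jac.IsAbelJacobiAt (C ↘ Spec (CommRingCat.of K)) σ.1 ψ j) (g : ℕ) (hg : Curv2.genus K C = g) (hg1 : 1 ≤ g)
    (hΘ : PicF.IsInvertible (ClSub.idealMod (Scheme.IdealSheafData.vanishingIdeal ⟨W j (g - 1), D.isClosed_W _⟩))) :
    ∃ κ : PC C, ∀ c : One K ⟶ J, ev (-pc _ hΘ) (j * (toUnit _ ≫ c)) = κ - D.Φ c + g • ptCls hdim σ := by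
  haveI := D.proper; haveI := D.comm
  obtain ⟨κ, hκ⟩ := D.exists_point (u := (Dict.S' K hdim).K) (n := 2 * g - 2) (by
    rw [(Dict.S' K hdim).deg_K, show ((Dict.S' K hdim).g : ℤ) = g from congrArg Nat.cast hg]
    omega)
  refine ⟨D.Φ κ, fun c => ?_⟩
  have ht1 : Jac.transl J (1 : One K ⟶ J) = 𝟙 J := by
    rw [Jac.transl, MonObj.comp_one, _root_.mul_one]
  have hW := D.kappa_reflect g hg hg1 κ hκ 1
  rw [inv_one, ht1] at hW
  simp only [Over.id_left, Scheme.Hom.id_base, TopCat.coe_id, Set.image_id] at hW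
  have hI : Scheme.IdealSheafData.vanishingIdeal ⟨closure ((Jac.transl J κ).left.base ''
        (((𝟙 J)⁻¹).left.base '' W j (g - 1))), isClosed_closure⟩ =
      Scheme.IdealSheafData.vanishingIdeal ⟨W j (g - 1), D.isClosed_W _⟩ := by
    refine congrArg _ (TopologicalSpace.Closeds.ext ?_)
    show closure _ = _
    rw [hW, (D.isClosed_W _).closure_eq]
    rfl
  obtain ⟨hΘ', e⟩ := D.pc_thetaMinus g κ (hI ▸ hΘ)
  have e' : pc _ hΘ = ev (pc _ hΘ) (reflect J κ) :=
    ((pc_eq_iff hΘ (hI ▸ hΘ)).2 ⟨eqToIso (congrArg ClSub.idealMod hI.symm)⟩).trans e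
  have e'' : ev (-pc _ hΘ) (reflect J κ) = -pc _ hΘ := by
    show pullP _ (-_) = _
    rw [map_neg]
    exact congrArg Neg.neg e'.symm
  have hmor : (j * (toUnit _ ≫ c)) ≫ reflect J κ = j ≫ reflect J (κ * c⁻¹) := by
    rw [comp_reflect, comp_reflect, MonObj.comp_mul, GrpObj.comp_inv, mul_inv, mul_comm j⁻¹, ← _root_.mul_assoc]
  rw [← e'', H25AbCube.ev_comp, hmor, D.ev_reflect hJ hj g hg hg1 hΘ, D.map_div]

/-- The homomorphism of a module is the point of its Mumford class. -/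
theorem exists_theta_of_isLambda {A At : Over (Spec (CommRingCat.of k))} [GrpObj A] {φ : AgPol.DualMap A At}
    {L : A.left.Modules} (hL : PicF.IsInvertible L) {Λ : (PicF.XT A.hom A).Modules} (hΛ : PicF.IsInvertible Λ)
    (hΛL : AgPol.IsLambdaSheaf (μ[A].left : PicF.XT A.hom A ⟶ A.left) (fst A A).left (snd A A).left L Λ) :
    ∃ l : PC A.left, φ A (PicF.cl Λ) = H25Dual.Φ φ A (theta l) := by
  refine ⟨pc L hL, ?_⟩
  have h1 := H11Ample.isInvertible_pullback (fst A A).left hL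
  have h2 := H11Ample.isInvertible_pullback (snd A A).left hL
  have h3 := H11Ample.isInvertible_pullback (μ[A].left : (A ⊗ A).left ⟶ A.left) hL
  have h := (pc_eq_iff (H11Ample.isInvertible_tensor (H11Ample.isInvertible_tensor hΛ h1) h2) h3).2 hΛL
  rw [pc_tensor (H11Ample.isInvertible_tensor hΛ h1) h2, pc_tensor hΛ h1, pullP_pc _ _ hL, pullP_pc _ _ hL,
    pullP_pc _ _ hL] at h
  have hμ : fst A A * snd A A = μ[A] := (congrArg (· ≫ μ[A]) lift_fst_snd).trans (Category.id_comp _)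
  have e : (pc (X := (A ⊗ A).left) Λ hΛ) = theta (pc L hL) := by
    rw [theta, hμ, eq_sub_iff_add_eq, eq_sub_iff_add_eq]
    refine Eq.trans ?_ h
    exact add_right_comm _ _ _
  rw [← e]
  exact (Φ_pc A Λ hΛ).symm

set_option maxHeartbeats 6400000 in
/-- The polarisation followed by the dual Abel map is the inversion on geometric points. -/
theorem comp_lam_fd_eq_inv (hdim : topologicalKrullDim C = 1) (g : ℕ) (hg : Curv2.genus k C = g) (hg1 : 1 ≤ g)
    (σ : Pts k C) (hJ : Jac.IsJacobian (C ↘ Spec (CommRingCat.of k)) ⊤ J ψ)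
    (hj : Jac.IsAbelJacobiAt (C ↘ Spec (CommRingCat.of k)) σ.1 ψ j)
    (Pu : (PicF.XT (C ↘ Spec (CommRingCat.of k)) J).Modules)
    (hok : (ModFun.PicDeg (C ↘ Spec (CommRingCat.of k)) 0).ok J Pu)
    (hT : (⊤ : ObjectProperty (Over (Spec (CommRingCat.of k)))) J) (hψ : ψ.app J Pu hT hok = 𝟙 J)
    (N : C.Modules) (hN : PicF.IsInvertible N) (hNdeg : Curv2.deg k C N 1 = (g : ℤ) - 1)
    (ΘJ : J.left.Modules) (hΘJ : Jac.IsThetaLB (C ↘ Spec (CommRingCat.of k)) 0 ψ N ΘJ)
    (hφ : AbDual.IsDualAV Scheme.fppfPrecoverage J Jt φ)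
    (P : (PicF.XT J.hom Jt).Modules) (hP : PicF.IsInvertible P) (hPP : AbDual.IsPoincareCl J Jt φ (PicF.cl P))
    (lam : J ⟶ Jt) (hlam : AgPol.IsLambda J Jt φ ΘJ lam)
    (fd : Jt ⟶ J)
    (hfd : PicF.cl ((Scheme.Modules.pullback (PicF.XTmap (C ↘ Spec (CommRingCat.of k)) fd)).obj Pu) =
      PicF.cl ((Scheme.Modules.pullback (AbDual.bcMap j Jt)).obj P))
    {K : Type u} [Field K] [IsAlgClosed K] (s : Spec (CommRingCat.of K) ⟶ Spec (CommRingCat.of k))
    (x : Over.mk s ⟶ J) : x ≫ lam ≫ fd = x⁻¹ := by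
  classical
  let f := C ↘ Spec (CommRingCat.of k)
  obtain ⟨hX, hrel⟩ := H25Jac.isSmoothProperCurve_of_connected f hdim
  haveI := hrel
  obtain ⟨hJp, -, hJi⟩ := jac_facts hdim σ hJ
  haveI := hJp; haveI := hJi
  obtain ⟨ψK, hJK, hjK, D, hD⟩ := exists_bcDict s hdim σ hJ hj
  haveI := D.comm
  obtain ⟨t, hset, hcl, -⟩ := exists_thetaLocus_range hdim σ g hg1 hJ hj Pu hok hT hψ N hN hNdeg
  have hIeq : Scheme.IdealSheafData.vanishingIdeal ⟨Jac.thetaLocus f 0 ψ N, isClosed_closure⟩ =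
      Scheme.IdealSheafData.vanishingIdeal ⟨Set.range (sumMap j (g - 1) ≫ Jac.transl J t).left, hcl⟩ :=
    congrArg _ (TopologicalSpace.Closeds.ext hset)
  have hI := H29CurveDual.isInvertible_of_isInverseOf hΘJ.1 hΘJ.2
  have hV : PicF.IsInvertible (ClSub.idealMod
      (Scheme.IdealSheafData.vanishingIdeal ⟨Set.range (sumMap j (g - 1) ≫ Jac.transl J t).left, hcl⟩)) := hIeq ▸ hI
  obtain ⟨hΘ, heV⟩ := exists_bc_class s hdim j (g - 1) t hcl hV (D.isClosed_W _)
  obtain ⟨κ, hκ⟩ := D.ev_translate hJK hjK g ((genus_ck s).trans hg) hg1 hΘ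
  let l : PC J.left := pc ΘJ hΘJ.1
  let a : One K ⟶ Red.bc s J := pj s (toUnit _ ≫ t)
  let lK : PC (Red.bc s J).left := pullP (pullback.fst J.hom s) l
  have hlK : lK = ev (-pc _ hΘ) (Jac.transl (Red.bc s J) a⁻¹) := by
    show pullP (pullback.fst J.hom s) (pc ΘJ hΘJ.1) = _
    rw [pc_inverse hΘJ.1 hI hΘJ.2, (pc_eq_iff hI hV).2 ⟨eqToIso (congrArg ClSub.idealMod hIeq)⟩, map_neg]
    refine (congrArg Neg.neg heV).trans ?_
    exact (map_neg (pullP _) _).symm
  -- the classifying class of the polarisation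
  have hlamΦ : lam = H25Dual.Φ φ J (theta l) := by
    obtain ⟨Λ, hΛ, hΛL, rfl⟩ := hlam
    have h1 := H11Ample.isInvertible_pullback (fst J J).left hΘJ.1
    have h2 := H11Ample.isInvertible_pullback (snd J J).left hΘJ.1
    have h3 := H11Ample.isInvertible_pullback (μ[J].left : (J ⊗ J).left ⟶ J.left) hΘJ.1
    have h := (pc_eq_iff (H11Ample.isInvertible_tensor (H11Ample.isInvertible_tensor hΛ h1) h2) h3).2 hΛL
    rw [pc_tensor (H11Ample.isInvertible_tensor hΛ h1) h2, pc_tensor hΛ h1, pullP_pc _ _ hΘJ.1, pullP_pc _ _ hΘJ.1,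
      pullP_pc _ _ hΘJ.1] at h
    have hμ : fst J J * snd J J = μ[J] := (congrArg (· ≫ μ[J]) lift_fst_snd).trans (Category.id_comp _)
    have e : (pc (X := (J ⊗ J).left) Λ hΛ) = theta l := by
      rw [theta, hμ, eq_sub_iff_add_eq, eq_sub_iff_add_eq]
      refine Eq.trans ?_ h
      exact add_right_comm _ _ _
    rw [← e]
    exact (Φ_pc J Λ hΛ).symm
  let T : Over (Spec (CommRingCat.of k)) := Over.mk s
  haveI : Subsingleton T.left := inferInstanceAs (Subsingleton (PrimeSpectrum K))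
  haveI : Nonempty T.left := inferInstanceAs (Nonempty (PrimeSpectrum K))
  let y : T ⟶ Jt := x ≫ lam
  let u : PC (J ⊗ T).left := th l (fst J T) (snd J T ≫ x)
  obtain ⟨hu1, hu2⟩ := H25Poinc.comp_lam_field hφ l x
  let p : PC (J ⊗ Jt).left := pc (X := (J ⊗ Jt).left) P hP
  let v : PC (J ⊗ T).left := ev p (J ◁ y)
  have hp : PZ J Jt p := pz_pc hP hPP.1
  have hΦp : H25Dual.Φ φ Jt p = 𝟙 Jt := (Φ_pc Jt P hP).trans hPP.2.1
  have hprig : ev p (lift (1 : Jt ⟶ J) (𝟙 Jt)) = 0 := by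
    obtain ⟨e⟩ := H12Pic.Sep.iso_of_cl_eq (L' := Coh.structureModule Jt.left)
      (L := (Scheme.Modules.pullback (PicF.secT J.hom η[J].left (Over.w η[J]) Jt)).obj P) hPP.2.2
    show pullP _ (pc _ hP) = 0
    rw [← pullP_pc _ P hP (H11Ample.isInvertible_pullback _ hP), ← pc_one, pc_eq_iff]
    exact ⟨((Scheme.Modules.pullbackCongr (H25Dual.secT_eq Jt)).app P).symm ≪≫ e⟩
  have huv : u = v := by
    refine rig_eq hφ hu2 (pz_ev_left y hp) ?_ ?_ ?_
    · show ev (th l (fst J T) (snd J T ≫ x)) _ = 0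
      rw [H25AbCube.ev_th, lift_fst, lift_snd_assoc, Category.id_comp]
      show ev l (1 * x) - ev l 1 - ev l x = 0
      rw [_root_.one_mul, show ev l (1 : T ⟶ J) = 0 by
        rw [← MonObj.comp_one (f := toUnit T)]; exact H25AbCube.ev_toUnit _ _]
      abel
    · show ev (ev p (J ◁ y)) _ = 0
      rw [H25AbCube.ev_comp, show lift (1 : T ⟶ J) (𝟙 T) ≫ J ◁ y = y ≫ lift (1 : Jt ⟶ J) (𝟙 Jt) by
        apply CartesianMonoidalCategory.hom_ext <;> simp [MonObj.comp_one], ← H25AbCube.ev_comp, hprig]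
      exact map_zero _
    · rw [Φ_nat hφ y hp, hΦp, Category.comp_id]
      show H25Dual.Φ φ T (th l (fst J T) (snd J T ≫ x)) = x ≫ lam
      rw [← hu1, hlamΦ]
  -- pulled back to the curve
  let Cv := Over.mk f
  let z : T ⟶ J := y ≫ fd
  have hokz := H25Jac.ok_pull z hok
  have hzi := ((H25Jac.ok_iff _ _).1 hokz).1
  have hΦz : (D.Φ (pj s z) : PC (CK s C)) = pc (X := CK s C) (pb (PicF.XTmap f z) Pu) hzi :=
    hD z _ hzi trivial hokz ((ψ.natural z Pu hT trivial hok hokz).trans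
      ((congrArg (z ≫ ·) hψ).trans (Category.comp_id z)))
  have hPi := ((H25Jac.ok_iff J Pu).1 hok).1
  have hcls : pullP (PicF.XTmap f fd) (pc Pu hPi) = pullP (AbDual.bcMap j Jt) (pc P hP) := by
    rw [← pullP_pc _ Pu hPi (H11Ample.isInvertible_pullback _ hPi), ← pullP_pc _ P hP (H11Ample.isInvertible_pullback _ hP),
      pc_eq_iff]
    exact H12Pic.Sep.iso_of_cl_eq hfd
  have hL : pc (pb (PicF.XTmap f z) Pu) hzi =
      (show PC (PicF.XT f T) from ev v (j ▷ T)) := by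
    rw [pullP_pc _ Pu hPi hzi, H17.PullCl.XTmap_comp, ← pullP_pullP, hcls, pullP_pullP]
    show pullP _ (pc P hP) = pullP (j ▷ T).left (pullP (J ◁ y).left (pc P hP))
    rw [pullP_pullP]
    refine congrArg (fun m => pullP m (pc P hP)) ?_
    show PicF.XTmap f y ≫ AbDual.bcMap j Jt = (j ▷ T).left ≫ (J ◁ y).left
    apply pullback.hom_ext
    · rw [Category.assoc, show AbDual.bcMap j Jt ≫ pullback.fst J.hom Jt.hom = pullback.fst f Jt.hom ≫ j.left from
        pullback.lift_fst _ _ _, ← Category.assoc]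
      erw [H17.PullCl.XTmap_fst]
      exact ((congrArg CommaMorphism.left (show (j ▷ T ≫ J ◁ y) ≫ fst J Jt = fst Cv T ≫ j by simp; rfl))).symm
    · rw [Category.assoc, show AbDual.bcMap j Jt ≫ pullback.snd J.hom Jt.hom = pullback.snd f Jt.hom ≫ 𝟙 _ from
        pullback.lift_snd _ _ _, Category.comp_id]
      erw [H17.PullCl.XTmap_snd]
      exact ((congrArg CommaMorphism.left (show (j ▷ T ≫ J ◁ y) ≫ snd J Jt = snd Cv T ≫ y by simp; rfl))).symm
  let fK := CK s C ↘ Spec (CommRingCat.of K)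
  let e : down s (Over.mk fK) ⟶ Cv ⊗ T := Over.homMk (𝟙 _) (by
    first
      | exact (Category.id_comp _).trans pullback.condition
      | exact Category.id_comp _)
  have hev : ∀ (m : Cv ⊗ T ⟶ J) (mK : Over.mk fK ⟶ Red.bc s J), prj s mK = e ≫ m →
      ev lK mK = (show PC (CK s C) from ev l m) := fun m mK h => by
    show pullP mK.left (pullP (pullback.fst J.hom s) l) = pullP m.left l
    rw [pullP_pullP]
    exact congrArg (fun F => pullP F l) ((congrArg CommaMorphism.left h).trans (Category.id_comp _))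
  have h1 : prj s (jK s j) = e ≫ fst Cv T ≫ j := by
    have h := prj_jK s j (𝟙 (Over.mk fK))
    rw [Category.id_comp] at h
    rw [h, ← Category.assoc]
    exact congrArg (· ≫ j) (Over.OverMorphism.ext rfl)
  have h2 : prj s (toUnit _ ≫ pj s x : Over.mk fK ⟶ Red.bc s J) = e ≫ snd Cv T ≫ x := by
    rw [H25Jac.prj_comp, prj_pj, ← Category.assoc, ← Category.assoc]
    refine congrArg (· ≫ x) (Over.OverMorphism.ext ?_)
    exact (Category.comp_id _).trans (Category.id_comp _).symm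
  have h3 : prj s (jK s j * (toUnit _ ≫ pj s x)) = e ≫ (fst Cv T ≫ j * snd Cv T ≫ x) := by
    rw [H25Jac.prj_mul, h1, h2, MonObj.comp_mul]
  have hval : D.Φ (pj s z) = ev lK (jK s j * (toUnit _ ≫ pj s x)) - ev lK (jK s j) := by
    refine hΦz.trans ?_
    rw [hev _ _ h3, hev _ _ h1]
    refine hL.trans ?_
    show ev v (j ▷ T) = ev l (fst Cv T ≫ j * snd Cv T ≫ x) - ev l (fst Cv T ≫ j)
    rw [← huv]
    show ev (th l (fst J T) (snd J T ≫ x)) (j ▷ T) = _
    rw [H25AbCube.ev_th, whiskerRight_fst, whiskerRight_snd_assoc]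
    show ev l _ - ev l _ - ev l (snd Cv T ≫ x) = _
    rw [show ev l (snd Cv T ≫ x) = 0 by
      rw [← H25AbCube.ev_comp, show ev l x = 0 from H25AbCube.eq_zero_of_subsingleton _]
      exact map_zero _, sub_zero]
  have htr : ∀ (m : Over.mk fK ⟶ Red.bc s J), m ≫ Jac.transl (Red.bc s J) a⁻¹ = m * (toUnit _ ≫ a⁻¹) := fun m => by
    rw [Jac.transl, MonObj.comp_mul, Category.comp_id, ← Category.assoc, toUnit_unique (m ≫ toUnit _) (toUnit _)]
  have hfin : D.Φ (pj s z) = D.Φ (pj s x⁻¹) := by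
    rw [hval, hlK, H25AbCube.ev_comp, H25AbCube.ev_comp, htr, htr, _root_.mul_assoc, ← MonObj.comp_mul, hκ, hκ,
      pj_inv]
    simp only [D.map_mul, D.map_inv]
    abel
  have := pj_injective s (D.injective hfin)
  rw [← Category.assoc]
  exact this

set_option maxHeartbeats 3200000 in
/-- The dual Abel map is inverse to minus the polarisation. -/
theorem lam_fd_eq_inv (hdim : topologicalKrullDim C = 1) (g : ℕ) (hg : Curv2.genus k C = g) (hg1 : 1 ≤ g)
    (σ : Pts k C) (hJ : Jac.IsJacobian (C ↘ Spec (CommRingCat.of k)) ⊤ J ψ)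
    (hj : Jac.IsAbelJacobiAt (C ↘ Spec (CommRingCat.of k)) σ.1 ψ j)
    (Pu : (PicF.XT (C ↘ Spec (CommRingCat.of k)) J).Modules)
    (hok : (ModFun.PicDeg (C ↘ Spec (CommRingCat.of k)) 0).ok J Pu)
    (hT : (⊤ : ObjectProperty (Over (Spec (CommRingCat.of k)))) J) (hψ : ψ.app J Pu hT hok = 𝟙 J)
    (N : C.Modules) (hN : PicF.IsInvertible N) (hNdeg : Curv2.deg k C N 1 = (g : ℤ) - 1)
    (ΘJ : J.left.Modules) (hΘJ : Jac.IsThetaLB (C ↘ Spec (CommRingCat.of k)) 0 ψ N ΘJ)
    (hφ : AbDual.IsDualAV Scheme.fppfPrecoverage J Jt φ)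
    (P : (PicF.XT J.hom Jt).Modules) (hP : PicF.IsInvertible P) (hPP : AbDual.IsPoincareCl J Jt φ (PicF.cl P))
    (lam : J ⟶ Jt) (hlam : AgPol.IsLambda J Jt φ ΘJ lam)
    (fd : Jt ⟶ J) [IsMonHom fd]
    (hfd : PicF.cl ((Scheme.Modules.pullback (PicF.XTmap (C ↘ Spec (CommRingCat.of k)) fd)).obj Pu) =
      PicF.cl ((Scheme.Modules.pullback (AbDual.bcMap j Jt)).obj P)) :
    lam ≫ fd = (𝟙 J)⁻¹ ∧ fd ≫ lam = (𝟙 Jt)⁻¹ := by
  classical
  obtain ⟨hJp, hJs, hJi⟩ := jac_facts hdim σ hJ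
  haveI := hJp; haveI := hJs; haveI := hJi
  let Ω := AlgebraicClosure k
  let s : Spec (CommRingCat.of Ω) ⟶ Spec (CommRingCat.of k) := Spec.map (CommRingCat.ofHom (algebraMap k Ω))
  haveI : Flat s := (HasRingHomProperty.Spec_iff (P := @Flat)).2 (RingHom.flat_algebraMap_iff.2 inferInstance)
  haveI : Surjective s := ⟨fun p => ⟨IsLocalRing.closedPoint Ω, Subsingleton.elim (α := PrimeSpectrum k) _ _⟩⟩
  let F := Over.pullback s
  let JK := Red.bc s J
  haveI : IsProper JK.hom := MorphismProperty.pullback_snd (P := @IsProper) _ s inferInstance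
  haveI : Smooth JK.hom := MorphismProperty.pullback_snd (P := @Smooth) _ s inferInstance
  haveI : GeometricallyIntegral JK.hom := MorphismProperty.pullback_snd (P := @GeometricallyIntegral) _ s inferInstance
  haveI : IsReduced JK.left := H13AlgSp.isReduced_of_smooth_mor JK.hom
  -- descent of equalities
  have hdesc : ∀ {A B : Over (Spec (CommRingCat.of k))} (F₁ F₂ : A ⟶ B), F.map F₁ = F.map F₂ → F₁ = F₂ := by
    intro A B F₁ F₂ h
    haveI : Flat (pullback.fst A.hom s) := MorphismProperty.pullback_fst (P := @Flat) _ _ inferInstance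
    haveI : Surjective (pullback.fst A.hom s) := MorphismProperty.pullback_fst (P := @Surjective) _ _ inferInstance
    haveI := Flat.epi_of_flat_of_surjective (pullback.fst A.hom s)
    refine Over.OverMorphism.ext ((cancel_epi (pullback.fst A.hom s)).1 ?_)
    rw [← H25Jac.map_fst s F₁, ← H25Jac.map_fst s F₂, h]
  have key := comp_lam_fd_eq_inv hdim g hg hg1 σ hJ hj Pu hok hT hψ N hN hNdeg ΘJ hΘJ hφ P hP hPP lam hlam fd hfd s
  have h1 : lam ≫ fd = (𝟙 J)⁻¹ := by
    refine hdesc _ _ (hom_ext_of_pts (A := JK) (B := JK) fun w => H25Jac.prj_injective s ?_)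
    obtain ⟨x, rfl⟩ := exists_pj s w
    rw [H25Jac.prj_map, H25Jac.prj_map, prj_pj, Category.assoc, Category.assoc, key x]
    simp only [GrpObj.comp_inv, Category.comp_id]
  refine ⟨h1, ?_⟩
  let JtK := Red.bc s Jt
  have hφK := H25Dual.BaseChange.isDualAV_bc s hφ
  haveI : IsCommMonObj JK := H19Grp.isCommMonObj_of_proper
  obtain ⟨hp, hi, d, hd1, hd2⟩ := H25DualAV.isProper_geometricallyIntegral (A := JK) (At := JtK) hφK
  haveI := hp; haveI := hi
  let r : JtK ⟶ JK := F.map (fd ≫ (𝟙 J)⁻¹)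
  have hr : F.map lam ≫ r = 𝟙 JK := by
    rw [← F.map_comp, ← Category.assoc, h1, GrpObj.comp_inv, Category.comp_id, _root_.inv_inv]
    exact F.map_id J
  haveI : IsSeparated r.left := by
    haveI : IsSeparated (r.left ≫ JK.hom) := by rw [Over.w r]; infer_instance
    exact IsSeparated.of_comp r.left JK.hom
  haveI : IsClosedImmersion (F.map lam).left := by
    haveI : IsClosedImmersion ((F.map lam).left ≫ r.left) := by
      rw [← Over.comp_left, hr]; infer_instance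
    exact IsClosedImmersion.of_comp (F.map lam).left r.left
  haveI : IsIso (F.map lam) := H25AbCube.isIso_of_dim_eq (M := JK) (N := JtK) (F.map lam) hd1 hd2
  have hinv : (𝟙 J)⁻¹ ≫ lam = lam⁻¹ := by
    obtain ⟨l, hl⟩ : ∃ l : PC J.left, lam = H25Dual.Φ φ J (theta l) := by
      obtain ⟨Λ, hΛ, hΛL, rfl⟩ := hlam
      exact exists_theta_of_isLambda (φ := φ) hΘJ.1 hΛ hΛL
    obtain ⟨a1, a2⟩ := H25Poinc.comp_lam_field hφ l (𝟙 J)
    obtain ⟨b1, b2⟩ := H25Poinc.comp_lam_field hφ l ((𝟙 J)⁻¹)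
    rw [← hl, Category.id_comp] at a1
    rw [← hl] at b1
    rw [eq_comm, inv_eq_iff_mul_eq_one, b1]
    nth_rw 1 [a1]
    rw [← H25Dual.Φ_add hφ a2 b2, ← H25AbCube.th_mul_right, ← MonObj.comp_mul, mul_inv_cancel, MonObj.comp_one,
      H25AbCube.th_one_right, H25Dual.Φ_zero hφ]
  refine hdesc _ _ ((cancel_epi (F.map lam)).1 ?_)
  rw [← F.map_comp, ← F.map_comp, ← Category.assoc, h1, hinv]
  refine congrArg F.map ?_
  rw [GrpObj.comp_inv, Category.comp_id]

end Groth.Agent.H25Torelli
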