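import Groth.Agent.H06Desc.SchDominant
import Groth.Agent.H13AlgSp.EtaleLocally
import Groth.Agent.H17.Reduced
import Groth.Prelude.Def_BlowUp2

/-!
# Radical ideal sheaves: smooth pullback, flat descent and products of prime divisors
-/

set_option autoImplicit false
set_option linter.style.haveILetI false
set_option backward.isDefEq.respectTransparency false

noncomputable section

universe u

open CategoryTheory CategoryTheory.Limits AlgebraicGeometry TopologicalSpace

namespace Groth.Agent.H25Torelli

/-- Smooth pullback of the ideal of a reduced closed subscheme. -/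
theorem comap_vanishingIdeal_of_smooth {X Y : Scheme.{u}} (g : X ⟶ Y) [Smooth g] (T : Closeds Y) :
    (Scheme.IdealSheafData.vanishingIdeal T).comap g =
      Scheme.IdealSheafData.vanishingIdeal (T.preimage g.continuous) := by
  let J := Scheme.IdealSheafData.vanishingIdeal T
  haveI := H17.isReduced_vanishingIdeal_subscheme T
  haveI : IsReduced (pullback g J.subschemeι) := by
    haveI : Smooth (pullback.snd g J.subschemeι) := MorphismProperty.pullback_snd _ _ inferInstance
    exact H13AlgSp.isReduced_of_smooth_mor (pullback.snd g J.subschemeι)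
  haveI : IsReduced (J.comap g).subscheme := isReduced_of_isOpenImmersion (J.comapIso g).hom
  have h1 : (J.comap g).support = T.preimage g.continuous := by
    rw [Scheme.IdealSheafData.support_comap]
    congr 1
  have h2 : (J.comap g).radical = J.comap g :=
    Scheme.IdealSheafData.ext (funext fun U => ((H17.isReduced_subscheme_iff _).mp ‹_› U).radical)
  rw [← h1, Scheme.IdealSheafData.vanishingIdeal_support, h2]

/-- An ideal sheaf is radical if its pullback along a faithfully flat morphism is. -/
theorem eq_vanishingIdeal_of_comap {X Y : Scheme.{u}} (g : X ⟶ Y) [Flat g] [Surjective g] (I : Y.IdealSheafData)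
    (h : I.comap g = Scheme.IdealSheafData.vanishingIdeal (I.comap g).support) :
    I = Scheme.IdealSheafData.vanishingIdeal I.support := by
  refine H06Desc.comap_injective_of_flat_surjective g (le_antisymm
    (Scheme.IdealSheafData.comap_mono g (Scheme.IdealSheafData.le_support_iff_le_vanishingIdeal.1 le_rfl)) ?_)
  show _ ≤ I.comap g
  rw [h]
  refine Scheme.IdealSheafData.le_support_iff_le_vanishingIdeal.1 ?_
  rw [Scheme.IdealSheafData.support_comap, Scheme.IdealSheafData.support_comap]
  intro x hx
  show g x ∈ ((Scheme.IdealSheafData.vanishingIdeal I.support).support : Set Y)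
  rw [Scheme.IdealSheafData.coe_support_vanishingIdeal]
  exact hx

/-- A product of effective Cartier ideals of integral closed subschemes without inclusions is radical. -/
theorem prod_eq_vanishingIdeal {X : Scheme.{u}} {ι : Type*} (s : Finset ι) (Z : ι → Scheme.{u})
    (c : ∀ i, Z i ⟶ X) [∀ i, IsClosedImmersion (c i)] [∀ i, IsIntegral (Z i)]
    (hI : ∀ i ∈ s, BlowUp.IsEffCartierIdeal (c i).ker)
    (hne : ∀ i ∈ s, ∀ j ∈ s, i ≠ j → ∃ z, c i z ∉ ((c j).ker.support : Set X)) :
    ∏ i ∈ s, (c i).ker = Scheme.IdealSheafData.vanishingIdeal (∏ i ∈ s, (c i).ker).support := by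
  classical
  rw [Scheme.IdealSheafData.vanishingIdeal_support]
  induction s using Finset.induction_on with
  | empty => rw [Finset.prod_empty, Scheme.IdealSheafData.one_eq_top, Scheme.IdealSheafData.radical_top]
  | insert a s ha ih =>
    specialize ih (fun i hi => hI i (Finset.mem_insert_of_mem hi))
      (fun i hi j hj => hne i (Finset.mem_insert_of_mem hi) j (Finset.mem_insert_of_mem hj))
    rw [Finset.prod_insert ha]
    refine le_antisymm (Scheme.IdealSheafData.le_radical _) ?_
    rw [Scheme.IdealSheafData.radical_mul, ← ih]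
    have hrad : ∀ i, ((c i).ker.radical) = (c i).ker := fun i =>
      le_antisymm (fun U x ⟨n, hn⟩ => by
        rw [Scheme.Hom.ker_apply] at hn ⊢
        rw [RingHom.mem_ker] at hn ⊢
        rw [map_pow] at hn
        exact _root_.IsReduced.eq_zero _ ⟨n, hn⟩) (Scheme.IdealSheafData.le_radical _)
    rw [hrad a]
    choose U hxU f hf hU using hI a (Finset.mem_insert_self a s)
    refine Scheme.IdealSheafData.le_of_iSup_eq_top U (eq_top_iff.2 fun x _ => Opens.mem_iSup.2 ⟨x, hxU x⟩) fun x => ?_
    simp only [Scheme.IdealSheafData.ideal_inf, Scheme.IdealSheafData.ideal_mul, Pi.inf_apply, Pi.mul_apply]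
    rintro y ⟨hy1, hy2⟩
    rw [hU x] at hy1 ⊢
    obtain ⟨z, rfl⟩ := Ideal.mem_span_singleton'.1 hy1
    rw [mul_comm z]
    refine Ideal.mul_mem_mul (Ideal.mem_span_singleton_self _) ?_
    -- membership in the ideal of a product is membership in each factor
    have hmem : ∀ (t : Finset ι) (w : Γ(X, (U x).1)),
        w ∈ (∏ i ∈ t, (c i).ker).radical.ideal (U x) ↔ ∀ i ∈ t, w ∈ (c i).ker.ideal (U x) := by
      intro t
      induction t using Finset.induction_on with
      | empty =>
        intro w
        rw [Finset.prod_empty, Scheme.IdealSheafData.one_eq_top, Scheme.IdealSheafData.radical_top,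
          Scheme.IdealSheafData.ideal_top]
        simp
      | insert b t hb iht =>
        intro w
        rw [Finset.prod_insert hb, Scheme.IdealSheafData.radical_mul, hrad, Scheme.IdealSheafData.ideal_inf,
          Pi.inf_apply, Ideal.mem_inf, iht, Finset.forall_mem_insert]
    rw [ih, hmem]
    intro i hi
    have hfi : (c i).app (U x) z * (c i).app (U x) (f x) = 0 := by
      rw [← map_mul]
      have := (hmem s (z * f x)).1 (by rw [← ih]; exact hy2) i hi
      rwa [Scheme.Hom.ker_apply, RingHom.mem_ker] at this
    rw [Scheme.Hom.ker_apply, RingHom.mem_ker]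
    by_cases hV : Nonempty ((c i) ⁻¹ᵁ (U x).1 : (Z i).Opens)
    · haveI : IsDomain Γ(Z i, (c i) ⁻¹ᵁ (U x).1) := IsIntegral.component_integral _
      refine (mul_eq_zero.1 hfi).resolve_right fun hfz => ?_
      obtain ⟨z₀, hz₀⟩ := hne i (Finset.mem_insert_of_mem hi) a (Finset.mem_insert_self a s) (fun h => ha (h ▸ hi))
      apply hz₀
      have hξ : genericPoint (Z i) ∈ (c i) ⁻¹ᵁ (U x).1 := by
        obtain ⟨⟨w, hw⟩⟩ := hV
        exact (genericPoint_specializes w).mem_open ((c i) ⁻¹ᵁ (U x).1).2 hw
      have hgen : c i (genericPoint (Z i)) ∈ ((c a).ker.support : Set X) := by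
        rw [SetLike.mem_coe, Scheme.IdealSheafData.mem_support_iff_of_mem hξ, hU x, Scheme.zeroLocus_span,
          Scheme.zeroLocus_singleton, Set.mem_compl_iff]
        intro hb
        have h0 : genericPoint (Z i) ∈ (c i) ⁻¹ᵁ X.basicOpen (f x) := hb
        rw [Scheme.preimage_basicOpen, hfz, Scheme.basicOpen_zero] at h0
        exact h0
      exact (((genericPoint_specializes z₀).map (c i).continuous)).mem_closed (c a).ker.support.isClosed hgen
    · have he : (c i) ⁻¹ᵁ (U x).1 = ⊥ := eq_bot_iff.2 fun w hw => (hV ⟨⟨w, hw⟩⟩).elim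
      haveI : Subsingleton Γ(Z i, (c i) ⁻¹ᵁ (U x).1) := by
        rw [he]
        infer_instance
      exact Subsingleton.elim _ _

end Groth.Agent.H25Torelli
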