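import Mathlib.Algebra.BigOperators.Group.Multiset.Basic
import Mathlib.Algebra.Group.Int.Defs
import Mathlib.Algebra.Ring.Int.Defs
import Mathlib.Tactic

/-!
# Combinatorics of divisor classes on a curve
-/

set_option autoImplicit false
universe u v

namespace Groth.Agent.H25Torelli

/-- A group of classes with degree, number of sections and points, subject to Riemann-Roch. -/
structure Sys (P : Type u) [AddCommGroup P] (ι : Type v) where
  deg : P →+ ℤ
  h : P → ℕ
  pt : ι → P
  K : P
  g : ℕ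
  deg_pt : ∀ p, deg (pt p) = 1
  deg_K : deg K = 2 * (g : ℤ) - 2
  rr : ∀ D, (h D : ℤ) - h (K - D) = deg D + 1 - g
  h_sum : ∀ s : Multiset ι, 1 ≤ h (s.map pt).sum
  exists_eff : ∀ D, 1 ≤ h D → ∃ s : Multiset ι, (s.map pt).sum = D
  h_sub : ∀ D p, h (D - pt p) ≤ h D ∧ h D ≤ h (D - pt p) + 1
  drop : ∀ D, 1 ≤ h D → ∃ p, h (D - pt p) + 1 = h D
  h_zero : h 0 = 1
  uniq : ∀ (s t : Multiset ι), (s.map pt).sum = (t.map pt).sum → h (s.map pt).sum = 1 → s = t
  nonempty : Nonempty ι

namespace Sys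

variable {P : Type u} [AddCommGroup P] {ι : Type v} (S : Sys P ι)

/-- The class of an effective divisor. -/
def cl (s : Multiset ι) : P := (s.map S.pt).sum

@[simp] theorem cl_zero : S.cl 0 = 0 := rfl

@[simp] theorem cl_cons (p : ι) (s : Multiset ι) : S.cl (p ::ₘ s) = S.pt p + S.cl s := by
  simp [cl]

theorem cl_add (s t : Multiset ι) : S.cl (s + t) = S.cl s + S.cl t := by simp [cl]

theorem cl_replicate (n : ℕ) (p : ι) : S.cl (Multiset.replicate n p) = n • S.pt p := by simp [cl]

theorem deg_cl (s : Multiset ι) : S.deg (S.cl s) = s.card := by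
  induction s using Multiset.induction with
  | empty => simp
  | cons p s ih => rw [cl_cons, map_add, S.deg_pt, ih, Multiset.card_cons]; push_cast; ring

theorem one_le_h_cl (s : Multiset ι) : 1 ≤ S.h (S.cl s) := S.h_sum s

/-- A class has sections iff it is effective. -/
theorem one_le_h_iff {D : P} {n : ℕ} (hn : S.deg D = n) :
    1 ≤ S.h D ↔ ∃ s : Multiset ι, s.card = n ∧ S.cl s = D := by
  refine ⟨fun h => ?_, fun ⟨s, _, hs⟩ => hs ▸ S.one_le_h_cl s⟩
  obtain ⟨s, hs⟩ := S.exists_eff D h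
  refine ⟨s, ?_, hs⟩
  have := S.deg_cl s
  rw [show S.cl s = D from hs, hn] at this
  exact_mod_cast this.symm

theorem h_eq_zero_of_deg_neg {D : P} (hD : S.deg D < 0) : S.h D = 0 := by
  by_contra h
  obtain ⟨s, hs⟩ := S.exists_eff D (Nat.one_le_iff_ne_zero.2 h)
  have := S.deg_cl s
  rw [show S.cl s = D from hs] at this
  omega

theorem h_sub_cl (D : P) (s : Multiset ι) : S.h (D - S.cl s) ≤ S.h D ∧ S.h D ≤ S.h (D - S.cl s) + s.card := by
  induction s using Multiset.induction with
  | empty => simp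
  | cons p s ih =>
    obtain ⟨h1, h2⟩ := S.h_sub (D - S.cl s) p
    rw [cl_cons, Multiset.card_cons, show D - (S.pt p + S.cl s) = D - S.cl s - S.pt p by abel]
    omega

/-- General points cut down sections one at a time. -/
theorem exists_kill : ∀ (r : ℕ) (D : P), S.h D ≤ r → ∃ s : Multiset ι, s.card = r ∧ S.h (D - S.cl s) = 0
  | 0, D, h => ⟨0, rfl, by rw [cl_zero, sub_zero]; omega⟩
  | r + 1, D, h => by
    obtain ⟨p, hp⟩ : ∃ p, S.h (D - S.pt p) ≤ r := by
      rcases Nat.eq_zero_or_pos (S.h D) with h0 | h0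
      · obtain ⟨p⟩ := S.nonempty
        exact ⟨p, by have := (S.h_sub D p).1; omega⟩
      · obtain ⟨p, hp⟩ := S.drop D h0
        exact ⟨p, by omega⟩
    obtain ⟨s, hs, hs0⟩ := exists_kill r _ hp
    exact ⟨p ::ₘ s, by rw [Multiset.card_cons, hs], by
      rw [cl_cons, show D - (S.pt p + S.cl s) = D - S.pt p - S.cl s by abel]; exact hs0⟩

theorem h_symm {D : P} (hD : S.deg D = (S.g : ℤ) - 1) : S.h (S.K - D) = S.h D := by
  have := S.rr D
  omega

/-- A class is effective iff it stays effective after adding any effective divisor of complementary degree. -/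
theorem forall_add_iff {D : P} {r : ℕ} (hD : S.deg D + r = (S.g : ℤ) - 1) :
    (∀ s : Multiset ι, s.card = r → 1 ≤ S.h (D + S.cl s)) ↔ 1 ≤ S.h D := by
  refine ⟨fun h => ?_, fun h s _ => ?_⟩
  · by_contra hc
    have hrr := S.rr D
    obtain ⟨s, hs, hs0⟩ := S.exists_kill r (S.K - D) (by omega)
    have hd : S.deg (D + S.cl s) = (S.g : ℤ) - 1 := by rw [map_add, deg_cl, hs]; omega
    have := h s hs
    rw [← S.h_symm hd, show S.K - (D + S.cl s) = S.K - D - S.cl s by abel] at this
    omega
  · refine h.trans ?_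
    have := (S.h_sub_cl (D + S.cl s) s).1
    rwa [add_sub_cancel_right] at this

/-- Removing a point from an effective divisor of degree the genus. -/
theorem sub_point_iff {s : Multiset ι} (hs : s.card = S.g) (p : ι) :
    1 ≤ S.h (S.cl s - S.pt p) ↔ p ∈ s ∨ 1 ≤ S.h (S.K - S.cl s) := by
  classical
  have hrr := S.rr (S.cl s)
  rw [deg_cl, hs] at hrr
  refine ⟨fun h => ?_, ?_⟩
  · by_cases h1 : S.h (S.cl s) = 1
    · left
      obtain ⟨t, ht⟩ := S.exists_eff _ h
      have e := S.uniq s (p ::ₘ t) (by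
        show S.cl s = S.cl (p ::ₘ t)
        rw [cl_cons, show S.cl t = S.cl s - S.pt p from ht]; abel) h1
      rw [e]
      exact Multiset.mem_cons_self _ _
    · right
      have := S.one_le_h_cl s
      omega
  · rintro (h | h)
    · obtain ⟨t, rfl⟩ := Multiset.exists_cons_of_mem h
      rw [cl_cons, add_sub_cancel_left]
      exact S.one_le_h_cl t
    · have := (S.h_sub (S.cl s) p).2
      omega

/-- A class of degree the genus with a single effective divisor. -/
theorem exists_unique_divisor {D : P} (hD : S.deg D = S.g) {p : ι} (hp : S.h (D - S.pt p) = 0) :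
    ∃ s : Multiset ι, s.card = S.g ∧ S.cl s = D ∧ S.h D = 1 ∧ (∀ t, S.cl t = D → t = s) ∧
      ∀ q, 1 ≤ S.h (D - S.pt q) ↔ q ∈ s := by
  have hrr := S.rr D
  have := (S.h_sub D p).2
  have h1 : S.h D = 1 := by omega
  obtain ⟨s, hs, hsD⟩ := (S.one_le_h_iff hD).1 h1.ge
  refine ⟨s, hs, hsD, h1, fun t ht => S.uniq t s (ht.trans hsD.symm) ((congrArg S.h ht).trans h1), fun q => ?_⟩
  subst hsD
  rw [S.sub_point_iff hs]
  have : S.h (S.K - S.cl s) = 0 := by omega
  simp [this]

end Sys

end Groth.Agent.H25Torelli
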