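import Groth.Agent.H25Torelli.Morphisms

/-!
# Curves in the Jacobian differing by a sign and a translation
-/

set_option autoImplicit false
set_option linter.style.haveILetI false
set_option linter.unusedSectionVars false
set_option maxHeartbeats 1600000
set_option backward.isDefEq.respectTransparency.types false

noncomputable section

universe u

open CategoryTheory CategoryTheory.Limits AlgebraicGeometry TopologicalSpace Opposite MonoidalCategory
  CartesianMonoidalCategory MonObj

namespace Groth.Agent.H25Torelli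

variable {k : Type u} [Field k] [IsAlgClosed k] {C : Scheme.{u}} [C.Over (Spec (CommRingCat.of k))]
  [IsProper (C ↘ Spec (CommRingCat.of k))] [Smooth (C ↘ Spec (CommRingCat.of k))]
  [GeometricallyConnected (C ↘ Spec (CommRingCat.of k))] {hdim : topologicalKrullDim C = 1}

/-- A pencil of degree two. -/
theorem exists_pencil {a b : Pts k C} (h : hCls k (ptCls hdim a + ptCls hdim b) = 2) :
    ∃ L : C.Modules, PicF.IsInvertible L ∧ Curv2.deg k C L 1 = 2 ∧ Module.finrank k (Coh.HH C L 0) = 2 := by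
  obtain ⟨L, hL, hLu⟩ := H25AbCube.exists_rep (ptCls hdim a + ptCls hdim b)
  refine ⟨L, hL, ?_, ?_⟩
  · rw [← degCls_pc L hL, hLu, degCls_add (k := k) hdim, degCls_ptCls, degCls_ptCls]; rfl
  · rw [← hCls_pc L hL, hLu, h]

/-- Constant differences. -/
theorem eq_or_pencil_of_sub (hg : 1 ≤ Curv2.genus k C) (u v : Pts k C → Pts k C) (hu : Function.Injective u)
    (E : H25AbCube.PC C) (hE : ∀ q, ptCls hdim (u q) - ptCls hdim (v q) = E) :
    (∀ q, u q = v q) ∨ ∃ a b : Pts k C, hCls k (ptCls hdim a + ptCls hdim b) = 2 := by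
  classical
  have hg' : 1 ≤ (sys (k := k) hdim).g := hg
  rcases eq_or_ne E 0 with hE0 | hE0
  · exact Or.inl fun q => (sys (k := k) hdim).pt_injective hg' (sub_eq_zero.1 ((hE q).trans hE0))
  right
  obtain ⟨q₀⟩ := nonempty_pts (k := k) (C := C)
  obtain ⟨q₁, hq₁⟩ := exists_pts_notMem hdim {q₀}
  rw [Finset.mem_singleton] at hq₁
  refine ⟨u q₀, v q₁, (sys (k := k) hdim).pencil_of_pairs hg' (c := u q₁) (d := v q₀) ?_
    (fun h => hq₁ (hu h).symm) fun h => hE0 ?_⟩
  · have := (hE q₀).trans (hE q₁).symm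
    show ptCls hdim (u q₀) + ptCls hdim (v q₁) = ptCls hdim (u q₁) + ptCls hdim (v q₀)
    rw [eq_add_of_sub_eq this]
    abel
  · rw [← hE q₁, h, sub_self]

/-- Constant sums give a pencil. -/
theorem pencil_of_add (hg : 1 ≤ Curv2.genus k C) (u v : Pts k C → Pts k C) (hu : Function.Injective u)
    (E : H25AbCube.PC C) (hE : ∀ q, ptCls hdim (u q) + ptCls hdim (v q) = E) :
    ∃ a b : Pts k C, hCls k (ptCls hdim a + ptCls hdim b) = 2 := by
  classical
  have hg' : 1 ≤ (sys (k := k) hdim).g := hg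
  obtain ⟨q₀⟩ := nonempty_pts (k := k) (C := C)
  obtain ⟨q₁, hq₁⟩ := exists_pts_notMem hdim {q₀}
  obtain ⟨q₂, hq₂⟩ := exists_pts_notMem hdim {q₀, q₁}
  simp only [Finset.mem_singleton, Finset.mem_insert, not_or] at hq₁ hq₂
  refine ⟨u q₀, v q₀, ?_⟩
  by_cases h1 : v q₀ = u q₁
  · exact (sys (k := k) hdim).pencil_of_pairs hg' (c := u q₂) (d := v q₂) ((hE q₀).trans (hE q₂).symm)
      (fun h => hq₂.1 (hu h).symm) fun h => hq₂.2 (hu (h1.symm.trans h)).symm
  · exact (sys (k := k) hdim).pencil_of_pairs hg' (c := u q₁) (d := v q₁) ((hE q₀).trans (hE q₁).symm)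
      (fun h => hq₁ (hu h).symm) h1

end Groth.Agent.H25Torelli
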