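import Groth.Agent.H25Torelli.Radical
import Groth.Agent.H25Torelli.Translates
import Groth.Agent.H25Torelli.Morphisms
import Groth.Agent.H25Jac.AbelSum
import Groth.Agent.H25Torelli.Theta

/-!
# The universal divisor over the locus of non-special classes of degree the genus
-/

set_option autoImplicit false
set_option linter.style.haveILetI false
set_option linter.unusedSectionVars false
set_option maxHeartbeats 1600000
set_option backward.isDefEq.respectTransparency.types false

noncomputable section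

universe u

open CategoryTheory CategoryTheory.Limits AlgebraicGeometry TopologicalSpace Opposite MonoidalCategory
  CartesianMonoidalCategory MonObj
open Groth.Agent.H25AbCube (PC pc pullP exists_rep pullP_pc)

namespace Groth.Agent.H25Torelli

open Groth.Agent.H12Pic Groth.Agent.H12Pic.PicCurve Groth.Agent.H27SymProd
open Groth.Agent.H25Theta (Cls cls pull pullU unitCls pb)
open Groth.Agent.H25Jac (fst₁)

local notation "sec" => Groth.Agent.H12Pic.PicCurve.sec

attribute [local instance] fieldPointOver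

variable {k : Type u} [Field k] [IsAlgClosed k] {C : Scheme.{u}} [C.Over (Spec (CommRingCat.of k))]
  [IsProper (C ↘ Spec (CommRingCat.of k))] [Smooth (C ↘ Spec (CommRingCat.of k))]
  [GeometricallyConnected (C ↘ Spec (CommRingCat.of k))] {hdim : topologicalKrullDim C = 1} {σ : Pts k C}
  {J : Over (Spec (CommRingCat.of k))} [GrpObj J]
  {ψ : (ModFun.PicDeg (C ↘ Spec (CommRingCat.of k)) 0).Hom ⊤ J} {j : Over.mk (C ↘ Spec (CommRingCat.of k)) ⟶ J}

/-- The slice of the family at a rational point. -/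
abbrev slice {T : Over (Spec (CommRingCat.of k))} (v : One k ⟶ T) : C ⟶ PicF.XT (C ↘ Spec (CommRingCat.of k)) T :=
  haveI : IsIso (fst₁ (C ↘ Spec (CommRingCat.of k))) :=
    inferInstanceAs (IsIso (pullback.fst (C ↘ Spec (CommRingCat.of k)) (𝟙 (Spec (CommRingCat.of k)))))
  inv (fst₁ (C ↘ Spec (CommRingCat.of k))) ≫ PicF.XTmap (C ↘ Spec (CommRingCat.of k)) v

theorem slice_proj {T : Over (Spec (CommRingCat.of k))} (v : One k ⟶ T) :
    slice v ≫ pullback.fst (C ↘ Spec (CommRingCat.of k)) T.hom = 𝟙 C := by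
  haveI : IsIso (fst₁ (C ↘ Spec (CommRingCat.of k))) :=
    inferInstanceAs (IsIso (pullback.fst (C ↘ Spec (CommRingCat.of k)) (𝟙 (Spec (CommRingCat.of k)))))
  have h : PicF.XTmap (C ↘ Spec (CommRingCat.of k)) v ≫ pullback.fst (C ↘ Spec (CommRingCat.of k)) T.hom =
      fst₁ (C ↘ Spec (CommRingCat.of k)) := (pullback.lift_fst _ _ _).trans (Category.comp_id _)
  rw [Category.assoc, h, IsIso.inv_hom_id]

theorem XTmap_slice {T T' : Over (Spec (CommRingCat.of k))} (v : One k ⟶ T) (m : T ⟶ T') :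
    slice v ≫ PicF.XTmap (C ↘ Spec (CommRingCat.of k)) m = slice (v ≫ m) := by
  haveI : IsIso (fst₁ (C ↘ Spec (CommRingCat.of k))) :=
    inferInstanceAs (IsIso (pullback.fst (C ↘ Spec (CommRingCat.of k)) (𝟙 (Spec (CommRingCat.of k)))))
  show (inv _ ≫ _) ≫ _ = inv _ ≫ _
  rw [Category.assoc, ← H17.PullCl.XTmap_comp]

/-- Restriction of a radical ideal sheaf along an open immersion. -/
theorem comap_radical_of_openImmersion {X Y : Scheme.{u}} (g : X ⟶ Y) [IsOpenImmersion g] (I : Y.IdealSheafData)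
    (h : I = Scheme.IdealSheafData.vanishingIdeal I.support) :
    I.comap g = Scheme.IdealSheafData.vanishingIdeal (I.comap g).support := by
  rw [Scheme.IdealSheafData.support_comap, ← comap_vanishingIdeal_of_smooth, ← h]

theorem isEffCartierIdeal_comap_openImmersion {X Y : Scheme.{u}} (g : X ⟶ Y) [IsOpenImmersion g] (I : Y.IdealSheafData)
    (h : BlowUp.IsEffCartierIdeal I) : BlowUp.IsEffCartierIdeal (I.comap g) :=
  H29Blow.isEffCartierIdeal_comap_of_flat h g

/-- An ideal on the family over a quotient of the power of the curve pulling back to the sum of the tautological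
points is radical. -/
theorem univ_radical (hdim : topologicalKrullDim C = 1) [SmoothOfRelativeDimension 1 (C ↘ Spec (CommRingCat.of k))]
    (gn : ℕ) {H : Over (Spec (CommRingCat.of k))} (φ : powOver (C ↘ Spec (CommRingCat.of k)) gn ⟶ H)
    [Flat φ.left] [Surjective φ.left] (I₀ : (PicF.XT (C ↘ Spec (CommRingCat.of k)) H).IdealSheafData)
    (hI₀φ : I₀.comap (PicF.XTmap (C ↘ Spec (CommRingCat.of k)) φ) =
      ∏ i, (sec (C ↘ Spec (CommRingCat.of k)) (H25Jac.coord (C ↘ Spec (CommRingCat.of k)) gn i)).ker) :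
    I₀ = Scheme.IdealSheafData.vanishingIdeal I₀.support := by
  classical
  let f := C ↘ Spec (CommRingCat.of k)
  let Pw := powOver f gn
  haveI := (H25Jac.irreducibleSpace_powOver (f := f) gn).1
  haveI : Smooth Pw.hom := (H25Jac.irreducibleSpace_powOver (f := f) gn).2
  haveI : IsProper Pw.hom := isProper_powOver f gn
  haveI : IsReduced (Spec (CommRingCat.of k)) := inferInstance
  haveI : IsReduced Pw.left := H13AlgSp.isReduced_of_smooth_mor Pw.hom
  haveI : IsIntegral Pw.left := isIntegral_of_irreducibleSpace_of_isReduced _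
  haveI : ∀ i, IsClosedImmersion (sec f (H25Jac.coord f gn i)) := fun i => by
    haveI : IsClosedImmersion (sec f (H25Jac.coord f gn i) ≫ PicF.XTproj f Pw) := by
      rw [H12Pic.PicCurve.sec_proj]; infer_instance
    exact IsClosedImmersion.of_comp (sec f (H25Jac.coord f gn i)) (PicF.XTproj f Pw)
  haveI : Flat (PicF.XTmap f φ) :=
    MorphismProperty.of_isPullback (H27SymProd.isPullback_XTmap f φ).flip inferInstance
  haveI : Surjective (PicF.XTmap f φ) :=
    MorphismProperty.of_isPullback (P := @Surjective) (H27SymProd.isPullback_XTmap f φ).flip inferInstance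
  refine eq_vanishingIdeal_of_comap (PicF.XTmap f φ) I₀ ?_
  rw [hI₀φ]
  refine prod_eq_vanishingIdeal Finset.univ (fun _ => Pw.left) (fun i => sec f (H25Jac.coord f gn i))
    (fun i _ => H25Jac.isEffCartier_sec f _) fun i _ l _ hil => ?_
  obtain ⟨p⟩ := nonempty_pts (k := k) (C := C)
  obtain ⟨q, hq⟩ := exists_pts_notMem hdim {p}
  rw [Finset.mem_singleton] at hq
  let w : One k ⟶ Pw := Over.homMk (WidePullback.lift (𝟙 (Spec (CommRingCat.of k)))
    (fun m => (if m = i then q else p).1) (fun m => (if m = i then q else p).2)) (WidePullback.lift_base _ _ _ _)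
  refine ⟨w.left (pt₀ k), ?_⟩
  rw [Scheme.Hom.support_ker, (sec f (H25Jac.coord f gn l)).isClosedEmbedding.isClosed_range.closure_eq]
  rintro ⟨z, hz⟩
  have hzw : z = w.left (pt₀ k) := by
    have e := congrArg (PicF.XTproj f Pw) hz
    rw [← Scheme.Hom.comp_apply, ← Scheme.Hom.comp_apply, H12Pic.PicCurve.sec_proj, H12Pic.PicCurve.sec_proj] at e
    simpa using e
  subst hzw
  have e := congrArg (pullback.fst f Pw.hom) hz
  have e1 : ∀ (m : Fin gn) (x : Pw.left), pullback.fst f Pw.hom (sec f (H25Jac.coord f gn m) x) =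
      (H25Jac.coord f gn m).left x := fun m x => by
    rw [← Scheme.Hom.comp_apply]
    exact congrArg (fun F : Pw.left ⟶ C => F x) (H12Pic.PicCurve.sec_fst f (H25Jac.coord f gn m))
  rw [e1, e1] at e
  have hcomp : ∀ m, w ≫ H25Jac.coord f gn m = (if m = i then q else p).hom := fun m =>
    Over.OverMorphism.ext (WidePullback.lift_π _ _ _ _ m)
  have e' : (w ≫ H25Jac.coord f gn l).left (pt₀ k) = (w ≫ H25Jac.coord f gn i).left (pt₀ k) := e
  rw [hcomp, hcomp, if_neg (Ne.symm hil), if_pos rfl] at e'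
  haveI : LocallyOfFiniteType (Over.mk f).hom := inferInstanceAs (LocallyOfFiniteType f)
  exact hq (Subtype.ext (congrArg CommaMorphism.left (hom_ext_pt e')).symm)

/-- A class of degree the genus is good at the point iff it has exactly one section. -/
theorem isGood_point_iff (hdim : topologicalKrullDim C = 1) [SmoothOfRelativeDimension 1 (C ↘ Spec (CommRingCat.of k))]
    (g : ℕ) (hg : Curv2.genus k C = g) (M : C.Modules) (hM : PicF.IsInvertible M)
    (hd : Curv2.deg k C M 1 = (g : ℤ))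
    (hL : PicF.IsInvertible (pb (fst₁ (C ↘ Spec (CommRingCat.of k))) M)) :
    IsGood (PicF.XTproj (C ↘ Spec (CommRingCat.of k)) (One k)) (pb (fst₁ (C ↘ Spec (CommRingCat.of k))) M) ↔
      hCls k (pc M hM) = 1 := by
  let f := C ↘ Spec (CommRingCat.of k)
  haveI : IsIso (One k).hom := inferInstanceAs (IsIso (𝟙 (Spec (CommRingCat.of k))))
  haveI : Subsingleton ↥(One k).left := inferInstanceAs (Subsingleton (PrimeSpectrum k))
  haveI : IsProper (PicF.XTproj f (One k)) := isProper_XTproj f _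
  have hr : ∀ (p : ℕ) (t : (One k).left), CohIII.fiberRank (PicF.XTproj f (One k)) (pb (fst₁ f) M) p t =
      Module.finrank k (Coh.HH C M p) := by
    intro p t
    have h2 := finrank_HH_point (PicF.XTproj f (One k)) hL (K := k) (Y' := PicF.XT f (One k)) (𝟙 _) (g' := 𝟙 _)
      (show IsPullback (𝟙 (PicF.XT f (One k))) (PicF.XTproj f (One k)) (PicF.XTproj f (One k)) (𝟙 _) from
        IsPullback.of_horiz_isIso ⟨(Category.id_comp _).trans (Category.comp_id _).symm⟩) p
    rw [(H29RR.hhIso (k := k) ((Scheme.Modules.pullbackId _).app _) p).finrank_eq] at h2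
    rw [Subsingleton.elim t ((𝟙 (Spec (CommRingCat.of k)) : _ ⟶ _) (IsLocalRing.closedPoint k))]
    refine h2.symm.trans ?_
    have h1 := finrank_HH_point f hM (K := k) (Y' := C) (𝟙 _) (g' := 𝟙 _)
      (IsPullback.of_horiz_isIso ⟨(Category.id_comp _).trans (Category.comp_id _).symm⟩) p
    rw [(H29RR.hhIso (k := k) ((Scheme.Modules.pullbackId _).app _) p).finrank_eq] at h1
    refine Eq.trans ?_ h1.symm
    exact finrank_HH_point f hM (Y' := PicF.XT f (Over.mk (𝟙 (Spec (CommRingCat.of k))))) (𝟙 _)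
      (g' := pullback.fst f (𝟙 _)) (IsPullback.of_hasPullback f (𝟙 _)) p
  have hRR := H29RR.riemann_roch (k := k) hdim.le M
  haveI := H29DoubleCover.isIntegral_of_smooth_connected f
  haveI := H29DoubleCover.geometricallyIntegral_of_smooth_connected f
  rw [show Module.finrank k (Coh.HH C (Coh.structureModule C) 0) = 1 from H29CurveDual.finrank_h0_structure_smooth,
    hg, hd] at hRR
  rw [hCls_pc]
  refine ⟨fun hG => by have := (hG (pt₀ k)).1; rwa [hr] at this, fun h0 t => ⟨by rw [hr, h0], by rw [hr]; omega⟩⟩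

/-- The slice of the sum of the tautological points at a rational point. -/
theorem comap_slice_prod [SmoothOfRelativeDimension 1 (C ↘ Spec (CommRingCat.of k))] (gn : ℕ)
    (w : One k ⟶ powOver (C ↘ Spec (CommRingCat.of k)) gn) :
    (∏ i, (sec (C ↘ Spec (CommRingCat.of k)) (H25Jac.coord (C ↘ Spec (CommRingCat.of k)) gn i)).ker).comap (slice w) =
      ∏ i, (Pts.of (w ≫ H25Jac.coord (C ↘ Spec (CommRingCat.of k)) gn i)).1.ker := by
  let f := C ↘ Spec (CommRingCat.of k)
  let Pw := powOver f gn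
  haveI : IsProper Pw.hom := isProper_powOver f gn
  haveI : IsIso (One k).hom := inferInstanceAs (IsIso (𝟙 (Spec (CommRingCat.of k))))
  haveI : IsIso (fst₁ f) := inferInstanceAs (IsIso (pullback.fst f (One k).hom))
  haveI : ∀ i, IsClosedImmersion (sec f (H25Jac.coord f gn i)) := fun i => by
    haveI : IsClosedImmersion (sec f (H25Jac.coord f gn i) ≫ PicF.XTproj f Pw) := by
      rw [H12Pic.PicCurve.sec_proj]; infer_instance
    exact IsClosedImmersion.of_comp (sec f (H25Jac.coord f gn i)) (PicF.XTproj f Pw)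
  rw [comap_finsetProd]
  refine Finset.prod_congr rfl fun i _ => ?_
  show Scheme.IdealSheafData.comap _ (inv _ ≫ _) = _
  rw [Scheme.IdealSheafData.comap_comp, H12Pic.PicCurve.comap_ker_lift (H27SymProd.isPullback_XTmap f w) _
    (H12Pic.PicCurve.sec_proj f _) (sec f (w ≫ H25Jac.coord f gn i)) (H12Pic.PicCurve.sec_proj f _) ?_]
  · haveI : IsClosedImmersion (sec f (w ≫ H25Jac.coord f gn i)) := by
      haveI : IsClosedImmersion (sec f (w ≫ H25Jac.coord f gn i) ≫ PicF.XTproj f (One k)) := by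
        rw [H12Pic.PicCurve.sec_proj]; infer_instance
      exact IsClosedImmersion.of_comp _ (PicF.XTproj f (One k))
    rw [H27SymProd.ker_comap_iso, IsIso.inv_inv, H12Pic.PicCurve.sec_fst]
    rfl
  · apply pullback.hom_ext
    · rw [Category.assoc, show PicF.XTmap f w ≫ pullback.fst f Pw.hom = pullback.fst f (One k).hom from
        (pullback.lift_fst _ _ _).trans (Category.comp_id _), H12Pic.PicCurve.sec_fst, Category.assoc, H12Pic.PicCurve.sec_fst]
      rfl
    · rw [Category.assoc, show PicF.XTmap f w ≫ pullback.snd f Pw.hom = pullback.snd f (One k).hom ≫ w.left from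
        pullback.lift_snd _ _ _, ← Category.assoc, show sec f (w ≫ H25Jac.coord f gn i) ≫ pullback.snd f (One k).hom =
          𝟙 _ from H12Pic.PicCurve.sec_proj f _, Category.id_comp, Category.assoc,
        show sec f (H25Jac.coord f gn i) ≫ pullback.snd f Pw.hom = 𝟙 _ from H12Pic.PicCurve.sec_proj f _, Category.comp_id]


/-- The classes at a rational point of the twist by a multiple of the base point. -/
theorem unitCls_twist (hdim : topologicalKrullDim C = 1) [SmoothOfRelativeDimension 1 (C ↘ Spec (CommRingCat.of k))]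
    (σ : Pts k C) (gn : ℕ) {M₀ : C.Modules} (hM₀ : PicF.IsInvertible M₀) {M : C.Modules} (hM : PicF.IsInvertible M)
    (hMu : pc M hM = pc M₀ hM₀ + gn • ptCls hdim σ)
    (hL₀ : PicF.IsInvertible (pb (fst₁ (C ↘ Spec (CommRingCat.of k))) M₀))
    (hL : PicF.IsInvertible (pb (fst₁ (C ↘ Spec (CommRingCat.of k))) M)) :
    unitCls hL = unitCls hL₀ * (H25Jac.rho σ.2 gn (One k))⁻¹ := by
  let f := C ↘ Spec (CommRingCat.of k)
  have hpc : pc _ hL = pc _ hL₀ + gn • pullP (fst₁ f) (ptCls hdim σ) := by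
    rw [pullP_pc _ M₀ hM₀ hL₀, pullP_pc _ M hM hL, hMu, map_add, map_nsmul]
  refine (congrArg (fun u : PC (PicF.XT f (One k)) => (Additive.toMul u).1) hpc).trans ?_
  rw [H25Jac.rho_point, ← inv_pow]
  have hs : H25Jac.secU f (H25Jac.constPt f σ.2 (One k)) =
      pullU (fst₁ f) (unitCls (isInvertible_pt hdim σ)) := by
    rw [show H25Jac.constPt f σ.2 (One k) = σ.hom from Over.OverMorphism.ext (Category.id_comp σ.1)]
    exact (H25Jac.pullU_idU_point σ.hom (isEffCartier_pt σ hdim)).symm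
  rw [hs]
  rfl

set_option maxHeartbeats 6400000 in
/-- The universal divisor over the non-special locus. -/
theorem exists_good (D : Dict hdim σ ψ j) (hJ : Jac.IsJacobian (C ↘ Spec (CommRingCat.of k)) ⊤ J ψ)
    (hj : Jac.IsAbelJacobiAt (C ↘ Spec (CommRingCat.of k)) σ.1 ψ j)
    (g : ℕ) (hg : Curv2.genus k C = g) :
    ∃ (W : Over (Spec (CommRingCat.of k))) (ιW : W ⟶ J)
      (I : (PicF.XT (C ↘ Spec (CommRingCat.of k)) W).IdealSheafData),
      IsOpenImmersion ιW.left ∧ Nonempty W.left ∧ BlowUp.IsEffCartierIdeal I ∧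
      I = Scheme.IdealSheafData.vanishingIdeal I.support ∧
      (∀ z : One k ⟶ J, hCls k (D.Φ z + g • ptCls hdim σ) = 1 → ∃ v, v ≫ ιW = z) ∧
      ∀ v : One k ⟶ W, hCls k (D.Φ (v ≫ ιW) + g • ptCls hdim σ) = 1 ∧
        ∃ w : Fin g → Pts k C, (sys (k := k) hdim).cl (List.ofFn w : Multiset (Pts k C)) =
            D.Φ (v ≫ ιW) + g • ptCls hdim σ ∧
          (List.ofFn fun i => (w i).hom ≫ j).prod = v ≫ ιW ∧
          I.comap (slice v) = ∏ i, (w i).1.ker := by
  classical
  let f := C ↘ Spec (CommRingCat.of k)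
  haveI := D.proper; haveI := D.comm
  obtain ⟨hX, hrel⟩ := H25Jac.isSmoothProperCurve_of_connected f hdim
  haveI := hrel
  haveI := hX.2.2.1
  haveI := H29DoubleCover.isIntegral_of_smooth_connected f
  obtain ⟨J₀, hg₀, hc, hp, hs, hi, ⟨D₀⟩⟩ := H25Jac.exists_jData (σ := σ.1) (hσ := σ.2) hX
  obtain ⟨aj, haj⟩ := D₀.exists_abel
  obtain ⟨χ, h1, h2, hχ⟩ := D₀.iso_of_isJacobian hJ
  haveI := hc; haveI := hp; haveI := hs; haveI := hi; haveI := h1; haveI := h2
  have hjχ : j ≫ χ.hom = aj := by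
    obtain ⟨hT, L, hL, hAJ, rfl⟩ := hj
    rw [hχ]
    exact D₀.psi_ajFamily haj hAJ hL
  obtain ⟨gn, H, φ, ΦH, G, V, h, I₀, hgn, hHs, hHp, hsurj, hfl, -, -, hΦφ, hne, hVH, hVr, hVo, hVΦ, hI₀, hI₀φ, hgood⟩ :=
    H25Jac.exists_birational_divisor hX D₀ haj
  obtain rfl : gn = g := hgn.trans hg
  haveI := hsurj; haveI := hfl; haveI := hVo; haveI := hHp
  let W : Over (Spec (CommRingCat.of k)) := AbDual.ovr J₀ V.ι
  let ιV : W ⟶ J₀ := AbDual.ovrHom J₀ V.ι
  let hh : W ⟶ H := Over.homMk h hVH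
  have hhΦ : hh ≫ ΦH = ιV := Over.OverMorphism.ext hVΦ
  haveI : IsOpenImmersion hh.left := hVo
  haveI : IsOpenImmersion (PicF.XTmap f hh) :=
    MorphismProperty.of_isPullback (H27SymProd.isPullback_XTmap f hh).flip inferInstance
  let Pw := powOver f gn
  haveI : IsProper Pw.hom := isProper_powOver f gn
  haveI : ∀ i, IsClosedImmersion (sec f (H25Jac.coord f gn i)) := fun i => by
    haveI : IsClosedImmersion (sec f (H25Jac.coord f gn i) ≫ PicF.XTproj f Pw) := by
      rw [H12Pic.PicCurve.sec_proj]; infer_instance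
    exact IsClosedImmersion.of_comp (sec f (H25Jac.coord f gn i)) (PicF.XTproj f Pw)
  have hrad₀ := univ_radical hdim gn φ I₀ hI₀φ
  have hrad : I₀.comap (PicF.XTmap f hh) =
      Scheme.IdealSheafData.vanishingIdeal (I₀.comap (PicF.XTmap f hh)).support := by
    exact comap_radical_of_openImmersion (PicF.XTmap f hh) I₀ hrad₀
  have hcart : BlowUp.IsEffCartierIdeal (I₀.comap (PicF.XTmap f hh)) :=
    isEffCartierIdeal_comap_openImmersion (PicF.XTmap f hh) I₀ hI₀
  -- the criterion
  haveI : IsIso (One k).hom := inferInstanceAs (IsIso (𝟙 (Spec (CommRingCat.of k))))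
  haveI : IsIso (fst₁ f) := inferInstanceAs (IsIso (pullback.fst f (One k).hom))
  have hcrit : ∀ z : One k ⟶ J, Set.range (z ≫ χ.hom).left ⊆ (V : Set J₀.left) ↔
      hCls k (D.Φ z + gn • ptCls hdim σ) = 1 := by
    intro z
    obtain ⟨M₀, hM₀, hM₀z⟩ := exists_rep (D.Φ z)
    have hL₀ := H11Ample.isInvertible_pullback (fst₁ f) hM₀
    have hok : (ModFun.PicDeg f 0).ok (One k) (pb (fst₁ f) M₀) :=
      (H25Jac.ok_iff _ _).2 ⟨hL₀, fun t => by rw [degAt_fst₁ M₀ hM₀, ← degCls_pc M₀ hM₀, hM₀z]; exact D.deg_eq z⟩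
    have hz : ψ.app (One k) (pb (fst₁ f) M₀) trivial hok = z :=
      D.injective ((D.app M₀ hM₀ _ ⟨Iso.refl _⟩ _ _).trans hM₀z)
    have hxz : D₀.xU (z ≫ χ.hom) = unitCls hL₀ := by
      rw [← hz, hχ, D₀.xU_psi]
      refine H29Ell.norm_eq_self f σ.1 σ.2 _ (unitCls hL₀) ?_
      haveI : Subsingleton ↥(One k).left := inferInstanceAs (Subsingleton (PrimeSpectrum k))
      haveI : Nonempty ↥(One k).left := inferInstanceAs (Nonempty (PrimeSpectrum k))
      obtain ⟨e⟩ := H25Theta.nonempty_iso_of_subsingleton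
        (H11Ample.isInvertible_pullback (PicF.secT f σ.1 σ.2 (One k)) hL₀)
      exact Units.ext (Quot.sound ⟨e⟩)
    obtain ⟨M, hM, hMu⟩ := exists_rep (D.Φ z + gn • ptCls hdim σ)
    have hL := H11Ample.isInvertible_pullback (fst₁ f) hM
    have hu : unitCls hL = D₀.xU (z ≫ χ.hom) * (H25Jac.rho σ.2 gn (One k))⁻¹ := by
      rw [hxz]
      exact unitCls_twist hdim σ gn hM₀ hM (by rw [hMu, hM₀z]) hL₀ hL
    rw [hgood (One k) (z ≫ χ.hom) _ hL hu, isGood_point_iff hdim gn hg M hM ?_ hL, hMu]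
    rw [← degCls_pc M hM, hMu]
    have h := (sys (k := k) hdim).deg.map_add (D.Φ z) (gn • ptCls hdim σ)
    rw [map_nsmul, show (sys (k := k) hdim).deg (ptCls hdim σ) = 1 from (sys (k := k) hdim).deg_pt σ,
      show (sys (k := k) hdim).deg (D.Φ z) = 0 from D.deg_eq z] at h
    refine h.trans ?_
    simp
  refine ⟨W, ιV ≫ χ.inv, _, ?_, ?_, hcart, hrad, fun z hz => ?_, fun v => ?_⟩
  · haveI : IsIso χ.inv.left := inferInstanceAs (IsIso ((Over.forget _).map χ.inv))
    haveI : IsOpenImmersion ιV.left := inferInstanceAs (IsOpenImmersion V.ι)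
    rw [Over.comp_left]; infer_instance
  · obtain ⟨x, hx⟩ := hne
    rw [← hVr] at hx
    obtain ⟨v, -⟩ := hx
    exact ⟨v⟩
  · have hsub := (hcrit z).2 hz
    refine ⟨Over.homMk (IsOpenImmersion.lift V.ι (z ≫ χ.hom).left (by rw [Scheme.Opens.range_ι]; exact hsub)) ?_, ?_⟩
    · show _ ≫ V.ι ≫ J₀.hom = _
      rw [IsOpenImmersion.lift_fac_assoc]
      exact Over.w (z ≫ χ.hom)
    · rw [← Category.assoc, Iso.comp_inv_eq]
      exact Over.OverMorphism.ext (IsOpenImmersion.lift_fac _ _ _)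
  · have hv : hCls k (D.Φ (v ≫ ιV ≫ χ.inv) + gn • ptCls hdim σ) = 1 := by
      refine (hcrit _).1 ?_
      rw [Category.assoc, Category.assoc, χ.inv_hom_id, Category.comp_id]
      rintro _ ⟨x, rfl⟩
      exact (v.left x).2
    refine ⟨hv, ?_⟩
    obtain ⟨w, -, hw⟩ := (mem_ptSet_image φ isClosed_univ).1 (show v ≫ hh ∈ ptSet (φ.left '' Set.univ) by
      rw [mem_ptSet, Set.image_univ, φ.left.surjective.range_eq]; trivial)
    let wp : Fin gn → Pts k C := fun i => Pts.of (w ≫ H25Jac.coord f gn i)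
    have hprod : (List.ofFn fun i => (wp i).hom ≫ j).prod = v ≫ ιV ≫ χ.inv := by
      rw [← cancel_mono χ.hom, List.prod_ofFn, Category.assoc, Category.assoc, χ.inv_hom_id, Category.comp_id, ← hhΦ,
        ← Category.assoc v, ← hw, Category.assoc, hΦφ]
      have hl : ∀ {T T' : Over (Spec (CommRingCat.of k))} (a : T' ⟶ T) (F : Fin gn → (T ⟶ J₀)),
          a ≫ (∏ i, F i) = ∏ i, a ≫ F i := fun {T T'} a F => by
        rw [← List.prod_ofFn, comp_list_prod, List.map_ofFn, List.prod_ofFn]; rfl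
      have hr : ∀ (F : Fin gn → (One k ⟶ J)), (∏ i, F i) ≫ χ.hom = ∏ i, F i ≫ χ.hom := fun F =>
        map_prod (MonoidHom.mk' (fun a : One k ⟶ J => a ≫ χ.hom) fun a b => MonObj.mul_comp a b χ.hom) F _
      rw [hl, hr]
      refine Finset.prod_congr rfl fun i _ => ?_
      rw [Category.assoc, hjχ]
      exact Category.assoc _ _ _
    refine ⟨wp, ?_, hprod, ?_⟩
    · rw [← hprod, D.Φ_prod gn wp, sub_add_cancel]
    · rw [← Scheme.IdealSheafData.comap_comp, XTmap_slice, ← hw, ← XTmap_slice,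
        Scheme.IdealSheafData.comap_comp, hI₀φ]
      exact comap_slice_prod gn w

end Groth.Agent.H25Torelli
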